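import Cfsg.Agent.UGT.N2S.Bad
import Cfsg.Agent.UGT.N2S.Hon
import Cfsg.Agent.UGT.N2S.PairEnd
import Cfsg.Agent.UGT.Res.TwoCore
import Cfsg.Agent.UGT.ThEP.OfQ
import Cfsg.Agent.UGT.SLCore

/-!
# The honest configuration for `L₃(4)`, `x ∈ X = G`, `W = 1`

* `WI G`: the types, `O(L) = 1` and `[O(C(a)), L] = 1` for all triples `(x, a, L)` of type `L₃(4)`, and at most one `L`
  for each pair `(x, a)`.
* `worldC`: the world `TwoCore.World G Q34`. `one_of`: the field `one` from the others if `G` is simple.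
* `HonI x L`: `(x, t, L)` is a triple of type `L₃(4)` for all involutions `t` of `C(L) ∩ C(x)`, and there is a
  four-group of them.
* `qgrp`, `pin`: the hypotheses of `ThEP.PIn`. `WI.false_of`: the contradiction.
-/

set_option autoImplicit false
set_option linter.unusedSectionVars false

open Cfsg Subgroup
open Cfsg.Agent.SignalizersComponents Cfsg.Agent.Lib
open Cfsg.Agent.SignalizersComponents.IntrinsicBasic
open Cfsg.Agent.SignalizersComponents.PLayerAut
open Cfsg.Agent.Intrinsic.Basic Cfsg.Agent.Intrinsic.Cen Cfsg.Agent.Intrinsic.Diag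
open Cfsg.Agent.McLLyComp.Act
open Cfsg.Agent.UGT.Triple Cfsg.Agent.UGT.TriBase Cfsg.Agent.UGT.Res.Base
open Cfsg.Agent.UGT.Iface (Bar IsL2 IsL34 IsAltOdd)
open Cfsg.Agent.UGT.LTF.Defs
open Cfsg.Agent.UGT.LTF.Basics (img mem_img img_ne exists_inv)
open Cfsg.Agent.UGT.Res.Hon (exists_P isT_conj)
open Cfsg.Agent.UGT.Res.TwoPair (Tri)
open Cfsg.Agent.UGT.ThE.Base (IsT comm_of_mem L_conj L_conj' K_le_M K_conj)
open Cfsg.Agent.UGT.ThEL34 (Acts exists_acts acts_one_iff acts_one acts_of_mem acts_coe acts_norm)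
open Cfsg.Agent.UGT.N2S Cfsg.Agent.UGT.N2S.OneOut
open scoped commutatorElement

namespace Cfsg.Agent.UGT.N2W.HonIn

universe u

variable {G : Type u} [Group G]

/-- The world. -/
structure WI (G : Type u) [Group G] [Finite G] : Prop where
  typ : Typ G
  hon : ∀ {x a : G} {L : Subgroup G}, TT x a L → core L = ⊥
  cen : ∀ {x a : G} {L : Subgroup G}, TT x a L → core (centralizer ({a} : Set G)) ≤ centralizer (L : Set G)
  one : ∀ {x a : G} {L L' : Subgroup G}, IsTriple x a L → IsTriple x a L' → IsL34 (Bar L) →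
    IsL34 (Bar L') → L = L'

variable [Finite G]

/-! ### at most one component -/

section one

/-- two involutions of `L` are conjugate in `L` -/
theorem conj34' {L : Subgroup G} (h34 : IsL34 (Bar L)) {f g : G} (hf : f ∈ L) (hg : g ∈ L)
    (hfo : orderOf f = 2) (hgo : orderOf g = 2) : ∃ l ∈ L, l * f * l⁻¹ = g := by
  obtain ⟨A⟩ := LSup.exists_dat h34
  obtain ⟨l, hl⟩ := cls_of A (bar_sq hf (sq_of_order hfo)) (bar_ne hf hfo)
    (bar_sq hg (sq_of_order hgo)) (bar_ne hg hgo)
  obtain ⟨⟨l, hlL⟩, rfl⟩ := QuotientGroup.mk_surjective l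
  have h1 : (QuotientGroup.mk ⟨l * f * l⁻¹, mul_mem (mul_mem hlL hf) (inv_mem hlL)⟩ : Bar L) =
      QuotientGroup.mk ⟨g, hg⟩ := hl
  have hff := sq_of_order hfo
  have hgg := sq_of_order hgo
  have h2 : l * f * l⁻¹ * (l * f * l⁻¹) = 1 := by
    calc l * f * l⁻¹ * (l * f * l⁻¹) = l * (f * f) * l⁻¹ := by group
      _ = 1 := by rw [hff]; group
  have h3 : l * f * l⁻¹ * g ∈ core L := by
    have h4 := (mk_eq_iff (mul_mem (mul_mem hlL hf) (inv_mem hlL)) hg).mp h1
    have h5 : (l * f * l⁻¹)⁻¹ * g = l * f * l⁻¹ * g := by rw [inv_eq_of_mul_eq_one_left h2]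
    rwa [h5] at h4
  obtain ⟨w, hw, h6⟩ := SL.conj_of_coset (odd_card_core L) h2 hgg h3
  refine ⟨w * l, mul_mem (core_le L hw) hlL, ?_⟩
  rw [← h6]
  group

/-- the world of the triples of type `L₃(4)`, no hypothesis on the cores -/
theorem worldC (W : Typ G) : Res.TwoCore.World G Q34 where
  Qcj g h := q34_cj g h
  ex {x a L} T := by
    obtain ⟨e, he, ho, hc⟩ := LTF.Basics.exists_inv (N := L) (LTF.Basics.isPGroup_zpowers T.invx)
      (zpowers_le.mpr T.x_mem) T.comp.even
    exact ⟨e, he, ho, (hc x (mem_zpowers x)).symm⟩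
  four T hs ho := exists_four34 T.q hs ho
  simp T hl hll hf := simp34 T.q hl hll hf
  pump T hc hca hcx hf := by
    obtain ⟨N, S, hq, hor⟩ := OneGlue.p34 OneGlue.kfs W T.toIsTriple T.q hc hca hcx hf
    exact ⟨N, ⟨S, hq⟩, hor⟩
  conj T hf hg hfo hgo := conj34' T.q hf hg hfo hgo

/-- distinct 2-components of type `L₃(4)` of triples commute if they are honest -/
theorem comm_of_triples {x e : G} {N N' : Subgroup G} (hN : core N = ⊥) (T : IsTriple x e N) (T' : IsTriple x e N')
    (hne : N ≠ N') {n n' : G} (hn : n ∈ N) (hn' : n' ∈ N') : n * n' = n' * n := by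
  have h1 := (T.comp.comm_le_core T'.comp hne) (commutator_mem_commutator hn hn')
  rw [hN, bot_inf_eq, mem_bot, commutatorElement_eq_one_iff_mul_comm] at h1
  exact h1

theorem left_of (W : Typ G) (hon : ∀ {x a : G} {L : Subgroup G}, TT x a L → core L = ⊥) {e : G} {N N' : Subgroup G}
    (hne : N ≠ N') (h : Res.TwoCore.TP Q34 e N N') : ∀ t ∈ N', orderOf t = 2 → IsComp (centralizer ({t} : Set G)) N := by
  intro t ht hto
  obtain ⟨x, T, T', htx, P, S, hP⟩ := Res.TwoCore.TP.all (worldC W) hne h ht hto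
  have hN := hon ⟨T.toIsTriple, T.q⟩
  have hPc := hon ⟨S.toIsTriple, S.q⟩
  have hle : N ≤ centralizer ({t} : Set G) := fun n hn =>
    mem_c (comm_of_triples hN T.toIsTriple T'.toIsTriple hne hn ht)
  rw [Res.CoreFree.cen_eq T.comp hle, hPc, sup_bot_eq] at hP
  rw [hP]
  exact S.comp

/-- **at most one `L`** -/
theorem one_of (hS : IsSimpleGroup G) (W : Typ G)
    (hon : ∀ {x a : G} {L : Subgroup G}, TT x a L → core L = ⊥) {x a : G} {L L' : Subgroup G}
    (T : IsTriple x a L) (T' : IsTriple x a L') (h : IsL34 (Bar L)) (h' : IsL34 (Bar L')) : L = L' := by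
  by_contra hne
  obtain ⟨e, N, N', hne', h1, h2⟩ := Res.TwoCore.exists_tp (worldC W) (Q := Q34) ⟨T, h⟩ ⟨T', h'⟩ hne
  obtain ⟨y, t, S, S', -⟩ := id h1
  have hN := hon ⟨S.toIsTriple, S.q⟩
  have hN' := hon ⟨S'.toIsTriple, S'.q⟩
  have htop : IsSimpleGroup ↥(⊤ : Subgroup G) := Subgroup.topEquiv.isSimpleGroup
  exact PairEnd.false_of_pair htop (fun _ _ => mem_top _) y e N N'
    ⟨S, S', hne', hN, hN', fun n hn n' hn' => comm_of_triples hN S.toIsTriple S'.toIsTriple hne' hn hn',
      left_of W hon hne' h1, left_of W hon hne'.symm h2⟩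

end one

section world

variable {x a : G} {L : Subgroup G}

omit [Finite G] in
/-- `C(x) ∩ C(a)` normalizes `L` -/
theorem WI.norm [Finite G] (W : WI G) (T : TT x a L) {k : G} (hkx : k * x = x * k) (hka : k * a = a * k) :
    k ∈ normalizer (L : Set G) := by
  have h1 := T.cj k
  rw [hkx, hka, mul_inv_cancel_right, mul_inv_cancel_right] at h1
  rw [mem_normalizer_iff_cj]
  exact (W.one T.toIsTriple h1.toIsTriple T.l34 h1.l34).symm

/-- trivial pump-ups -/
theorem WI.pump1 (W : WI G) (K : KFs.{u}) (T : TT x a L) (hL : core L = ⊥) {c : G}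
    (hc : IsT L x c) (hca : c * a = a * c) : ∃ N, TT x c N ∧ L ≤ N ∧ L ⊔ core N = N := by
  have hf := fixes_of_comm hc.mem
  obtain ⟨N, hN, h34, hor⟩ := pump34 K W.typ T.toIsTriple T.l34 (order_isT hc) hca hc.comm hf
  rw [cen_eq T.toIsTriple hL hc.sq hca hc.mem] at hor
  rcases hor with ⟨-, h2, h3⟩ | ⟨h1, -⟩
  · exact ⟨N, ⟨hN, h34⟩, h2, h3⟩
  · exact absurd (mem_normalizer_iff_cj.mp (W.norm ⟨hN, h34⟩ T.comm hca.symm)) h1

/-- **`O(C_L(x)) ≤ O(C(x f))`.** -/
theorem WI.bad34 (W : WI G) (K : KFs.{u}) (T : TT x a L) {w f : G}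
    (hw : IsT L x w) (hwa : w * a = a * w) (hne : w ≠ a) (hf : IsT L x f) (hfa : f * a = a * f)
    (hfw : f * w = w * f) {y : G} (hy : y ∈ L) (hy3 : y ^ 3 = 1) (hyx : y * x = x * y) :
    y ∈ core (centralizer ({x * f} : Set G)) := by
  by_contra hn
  have hL := W.hon T
  have hx2 := sq_of_order T.invx
  have ha2 := sq_of_order T.inva
  have hxf : x ≠ f := by
    rintro rfl
    exact T.not_fixes (fixes_of_comm hf.mem)
  have hfx := hf.comm
  have he : orderOf (x * f) = 2 := order_mul hx2 hf.sq hfx.symm hxf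
  obtain ⟨e, hee⟩ : ∃ e, e = x * f := ⟨_, rfl⟩
  have he2 : e * e = 1 := by rw [hee]; exact sq_of_order he
  have cfx : Commute f x := hfx
  have cfa : Commute f a := hfa
  have cfw : Commute f w := hfw
  have cwx : Commute w x := hw.comm
  have cwa : Commute w a := hwa
  have cax : Commute a x := T.comm
  have cyx : Commute y x := hyx
  have haK := mem_K T.toIsTriple
  have hTa : IsT L x a := ⟨haK, T.comm, ha2, ne_one_of_order T.inva⟩
  have hTwa : IsT L x (w * a) := by
    refine ⟨mul_mem hw.mem haK, (cwx.mul_left cax).eq, ?_, fun h => hne ?_⟩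
    · calc w * a * (w * a) = w * (a * w) * a := by group
        _ = (w * w) * (a * a) := by rw [← hwa]; group
        _ = 1 := by rw [hw.sq, ha2, one_mul]
    · have := eq_inv_of_mul_eq_one_left h
      rwa [inv_eq_of_mul_eq_one_left ha2] at this
  have hyc : y ∈ core (centralizer ({x} : Set G)) := K.mem_core T hL hy hy3 hyx
  have cy' : ∀ {k}, k ∈ centralizer (L : Set G) → Commute y k := fun hk => comm_of_mem hy hk
  have hye : y * e = e * y := by rw [hee]; exact (cyx.mul_right (cy' hf.mem)).eq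
  have hex : e * x = x * e := by rw [hee]; exact ((Commute.refl x).mul_left cfx).eq
  obtain ⟨J, TJ, hfJ⟩ := exists_triple T.invx he (by rw [← hee]; exact hex) hyc
    (mem_c (by rw [← hee]; exact hye)) hn
  rw [← hee] at TJ
  have hyJ := TJ.mem_normalizer_of_core hyc (mem_c hye)
  -- for the three involutions `v`
  have hv : ∀ v, IsT L x v → v * a = a * v → f * v = v * f → v * e = e * v ∧ v * y = y * v ∧
      (∀ M, IsComp (centralizer ({e} : Set G) ⊓ centralizer ({v} : Set G)) M → Fixes y M) ∧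
      v ∈ normalizer (J : Set G) := by
    intro v hv hva hfv
    have cvx : Commute v x := hv.comm
    have cfv : Commute f v := hfv
    have hve : v * e = e * v := by rw [hee]; exact (cvx.mul_right cfv.symm).eq
    have hvy : v * y = y * v := (comm_of_mem hy hv.mem).symm
    obtain ⟨N, TN, hLN, hsup⟩ := W.pump1 K T hL hv hva
    have hfN : Fixes f N := by
      have h1 := W.norm TN hfx hfv
      exact (fixes_iff_of_sup hsup (K_le_M hf.mem) h1).mp (fixes_of_comm hf.mem)
    have hact : Fixes (e * x⁻¹) N := by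
      have h1 : e * x⁻¹ = f := by rw [hee, ← hfx, mul_inv_cancel_right]
      rwa [h1]
    have hkill : ∀ M, IsComp (centralizer ({e} : Set G) ⊓ centralizer ({v} : Set G)) M → Fixes y M := by
      intro M hM
      rw [inf_comm] at hM
      exact K.kill34 TN he2 hve.symm (mem_c hye) (hLN hy) hact hM
    exact ⟨hve, hvy, hkill, moved_norm TJ hyc (mem_c hye) hfJ hv.sq hve hvy hkill⟩
  obtain ⟨hae, hay, hka, haJ⟩ := hv a hTa rfl hfa
  obtain ⟨hwe, hwy, hkw, hwJ⟩ := hv w hw hwa hfw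
  obtain ⟨hwae, hway, hkwa, hwaJ⟩ := hv (w * a) hTwa (cwa.mul_left (Commute.refl a)).eq
    (cfw.mul_right cfa).eq
  -- all three act as `x`: impossible
  have hthree : Fixes (a * x⁻¹) J → Fixes (w * x⁻¹) J → Fixes (w * a * x⁻¹) J → False := by
    intro h1 h2 h3
    apply TJ.not_fixes
    have b₁ := fixes_mul h2 (fixes_inv h1)
    have b₂ : w * x⁻¹ * (a * x⁻¹)⁻¹ = w * a := by
      rw [mul_inv_rev, inv_inv, inv_eq_of_mul_eq_one_left ha2]
      group
    rw [b₂] at b₁
    have b₃ := fixes_mul (fixes_inv h3) b₁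
    have b₄ : (w * a * x⁻¹)⁻¹ * (w * a) = x := by group
    rwa [b₄] at b₃
  -- the 2-group `S`
  obtain ⟨S, hS⟩ : ∃ S, S = zpowers x ⊔ zpowers w ⊔ zpowers a := ⟨_, rfl⟩
  have hS2 : IsPGroup 2 ↥S := by
    rw [hS]
    exact isPGroup_three hx2 hw.sq ha2 hw.comm T.comm hwa.symm
  have hxS : x ∈ S := by rw [hS]; exact mem_sup_left (mem_sup_left (mem_zpowers x))
  have hwS : w ∈ S := by rw [hS]; exact mem_sup_left (mem_sup_right (mem_zpowers w))
  have haS : a ∈ S := by rw [hS]; exact mem_sup_right (mem_zpowers a)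
  have hSJ : S ≤ normalizer (J : Set G) := by
    rw [hS]
    exact sup_le (sup_le (zpowers_le.mpr TJ.x_mem) (zpowers_le.mpr hwJ)) (zpowers_le.mpr haJ)
  have hLe : ∀ l ∈ L, l * x = x * l → l * e = e * l := by
    intro l hl hlx
    rw [hee]
    exact ((show Commute l x from hlx).mul_right (comm_of_mem hl hf.mem)).eq
  rcases W.typ TJ with h2 | hA | h34
  · -- `L₂(q)`
    by_cases hin : ∃ l, act J ⟨y, hyJ⟩ = MulAut.conj l
    · obtain ⟨l, hl⟩ := hin
      exact hthree
        (K.cent2 TJ h2 hyc (mem_c hye) hfJ hy3 hl ha2 hae T.comm hay haJ hka)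
        (K.cent2 TJ h2 hyc (mem_c hye) hfJ hy3 hl hw.sq hwe hw.comm hwy hwJ hkw)
        (K.cent2 TJ h2 hyc (mem_c hye) hfJ hy3 hl hTwa.sq hwae hTwa.comm hway hwaJ hkwa)
    · obtain ⟨v, hvJ, hv2, hvS⟩ := exists_inv hS2 hSJ TJ.comp.even
      have hvx : v * x = x * v := (hvS x hxS).symm
      have hva : v * a = a * v := (hvS a haS).symm
      have hvL := W.norm T hvx hva
      obtain ⟨b₀, hb₀, hb₀2, hb₀x⟩ := K.exists_b T hL
      have hev : 2 ∣ Nat.card ↥(L ⊓ centralizer ({x} : Set G)) := by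
        have h5 := Subgroup.orderOf_dvd_natCard (L ⊓ centralizer ({x} : Set G)) ⟨hb₀, mem_c hb₀x⟩
        rwa [hb₀2] at h5
      obtain ⟨b, hb, hb2, hbv⟩ := exists_inv (isPGroup_of_sq (sq_of_order hv2)) (N := L ⊓ centralizer ({x} : Set G))
        (by
          rw [zpowers_le, mem_normalizer_iff_cj, cj_inf, mem_normalizer_iff_cj.mp hvL, cj_centralizer]
          rw [show v * x * v⁻¹ = x by rw [hvx, mul_inv_cancel_right]]) hev
      have hbx : b * x = x * b := comm_c hb.2
      have hbe := hLe b hb.1 hbx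
      have hbJ : b ∉ normalizer (J : Set G) := by
        intro hbJ
        apply hin
        have hby : b * y * b⁻¹ = y⁻¹ := K.inv T hL hb.1 (sq_of_order hb2) (ne_one_of_order hb2) hbx hy hy3 hyx
        refine K.k2.out _ h2 (act J ⟨b, hbJ⟩) _ ?_ ?_
        · rw [← map_pow]
          have h3 : (⟨y, hyJ⟩ : ↥(normalizer (J : Set G))) ^ 3 = 1 := Subtype.ext hy3
          rw [h3, map_one]
        · rw [← act_inv hbJ, ← act_mul hbJ hyJ, ← act_mul (mul_mem hbJ hyJ) (inv_mem hbJ), ← act_inv hyJ]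
          exact act_congr _ hby
      exact K.no_share W.typ TJ (mem_c hbe) hbJ hvJ hv2 (hbv v (mem_zpowers v)).symm
  · -- `Aₙ`
    obtain ⟨hE3, hC⟩ := K.kA _ hA _ (Res.KFacts.act_sq TJ) _ (oddC' TJ) (img_ne TJ)
    obtain ⟨C, hCm⟩ : ∃ C : Subgroup (Bar J), ∀ c, c ∈ C ↔ ∀ ε ∈ img x e J, ε c = c :=
      ⟨{ carrier := {c | ∀ ε ∈ img x e J, ε c = c}
         mul_mem' := fun {p q} hp hq ε hε => by rw [map_mul, hp ε hε, hq ε hε]
         one_mem' := fun ε _ => map_one ε
         inv_mem' := fun {p} hp ε hε => by rw [map_inv, hp ε hε] }, fun _ => Iff.rfl⟩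
    have hC2 := hC C hCm
    obtain ⟨N, hN⟩ : ∃ N : Subgroup G, N = (C.comap (QuotientGroup.mk' (oddCore ↥J))).map J.subtype := ⟨_, rfl⟩
    have hNJ : N ≤ J := by rw [hN]; exact map_subtype_le _
    have hNm : ∀ m (hm : m ∈ J), m ∈ N ↔ (QuotientGroup.mk ⟨m, hm⟩ : Bar J) ∈ C := by
      intro m hm
      rw [hN]
      constructor
      · rintro ⟨m', hm', rfl⟩
        exact hm'
      · intro h
        exact ⟨⟨m, hm⟩, h, rfl⟩
    have hN2 : 2 ∣ Nat.card N := by
      have h1 : Nat.card N = Nat.card (C.comap (QuotientGroup.mk' (oddCore ↥J))) := by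
        rw [hN]; exact card_map_of_injective (subtype_injective _)
      rw [h1]
      have h5 : (C.comap (QuotientGroup.mk' (oddCore ↥J))).map (QuotientGroup.mk' (oddCore ↥J)) = C :=
        map_comap_eq_self_of_surjective (QuotientGroup.mk'_surjective _) C
      have h3 := card_map_dvd (C.comap (QuotientGroup.mk' (oddCore ↥J))) (QuotientGroup.mk' (oddCore ↥J))
      rw [h5] at h3
      exact hC2.trans h3
    -- `S` normalizes `N`
    have hSN : ∀ s, s * x = x * s → s * e = e * s → s ∈ normalizer (J : Set G) → ∀ m ∈ N, s * m * s⁻¹ ∈ N := by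
      intro s hsx hse hsJ m hm
      have hmJ := hNJ hm
      rw [hNm _ (conj_mem hsJ hmJ), ← act_mk hsJ hmJ, hCm]
      intro ε hε
      obtain ⟨d, hdJ, hd, hde, rfl⟩ := mem_img.mp hε
      have hsJ' := inv_mem hsJ
      have h5 : act J ⟨s⁻¹ * d * s, mul_mem (mul_mem hsJ' hdJ) hsJ⟩ ∈ img x e J := by
        refine mem_img.mpr ⟨_, _, ?_, ?_, rfl⟩
        · have h6 := conj_core (inv_mem (mem_c hsx)) hd
          rwa [inv_inv] at h6
        · have c1 : Commute s e := hse
          exact ((c1.inv_left.mul_left (show Commute d e from hde)).mul_left c1).eq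
      have h6 := (hCm _).mp ((hNm m hmJ).mp hm) _ h5
      rw [act_mul (mul_mem hsJ' hdJ) hsJ, act_mul hsJ' hdJ, act_inv hsJ] at h6
      have h7 := congrArg (act J ⟨s, hsJ⟩) h6
      have h8 : ∀ z, act J ⟨s, hsJ⟩ ((act J ⟨s, hsJ⟩)⁻¹ z) = z := by
        intro z
        rw [← MulAut.mul_apply, mul_inv_cancel, MulAut.one_apply]
      rw [MulAut.mul_apply, MulAut.mul_apply, h8] at h7
      exact h7
    have hSnorm : S ≤ normalizer (N : Set G) := by
      have key : ∀ s, s * s = 1 → s * x = x * s → s * e = e * s → s ∈ normalizer (J : Set G) →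
          s ∈ normalizer (N : Set G) := by
        intro s hss hsx hse hsJ
        rw [mem_normalizer_iff]
        intro m
        refine ⟨hSN s hsx hse hsJ m, fun h => ?_⟩
        have h1 := hSN s hsx hse hsJ _ h
        have h2 : s * (s * m * s⁻¹) * s⁻¹ = m := by
          rw [inv_eq_of_mul_eq_one_left hss]
          calc s * (s * m * s) * s = (s * s) * m * (s * s) := by group
            _ = m := by rw [hss]; group
        rwa [h2] at h1
      rw [hS]
      exact sup_le (sup_le (zpowers_le.mpr (key x hx2 rfl hex.symm TJ.x_mem))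
        (zpowers_le.mpr (key w hw.sq hw.comm hwe hwJ))) (zpowers_le.mpr (key a ha2 T.comm hae haJ))
    obtain ⟨v, hvN, hv2, hvS⟩ := exists_inv hS2 hSnorm hN2
    have hvJ := hNJ hvN
    have hvx : v * x = x * v := (hvS x hxS).symm
    have hva : v * a = a * v := (hvS a haS).symm
    have hvL := W.norm T hvx hva
    -- `v` centralizes `O(C_L(x))`
    have hvY : ∀ z ∈ L, z ^ 3 = 1 → z * x = x * z → z * v = v * z := by
      intro z hz hz3 hzx
      have hzc := K.mem_core T hL hz hz3 hzx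
      have hze := hLe z hz hzx
      have hzJ := TJ.mem_normalizer_of_core hzc (mem_c hze)
      have h5 := (hCm _).mp ((hNm v hvJ).mp hvN) _ (mem_img.mpr ⟨z, hzJ, hzc, hze, rfl⟩)
      rw [act_mk hzJ hvJ, mk_eq_iff] at h5
      -- `[z, v] ∈ core J`
      have h6 : z * v * z⁻¹ * v⁻¹ ∈ core J := by
        have h7 := conj_mem_core (le_normalizer hvJ) (inv_mem h5)
        convert h7 using 1
        group
      have h7 : z * v * z⁻¹ * v⁻¹ ∈ core (centralizer ({x * f} : Set G)) := by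
        rw [← hee]
        exact TJ.comp.core_le_core h6
      have h8 : z * v * z⁻¹ * v⁻¹ ∈ L := by
        have h9 : z * v * z⁻¹ * v⁻¹ = z * (v * z⁻¹ * v⁻¹) := by group
        rw [h9]
        exact mul_mem hz (conj_mem hvL (inv_mem hz))
      have h9 := K.inf_eq_one T hL hf.mem hy hy3 hyx hn h8 h7
      exact mul_inv_eq_iff_eq_mul.mp (mul_inv_eq_one.mp h9)
    obtain ⟨ξ, hξ, F, F3⟩ := K.honest T hL
    obtain ⟨β, hβ⟩ := exists_acts hvL
    have hβ' : β = 1 ∨ β = ξ := by
      refine cy F F3.toFacts2 (hβ.sq (sq_of_order hv2)) (hβ.comm hξ hvx) fun z hz3 hzx => ?_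
      rw [hβ.fix_iff]
      exact (hvY z z.2 (congrArg Subtype.val hz3) ((hξ.fix_iff z).mp hzx).symm).symm
    -- an element of order 4
    obtain ⟨s, hs1, hs2, hs3⟩ := F3.exs
    obtain ⟨r, hr, hrs⟩ := F3.sq4 s hs1 hs2 hs3
    have hrx : (r : G) * x = x * r := ((hξ.fix_iff r).mp hr).symm
    have hre := hLe r r.2 hrx
    have hrv : (r : G) * v = v * r := by
      have h5 : β r = r := by
        rcases hβ' with h | h
        · rw [h, MulAut.one_apply]
        · rw [h]; exact hr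
      exact ((hβ.fix_iff r).mp h5).symm
    have hrr : (r : G) * r = s := congrArg Subtype.val hrs
    have hinv := K.inv T hL s.2 (congrArg Subtype.val hs1) (fun h => hs2 (Subtype.ext h))
      ((hξ.fix_iff s).mp hs3).symm hy hy3 hyx
    have hrJ := not_norm_of_three TJ hE3 hyc hye hfJ hy3 hrx hre (w₀ := (r : G)) (by rw [hrr]; exact hinv)
    exact K.no_share W.typ TJ (mem_c hre) hrJ hvJ hv2 hrv
  · -- `L₃(4)`
    exact hthree
      (K.cent34 ⟨TJ, h34⟩ hyc (mem_c hye) hfJ ha2 hae T.comm hay haJ hka)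
      (K.cent34 ⟨TJ, h34⟩ hyc (mem_c hye) hfJ hw.sq hwe hw.comm hwy hwJ hkw)
      (K.cent34 ⟨TJ, h34⟩ hyc (mem_c hye) hfJ hTwa.sq hwae hTwa.comm hway hwaJ hkwa)


end world

/-- The honest configuration. -/
structure HonI (x : G) (L : Subgroup G) : Prop where
  ox : orderOf x = 2
  good : ∀ {t : G}, IsT L x t → TT x t L
  four : ∃ t u : G, IsT L x t ∧ IsT L x u ∧ t ≠ u ∧ t * u = u * t

section hon

variable {x a : G} {L : Subgroup G}

theorem step34 (W : WI G) (K : KFs.{u}) (T : TT x a L) {t : G}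
    (ht : IsT L x t) (hta : t * a = a * t) : TT x t L := by
  by_cases hne : t = a
  · rw [hne]; exact T
  obtain ⟨N, hN, hle, hsup⟩ := W.pump1 K T (W.hon T) ht hta
  rw [W.hon hN, sup_bot_eq] at hsup
  rw [hsup]
  exact hN

/-- **the honest configuration** -/
theorem hon_of (W : WI G) (K : KFs.{u}) (T : TT x a L)
    (four : ∃ t u : G, IsT L x t ∧ IsT L x u ∧ t ≠ u ∧ t * u = u * t) : HonI x L := by
  refine ⟨T.invx, ?_, four⟩
  intro t ht
  have hka := mem_K T.toIsTriple
  obtain ⟨P, z, hP2, hPL, hPx, htP, hzP, hz, hzc, hcj⟩ := exists_P ht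
  obtain ⟨g, hgL, hgx, hg⟩ := hcj (zpowers a) (isPGroup_of_sq (sq_of_order T.inva))
    (zpowers_le.mpr hka) (fun r hr => by
      obtain ⟨k, rfl⟩ := mem_zpowers_iff.mp hr
      exact (Commute.zpow_left (show Commute a x from T.comm) k).eq)
  have hgP := hg a (mem_zpowers a)
  have T' := T.cj g
  rw [hgx, mul_inv_cancel_right, mem_normalizer_iff_cj.mp (K_le_M hgL)] at T'
  have Tz := step34 W K T' hz (hzc _ hgP).symm
  exact step34 W K Tz ht (hzc _ htP)

theorem HonI.partner (h : HonI x L) {t : G} (ht : IsT L x t) : ∃ u, IsT L x u ∧ u ≠ t ∧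
    u * t = t * u := by
  obtain ⟨P, z, hP2, hPL, hPx, htP, hzP, hz, hzc, hcj⟩ := exists_P ht
  by_cases hzt : z = t
  · subst hzt
    obtain ⟨t₁, u₁, h1, h2, h3, h4⟩ := h.four
    have h5 : IsPGroup 2 ↥(zpowers t₁ ⊔ zpowers u₁) := by
      refine Tri.isPGroup_sup_zpowers (isPGroup_of_sq h1.sq) ?_ (n := 1) ?_
      · rw [mem_normalizer_iff_cj, cj, MonoidHom.map_zpowers]
        have : (MulAut.conj u₁).toMonoidHom t₁ = t₁ := by
          simp only [MulEquiv.coe_toMonoidHom, MulAut.conj_apply]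
          rw [← h4, mul_inv_cancel_right]
        rw [this]
      · rw [pow_one, pow_two, h2.sq]
    obtain ⟨g, hgL, hgx, hg⟩ := hcj (zpowers t₁ ⊔ zpowers u₁) h5
      (sup_le (zpowers_le.mpr h1.mem) (zpowers_le.mpr h2.mem)) (by
        have : zpowers t₁ ⊔ zpowers u₁ ≤ centralizer ({x} : Set G) :=
          sup_le (zpowers_le.mpr (mem_c h1.comm)) (zpowers_le.mpr (mem_c h2.comm))
        exact fun r hr => comm_c (this hr))
    have g1 := hg t₁ (mem_sup_left (mem_zpowers t₁))
    have g2 := hg u₁ (mem_sup_right (mem_zpowers u₁))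
    have k1 := isT_conj (K_le_M hgL) hgx h1
    have k2 := isT_conj (K_le_M hgL) hgx h2
    by_cases hne : g * t₁ * g⁻¹ = z
    · refine ⟨_, k2, ?_, hzc _ g2⟩
      rintro h6
      apply h3
      have h7 := hne.trans h6.symm
      simpa using h7
    · exact ⟨_, k1, hne, hzc _ g1⟩
  · exact ⟨z, hz, hzt, (hzc _ htP).symm⟩

theorem HonI.bot (W : WI G) (h : HonI x L) : core L = ⊥ := by
  obtain ⟨t, u, ht, -⟩ := h.four
  exact W.hon (h.good ht)

/-- `O(C_L(x)) ≤ O(C(x))` -/
theorem HonI.bad (W : WI G) (K : KFs.{u}) (h : HonI x L) {y : G} (hy : y ∈ L) (hy3 : y ^ 3 = 1)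
    (hyx : y * x = x * y) : y ∈ core (centralizer ({x} : Set G)) := by
  obtain ⟨t, u, ht, -⟩ := h.four
  exact K.mem_core (h.good ht) (h.bot W) hy hy3 hyx

/-- `x t` is bad as well -/
theorem HonI.mul (W : WI G) (K : KFs.{u}) (h : HonI x L) {t : G} (ht : IsT L x t) :
    HonI (x * t) L := by
  have T := h.good ht
  obtain ⟨u, hu, hne, hc⟩ := h.partner ht
  have hcore := W.hon T
  have hxt : x ≠ t := by
    rintro rfl
    exact T.not_fixes (fixes_of_comm ht.mem)
  have he : orderOf (x * t) = 2 := order_mul (sq_of_order h.ox) ht.sq ht.comm.symm hxt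
  obtain ⟨ξ, hξ, F, F3⟩ := K.honest T hcore
  obtain ⟨y, z, hy3, hyx, hz3, hzx, hy1, hz1, hyz, hyz'⟩ := F.indep
  have hy := W.bad34 K T hu hc hne ht rfl hc.symm y.2 (congrArg Subtype.val hy3)
    ((hξ.fix_iff y).mp hyx).symm
  have ctx : Commute t x := ht.comm
  have cux : Commute u x := hu.comm
  have cut : Commute u t := hc
  have T' : TT (x * t) t L := by
    refine ⟨⟨he, order_isT ht, (ctx.mul_right (Commute.refl t)).eq, T.comp, y, hy, ?_, fun hf => ?_⟩, T.l34⟩
    · exact mem_c (mem_centralizer_iff.mp ht.mem y y.2)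
    · apply hy1
      apply F.cl
      have h1 := comm_of_fixes hcore hf
      exact (acts_coe y).uniq (acts_one_iff.mpr h1)
  exact hon_of W K T' ⟨t, u, ⟨ht.mem, (ctx.mul_right (Commute.refl t)).eq, ht.sq, ht.ne⟩,
    ⟨hu.mem, (cux.mul_right cut).eq, hu.sq, hu.ne⟩, hne.symm, hc.symm⟩

/-- conjugation -/
theorem HonI.conj (h : HonI x L) (g : G) : HonI (g * x * g⁻¹) (cj g L) := by
  have hT : ∀ {x : G} {L : Subgroup G} {t : G} (g : G), IsT L x t → IsT (cj g L) (g * x * g⁻¹) (g * t * g⁻¹) := by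
    intro x L t g ht
    refine ⟨?_, ?_, ?_, ?_⟩
    · rw [mem_centralizer_iff]
      intro l hl
      obtain ⟨l', hl', rfl⟩ := hl
      have h1 := comm_of_mem hl' ht.mem
      change g * l' * g⁻¹ * (g * t * g⁻¹) = g * t * g⁻¹ * (g * l' * g⁻¹)
      calc g * l' * g⁻¹ * (g * t * g⁻¹) = g * (l' * t) * g⁻¹ := by group
        _ = g * (t * l') * g⁻¹ := by rw [h1]
        _ = _ := by group
    · calc g * t * g⁻¹ * (g * x * g⁻¹) = g * (t * x) * g⁻¹ := by group
        _ = g * (x * t) * g⁻¹ := by rw [ht.comm]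
        _ = _ := by group
    · calc g * t * g⁻¹ * (g * t * g⁻¹) = g * (t * t) * g⁻¹ := by group
        _ = 1 := by rw [ht.sq]; group
    · intro h
      apply ht.ne
      have : t = g⁻¹ * (g * t * g⁻¹) * g := by group
      rw [this, h]; group
  refine ⟨?_, fun {t} ht => ?_, ?_⟩
  · have h1 := (MulAut.conj g).orderOf_eq x
    rw [h.ox] at h1
    exact h1
  · have h1 := hT g⁻¹ ht
    rw [cj_inv_cj] at h1
    have e1 : g⁻¹ * (g * x * g⁻¹) * g⁻¹⁻¹ = x := by group
    rw [e1] at h1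
    have h4 := (h.good h1).cj g
    have e2 : g * (g⁻¹ * t * g⁻¹⁻¹) * g⁻¹ = t := by group
    rwa [e2] at h4
  · obtain ⟨t, u, ht, hu, hne, hc⟩ := h.four
    refine ⟨_, _, hT g ht, hT g hu, fun h => hne ?_, ?_⟩
    · exact mul_left_cancel (mul_right_cancel h)
    · calc g * t * g⁻¹ * (g * u * g⁻¹) = g * (t * u) * g⁻¹ := by group
        _ = g * (u * t) * g⁻¹ := by rw [hc]
        _ = _ := by group

/-- the conjugates of `L` in `C(e)` do not commute with `L`: the first half of `~` -/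
theorem HonI.cmp_of_comm (K : KFs.{u}) {e : G} {L L' : Subgroup G} (hb : core L' = ⊥) (h : HonI e L)
    {a' : G} (T' : TT e a' L') (hc : Blk.Comm L L') :
    ∀ t ∈ L', orderOf t = 2 → Blk.Cmp (⊤ ⊓ centralizer ({t} : Set G)) L := by
  obtain ⟨b, hb', hb2, hbe⟩ := K.exists_b T' hb
  have h1 : IsT L e b := ⟨mem_centralizer_iff.mpr fun l hl => hc l hl b hb', hbe, sq_of_order hb2,
    ne_one_of_order hb2⟩
  intro t ht ht2
  rw [top_inf_eq]
  exact Blk.Twin.Hyp.cmp_all hc (fun t ht u hu ht2 hu2 => OneOut.conj34 T'.l34 hb ht hu ht2 hu2) hb' hb2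
    (Res.TwoSup.cmp_of_isComp (h.good h1).comp) t ht ht2

/-- `e` is bad for `L` and `L'`, which commute: they are a pair -/
theorem HonI.rel (W : WI G) (K : KFs.{u}) {e : G} {L L' : Subgroup G} (h : HonI e L)
    (h' : HonI e L') (hc : Blk.Comm L L') (hne : L ≠ L') : Blk.Rel ⊤ L L' := by
  obtain ⟨t, -, ht, -⟩ := h.four
  obtain ⟨t', -, ht', -⟩ := h'.four
  have T := h.good ht
  have T' := h'.good ht'
  exact ⟨le_top, le_top, hne, hc, h.cmp_of_comm K (W.hon T') T' hc,
    h'.cmp_of_comm K (W.hon T) T hc.symm⟩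

/-- no `~`-pairs of type `L₃(4)` -/
theorem noRel (hS : IsSimpleGroup G) : NoRel G := by
  rintro L P ⟨x, a, T, hc⟩ ⟨x', a', T', hc'⟩ h
  have htop : IsSimpleGroup ↥(⊤ : Subgroup G) := Subgroup.topEquiv.isSimpleGroup
  exact PairBase.false_of_rel34 htop (fun _ _ => mem_top _) (fun _ M => PairEnd.ad34 M) h ⟨x, a, T, hc⟩
    ⟨x', a', T', hc'⟩

/-- **no commuting conjugates in `C(e)`** -/
theorem HonI.nc (W : WI G) (K : KFs.{u}) (nr : NoRel G) {e : G} (h : HonI e L) {g : G}
    (hg : g * e = e * g) : ¬ ∀ l ∈ L, g * l * g⁻¹ ∈ centralizer (L : Set G) := by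
  intro hL
  have h' := h.conj g
  rw [hg, mul_inv_cancel_right] at h'
  obtain ⟨t, -, ht, -⟩ := h.four
  have T := h.good ht
  have hbot := W.hon T
  have hc : Blk.Comm L (cj g L) := by
    rintro a ha _ ⟨l, hl, rfl⟩
    exact mem_centralizer_iff.mp (hL l hl) a ha
  have hne : L ≠ cj g L := by
    intro he
    rw [← he] at hc
    exact not_comm_self T hbot K hc
  refine nr ⟨e, t, T, hbot⟩ ⟨e, g * t * g⁻¹, ?_, ?_⟩ (h.rel W K h' hc hne)
  · have := T.cj g
    rwa [hg, mul_inv_cancel_right] at this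
  · rw [core_cj, hbot, cj, Subgroup.map_bot]

/-- **the hypotheses of `CE.L34.QGrp.main`** -/
theorem qgrp (W : WI G) (K : KFs.{u}) (nr : NoRel G) (L : Subgroup G) :
    CE.L34.QGrp (fun t : G => core (centralizer ({t} : Set G))) L (fun e => HonI e L) where
  Ocj g t a ha := by
    have h1 : g * a * g⁻¹ ∈ cj g (core (centralizer ({t} : Set G))) := ⟨a, ha, rfl⟩
    rwa [← core_cj, cj_centralizer] at h1
  Oc _ a ha := comm_c (core_le _ ha)
  odd _ := odd_card_core _
  sq h := sq_of_order h.ox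
  facts h := by
    obtain ⟨t, -, ht, -⟩ := h.four
    obtain ⟨ξ, hξ, F, F3⟩ := K.honest (h.good ht) (h.bot W)
    exact ⟨ξ, hξ, F3⟩
  c5 h ξ hξ := by
    obtain ⟨t, -, ht, -⟩ := h.four
    have T := h.good ht
    obtain ⟨E, hE, hne, -⟩ := exists_E T.toIsTriple hξ
    exact CE.L34.facts5_of (isL34_self T (h.bot W)) (hξ.sq (sq_of_order h.ox)) hE hne
  Oodd t := odd_card_core _
  Bt h t ht := h.mul W K ht
  four h := h.four
  cmp h t ht c hc := by
    have T := h.good ht
    have hJ : IsComp (centralizer ({t} : Set G)) (cj c L) := LTF.Basics.comp_cj T.comp (mem_c hc)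
    by_cases hne : cj c L = L
    · left
      intro l hl
      rw [← hne]
      exact ⟨l, hl, rfl⟩
    · right
      intro l hl
      rw [mem_centralizer_iff]
      intro m hm
      have h1 := (T.comp.comm_le_core hJ (Ne.symm hne)) (commutator_mem_commutator hm ⟨l, hl, rfl⟩)
      rw [W.hon T, bot_inf_eq, mem_bot, commutatorElement_eq_one_iff_mul_comm] at h1
      exact h1
  nc h g hg := h.nc W K nr hg
  bad h y hy hy3 hye := h.bad W K hy hy3 hye
  Bcj h l hl := by
    have h1 := h.conj l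
    rwa [cj_eq_self_of_mem hl] at h1
  uni h z hz g hg hgz := by
    have T := h.good hz
    have T2 := h.good hgz
    have T1 := T.cj g
    rw [hg, mul_inv_cancel_right] at T1
    rw [mem_normalizer_iff_cj]
    exact W.one T1.toIsTriple T2.toIsTriple T1.l34 T2.l34
  fin h t ht := W.cen (h.good ht)

/-- `x` normalises no conjugate of `L` commuting with `L` -/
theorem twinHyp (W : WI G) (h : HonI x L) : Blk.Twin.Hyp L x where
  sp := by
    obtain ⟨t, -, ht, -⟩ := h.four
    have T := h.good ht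
    obtain ⟨ξ, -, F, -⟩ := OneGlue.kfs.honest T (h.bot W)
    exact ⟨F.simp, T.comp.perfect⟩
  even := by
    obtain ⟨t, -, ht, -⟩ := h.four
    obtain ⟨b, hb, hb2, -⟩ := OneGlue.kfs.exists_b (h.good ht) (h.bot W)
    exact ⟨b, hb, hb2⟩
  conj2 t ht u hu ht2 hu2 := by
    obtain ⟨t', -, ht', -⟩ := h.four
    exact OneOut.conj34 (h.good ht').l34 (h.bot W) ht hu ht2 hu2
  two := isPGroup_of_sq (sq_of_order h.ox)
  mem := by
    obtain ⟨t, -, ht, -⟩ := h.four
    exact (h.good ht).x_mem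
  cmp t ht ht2 htx := Res.TwoSup.cmp_of_isComp
    (h.good ⟨ht, htx, sq_of_order ht2, ne_one_of_order ht2⟩).comp

/-- **the hypotheses of `ThEP.PIn`** -/
theorem pin (W : WI G) (nr : NoRel G) (h : HonI x L) :
    ThEP.PIn (fun t : G => core (centralizer ({t} : Set G))) L (fun e => HonI e L) x where
  toQGrp := qgrp W OneGlue.kfs nr L
  Bx := h
  l34 := by
    obtain ⟨t, -, ht, -⟩ := h.four
    exact isL34_self (h.good ht) (h.bot W)
  rk t ht := h.partner ht
  cmp2 t t' g ht ht' hgt := by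
    have T := h.good ht
    have T' := h.good ht'
    have hJ : IsComp (centralizer ({t'} : Set G)) (cj g L) := by
      have h1 := T.comp.cj g
      rwa [cj_centralizer, hgt] at h1
    by_cases hne : cj g L = L
    · left
      exact mem_normalizer_iff_cj.mpr hne
    · right
      intro l hl
      rw [mem_centralizer_iff]
      intro m hm
      have h1 := (T'.comp.comm_le_core hJ (Ne.symm hne)) (commutator_mem_commutator hm ⟨l, hl, rfl⟩)
      rw [W.hon T, bot_inf_eq, mem_bot, commutatorElement_eq_one_iff_mul_comm] at h1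
      exact h1
  twin g hx hc := by
    obtain ⟨t, -, ht, -⟩ := h.four
    have T := h.good ht
    refine (twinHyp W h).twin (fun g hr => nr ⟨x, t, T, h.bot W⟩ ⟨_, _, T.cj g, ?_⟩ hr) g hx hc
    rw [core_cj, h.bot W, IntrinsicBasic.cj, Subgroup.map_bot]

/-- **The contradiction.** -/
theorem WI.false_of (W : WI G) (hS : IsSimpleGroup G) (hN : Parity.NoSign G) (T : TT x a L)
    (four : ∃ t u : G, IsT L x t ∧ IsT L x u ∧ t ≠ u ∧ t * u = u * t) : False :=
  (pin W (noRel hS) (hon_of W OneGlue.kfs T four)).false_of hN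

/-- **The contradiction.** -/
theorem in1 (hS : IsSimpleGroup G) (hN : Parity.NoSign G) (W : Typ G)
    (hon : ∀ {x a : G} {L : Subgroup G}, TT x a L → core L = ⊥)
    (cen : ∀ {x a : G} {L : Subgroup G}, TT x a L → core (centralizer ({a} : Set G)) ≤ centralizer (L : Set G))
    (x a : G) (L : Subgroup G) (T : TT x a L)
    (four : ∃ t u : G, IsT L x t ∧ IsT L x u ∧ t ≠ u ∧ t * u = u * t) : False :=
  WI.false_of ⟨W, hon, cen, fun T T' h h' => one_of hS W hon T T' h h'⟩ hS hN T four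

end hon

end Cfsg.Agent.UGT.N2W.HonIn
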