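import Cfsg.Agent.UGT.N2W.PEnd
import Cfsg.Agent.UGT.Ctl.Main

/-!
# (5) of #17697: several germs over `W ≠ 1`, all involutions of the members fine: impossible
-/

set_option autoImplicit false

open Cfsg Subgroup

namespace Cfsg.Agent.UGT.N2W.PFive

universe u

variable {G : Type u} [Group G] [Finite G] {W : Subgroup G} {𝓗 : Set (Subgroup G)}

/-- **(5) of #17697** -/
theorem five (hG : IsSimpleGroup G) (T : Fun.ThreeBal G) (M : Many W 𝓗) (hW : W ≠ ⊥) : False :=
  PEnd.five_of (fun _ _ _ _ _ _ _ _ h => Ctl.Ctl.eq_top h) hG T M hW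

end Cfsg.Agent.UGT.N2W.PFive
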