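import Cfsg.Agent.UGT.N2W.Asm67

/-!
# `x ∈ X = G`: `W = 1` (N2, cores), from the parts

* `Parts G`: what is used of STEP 1, CASE A and (5).
* `in2`: `Wd A = 1` for the `A ≤ L` elementary abelian of order 16, `(x, a, L)` a triple of type `L₃(4)` with a second
  involution.
-/

set_option autoImplicit false
set_option linter.unusedSectionVars false

open Cfsg Subgroup
open Cfsg.Agent.SignalizersComponents
open Cfsg.Agent.SignalizersComponents.IntrinsicBasic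
open Cfsg.Agent.Intrinsic.Basic Cfsg.Agent.Intrinsic.Cen
open Cfsg.Agent.UGT.Triple
open Cfsg.Agent.UGT.N2S (TT Typ)
open scoped commutatorElement

namespace Cfsg.Agent.UGT.N2W.Entr

open Fun

universe u

/-- STEP 1, (5), CASE A -/
structure Parts (G : Type u) [Group G] [Finite G] : Prop where
  comm : ∀ {x a t : G} {L W J : Subgroup G} {Lr : G → Subgroup G}, RCfg x a t L W J Lr → W ≠ ⊥ →
    ∀ m ∈ normalizer (W : Set G), cj m (L ⊔ W) = L ⊔ W ∨ ⁅L ⊔ W, cj m (L ⊔ W)⁆ ≤ W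
  five : ∀ {W : Subgroup G} {𝓗 : Set (Subgroup G)}, Many W 𝓗 → W ≠ ⊥ → False
  caseA : ∀ {x z : G} {W L N : Subgroup G}, TT x z L → TT x z N → L ≠ N → Fn W z L → W ≠ ⊥ →
    ∃ 𝓗, Many W 𝓗

variable {G : Type u} [Group G] [Finite G] {W L : Subgroup G} {x a : G}

theorem Parts.noDbl (P : Parts G) (hW : W ≠ ⊥) : NoDbl W := by
  intro x z L N T T' F
  by_contra hne
  obtain ⟨𝓗, M⟩ := P.caseA T T' hne F hW
  exact P.five M hW

/-- `W = 1` -/
theorem Parts.bot (P : Parts G) (hG : IsSimpleGroup G) (Wt : Typ G) (T3 : ThreeBal G) (T : TT x a L)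
    (F : Fn W a L) (h2 : Two x a L) : W = ⊥ := by
  by_contra hW
  obtain ⟨t, ot, hne, hta, htx, htL⟩ := h2
  have ND : NoDbl W := P.noDbl hW
  obtain ⟨Lr, C⟩ := exists_rcfg Wt T3 ND T F ot hne hta htx htL
  exact single' hG Wt T3 ND T F ot hne hta htx htL (P.comm C hW) fun 𝓗 M => P.five M hW

/-- **(IN2)** -/
theorem Parts.in2 (P : Parts G) (hG : IsSimpleGroup G) (Wt : Typ G) (T3 : ThreeBal G) (T : TT x a L)
    (h2 : Two x a L) : ∀ A ≤ L, (∀ b ∈ A, b * b = 1) → Nat.card ↥A = 16 → Wd A = ⊥ := by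
  intro A hA hA2 hA16
  obtain ⟨t, ot, hne, hta, htx, htL⟩ := h2
  obtain ⟨W, F⟩ := fn_of Wt T3 T.inva T.comp T.l34 ot hne hta htL
  rw [F.wa A hA hA2 hA16]
  exact P.bot hG Wt T3 T F ⟨t, ot, hne, hta, htx, htL⟩

end Cfsg.Agent.UGT.N2W.Entr
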