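import Cfsg.Agent.UGT.Res.WFun

/-!
# The functor of a 3-balanced group (N2, cores, bb #17697)

`G` 3-balanced (`ThreeBal G`), `Wd E = ⟨Δ(D) : D ≤ E, |D| = 8⟩` for `E` elementary abelian.

* `Wd_eq`: `Wd U = Wd E` for `U ≤ E`, `|U| ≥ 16`, `|E| ≥ 32`; `Wd_link`, `odd_Wd`, `cj_Wd`, `normalizer_le`, `le_of_odd`.
* `Wd_cent`: `Wd E ∩ C(a) ≤ O(C(a))` for `a ∈ E#`; `Wd_inf`: `Wd E ∩ C(D) = Δ(D)` for `D ≤ E`, `|D| ≥ 8`.
-/

set_option autoImplicit false
set_option linter.unusedSectionVars false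

open Cfsg Subgroup
open Cfsg.Agent.SignalizersComponents Cfsg.Agent.Lib
open Cfsg.Agent.SignalizersComponents.IntrinsicBasic
open Cfsg.Agent.Intrinsic.Basic Cfsg.Agent.Intrinsic.Cen Cfsg.Agent.Intrinsic.Diag
open Cfsg.Agent.McLLyComp.Act
open Cfsg.Agent.UGT.Triple Cfsg.Agent.UGT.PumpGen Cfsg.Agent.UGT.TriBase
open Cfsg.Agent.UGT.Res.Base Cfsg.Agent.UGT.Res.Abel Cfsg.Agent.UGT.Res.CoreFree
open Cfsg.Agent.UGT.Res.WFun (el_of_sq el_mono)
open scoped commutatorElement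

namespace Cfsg.Agent.UGT.N2W.Fun

variable {G : Type*} [Group G]

/-- 3-balance, solvable cores -/
structure ThreeBal (G : Type*) [Group G] : Prop where
  bal : IsKBalanced 2 3 G
  solv : ∀ a : G, orderOf a = 2 → Group.IsSolvable ↥(centralizerPPrimeCore 2 a)

/-- `W_E` -/
def Wd (E : Subgroup G) : Subgroup G := KFamily.WW (fun D => signalizerDelta 2 D) E (2 ^ 3)

variable [Finite G]

theorem fam (T : ThreeBal G) {E : Subgroup G} (hE : IsElementaryAbelian 2 E)
    (h32 : 32 ≤ Nat.card ↥E) :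
    KFamily.Fam 2 3 E (centralizerPPrimeCore 2) (fun D => signalizerDelta 2 D) := by
  have hp : Fact (Nat.Prime 2) := ⟨Nat.prime_two⟩
  refine KFamily.ofDelta (by norm_num) hE (by norm_num; exact h32)
    (fun a ha h1 => T.solv a (order_of_el hE ha h1)) fun D hD hc e he he1 => ?_
  exact T.bal D (el_mono hE hD) hc e (order_of_el hE he he1) fun a ha => comm_of_el hE (hD ha) he

/-- `W_U = W_E` -/
theorem Wd_eq (T : ThreeBal G) {E U : Subgroup G} (hE : IsElementaryAbelian 2 E)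
    (h32 : 32 ≤ Nat.card ↥E) (hU : U ≤ E) (h16 : 16 ≤ Nat.card ↥U) : Wd U = Wd E := by
  have hp : Fact (Nat.Prime 2) := ⟨Nat.prime_two⟩
  exact (fam T hE h32).WW_eq hU (by norm_num; exact h16)

/-- `W_E = W_{E'}` if `E ∩ E'` contains a subgroup of order at least 16 -/
theorem Wd_link (T : ThreeBal G) {E E' U : Subgroup G} (hE : IsElementaryAbelian 2 E)
    (h32 : 32 ≤ Nat.card ↥E) (hE' : IsElementaryAbelian 2 E') (h32' : 32 ≤ Nat.card ↥E')
    (hU : U ≤ E) (hU' : U ≤ E') (h16 : 16 ≤ Nat.card ↥U) : Wd E = Wd E' := by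
  rw [← Wd_eq T hE h32 hU h16, ← Wd_eq T hE' h32' hU' h16]

theorem odd_Wd (T : ThreeBal G) {E : Subgroup G} (hE : IsElementaryAbelian 2 E)
    (h32 : 32 ≤ Nat.card ↥E) : Odd (Nat.card ↥(Wd E)) := by
  have h1 := (fam T hE h32).odd
  rwa [← even_iff_two_dvd, Nat.not_even_iff_odd] at h1

theorem cj_Wd (g : G) (E : Subgroup G) : cj g (Wd E) = Wd (cj g E) := by
  have hp : Fact (Nat.Prime 2) := ⟨Nat.prime_two⟩
  have key : ∀ (g : G) (E : Subgroup G), cj g (Wd E) ≤ Wd (cj g E) := fun g E =>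
    KFamily.WW_conj_le (KFamily.delta_equi 2) E (2 ^ 3) g
  refine le_antisymm (key g E) ?_
  have h1 := cj_mono (g := g) (key g⁻¹ (cj g E))
  rwa [cj_inv_cj, cj_cj_inv] at h1

theorem mem_normalizer_Wd {E : Subgroup G} {g : G} (h : Wd (cj g E) = Wd E) :
    g ∈ normalizer (Wd E : Set G) := by
  rw [mem_normalizer_iff_cj, cj_Wd, h]

theorem normalizer_le_self (E : Subgroup G) :
    normalizer (E : Set G) ≤ normalizer (Wd E : Set G) := by
  intro g hg
  exact mem_normalizer_Wd (by rw [mem_normalizer_iff_cj.mp hg])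

theorem normalizer_le (T : ThreeBal G) {E U : Subgroup G} (hE : IsElementaryAbelian 2 E)
    (h32 : 32 ≤ Nat.card ↥E) (hU : U ≤ E) (h16 : 16 ≤ Nat.card ↥U) :
    normalizer (U : Set G) ≤ normalizer (Wd E : Set G) := by
  rw [← Wd_eq T hE h32 hU h16]
  exact normalizer_le_self U

theorem centralizer_le (T : ThreeBal G) {E U : Subgroup G} (hE : IsElementaryAbelian 2 E)
    (h32 : 32 ≤ Nat.card ↥E) (hU : U ≤ E) (h16 : 16 ≤ Nat.card ↥U) :
    centralizer (U : Set G) ≤ normalizer (Wd E : Set G) :=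
  (centralizer_le_normalizer _).trans (normalizer_le T hE h32 hU h16)

theorem le_normalizer_Wd (E : Subgroup G) :
    E ≤ normalizer (Wd E : Set G) := le_normalizer.trans (normalizer_le_self E)

/-- `W_E ∩ C(a) ≤ O(C(a))` -/
theorem Wd_cent (T : ThreeBal G) {E : Subgroup G} (hE : IsElementaryAbelian 2 E)
    (h32 : 32 ≤ Nat.card ↥E) {a : G} (ha : a ∈ E) (h1 : a ≠ 1) :
    Wd E ⊓ centralizer ({a} : Set G) ≤ centralizerPPrimeCore 2 a :=
  (fam T hE h32).inf_singleton_le ha h1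

/-- `W_E ∩ C(D) = Δ(D)` -/
theorem Wd_inf (T : ThreeBal G) {E D : Subgroup G} (hE : IsElementaryAbelian 2 E)
    (h32 : 32 ≤ Nat.card ↥E) (hD : D ≤ E) (h8 : 8 ≤ Nat.card ↥D) :
    Wd E ⊓ centralizer (D : Set G) = signalizerDelta 2 D :=
  (fam T hE h32).inf_centralizer hD (by norm_num; exact h8)

/-- an `E`-invariant subgroup of odd order lies in `N(W_E)` -/
theorem le_of_odd (T : ThreeBal G) {E N : Subgroup G} (hE : IsElementaryAbelian 2 E)
    (h32 : 32 ≤ Nat.card ↥E) (hN : Odd (Nat.card ↥N)) (hn : E ≤ normalizer (N : Set G)) :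
    N ≤ normalizer (Wd E : Set G) := by
  have hp : Fact (Nat.Prime 2) := ⟨Nat.prime_two⟩
  have hE1 : E ≠ ⊥ := by
    rintro rfl
    rw [card_bot] at h32
    omega
  have hN2 : ¬ 2 ∣ Nat.card ↥N := by
    rwa [← even_iff_two_dvd, Nat.not_even_iff_odd]
  rw [← Lib.CoprimeHyperplane.iSup_centralizer_hyperplane hE hE1 hN2 hn]
  refine iSup_le fun B => inf_le_right.trans ?_
  have h16 : 16 ≤ Nat.card ↥B.1 := by
    have := relIndex_mul_relIndex ⊥ B.1 E bot_le B.2.1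
    rw [relIndex_bot_left, relIndex_bot_left, B.2.2] at this
    omega
  exact (centralizer_le_normalizer _).trans (normalizer_le T hE h32 B.2.1 h16)

/-- `O(C(a)) ≤ N(W_E)` for `a ∈ E` -/
theorem core_le (T : ThreeBal G) {E : Subgroup G} (hE : IsElementaryAbelian 2 E)
    (h32 : 32 ≤ Nat.card ↥E) {a : G} (ha : a ∈ E) :
    core (centralizer ({a} : Set G)) ≤ normalizer (Wd E : Set G) :=
  le_of_odd T hE h32 (odd_card_core _)
    (le_trans (fun _ he => mem_c (comm_of_el hE he ha)) (le_normalizer_core _))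

/-- an `E`-invariant subgroup `N` of odd order with `N ∩ C(D) ≤ Δ(D)` for all `D ≤ E` of order at least 8 lies in
`W_E` -/
theorem le_Wd (T : ThreeBal G) {E N : Subgroup G} (hE : IsElementaryAbelian 2 E)
    (h32 : 32 ≤ Nat.card ↥E) (hN : Odd (Nat.card ↥N)) (hn : E ≤ normalizer (N : Set G))
    (h : ∀ D ≤ E, 8 ≤ Nat.card ↥D → N ⊓ centralizer (D : Set G) ≤ signalizerDelta 2 D) : N ≤ Wd E := by
  have hp : Fact (Nat.Prime 2) := ⟨Nat.prime_two⟩
  refine (fam T hE h32).le_of_hyperplane (by rwa [← even_iff_two_dvd, Nat.not_even_iff_odd]) le_rfl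
    (by norm_num; omega) hn fun D hD hc => h D hD (by norm_num at hc; exact hc)

end Cfsg.Agent.UGT.N2W.Fun
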