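import Cfsg.Agent.UGT.N2W.A34

/-!
# The Sylow 2-subgroups of a 2-component of type `L₃(4)`

* `heis_of_isSyl`: `L / O(L) ≅ L₃(4)`, `P` a Sylow 2-subgroup of `L` ⟹ `Heis P Z A` for some `Z`, `A`.
* `exists_sit`: `Sit z L P Z A` with `P` containing a given 2-subgroup of `L`.
* `of_three`: `Sit2 z z' L P Z A` from `Sit z L P Z A`, `P ≤ L', L''`, 2-components of `C(z')`, `C(z z')`.
* `Four`: `R₀` a four-group, `J ≤ C(R₀)` covers the 2-component `Lr r` (type `L₃(4)`) of `C(r)` for all `r ∈ R₀#`: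
  `Four.exists_sit2`, `Four.exists_W`.
-/

set_option autoImplicit false
set_option linter.unusedSectionVars false
set_option linter.constructorNameAsVariable false

open Cfsg Subgroup
open Cfsg.Agent.SignalizersComponents Cfsg.Agent.Lib
open Cfsg.Agent.SignalizersComponents.IntrinsicBasic
open Cfsg.Agent.SignalizersComponents.PLayerAut
open Cfsg.Agent.Intrinsic.Basic Cfsg.Agent.Intrinsic.Cen Cfsg.Agent.Intrinsic.Diag
open Cfsg.Agent.McLLyComp.Act
open Cfsg.Agent.UGT.Triple Cfsg.Agent.UGT.TriBase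
open Cfsg.Agent.UGT.Iface (Bar IsL34)
open Cfsg.Agent.UGT.L34T2 (Heis)
open Cfsg.Agent.UGT.Res.WFun (el_of_sq mem_zpowers_of_sq isSyl_of_sup)
open Cfsg.Agent.UGT.Res.CoreFree (comm_of_el)
open Cfsg.Agent.UGT.N2S (Typ)
open Cfsg.Agent.UGT.N2S.FTwo (Sit center_l34)
open Cfsg.Agent.UGT.N2W.Fun
open Cfsg.Agent.SporadicA.FieldFour Cfsg.Agent.LThreeFour
open scoped commutatorElement

namespace Cfsg.Agent.UGT.N2W.HeisOf

universe u

/-! ### coordinates -/

section crd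

variable {G : Type*} [Group G]

/-- coordinates by codes -/
structure Crd (e : Code → G) : Prop where
  inj : Function.Injective e
  mul : ∀ p q, e p * e q = e (cmul p q)

variable {e : Code → G}

theorem Crd.one (h : Crd e) : e LThreeFour.cone = 1 := by
  have h1 := h.mul LThreeFour.cone LThreeFour.cone
  rw [cmul_cone] at h1
  exact mul_eq_left.mp h1

theorem Crd.inv (h : Crd e) (p : Code) : (e p)⁻¹ = e (cinv p) := by
  apply inv_eq_of_mul_eq_one_right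
  rw [h.mul, cmul_cinv, h.one]

/-- the subgroup of the codes with `Q` -/
def sb (h : Crd e) (Q : Code → Prop) (h1 : Q LThreeFour.cone) (hm : ∀ p q, Q p → Q q → Q (cmul p q))
    (hi : ∀ p, Q p → Q (cinv p)) : Subgroup G where
  carrier := {g | ∃ p, Q p ∧ e p = g}
  one_mem' := ⟨_, h1, h.one⟩
  mul_mem' := by
    rintro _ _ ⟨p, hp, rfl⟩ ⟨q, hq, rfl⟩
    exact ⟨_, hm p q hp hq, (h.mul p q).symm⟩
  inv_mem' := by
    rintro _ ⟨p, hp, rfl⟩
    exact ⟨_, hi p hp, (h.inv p).symm⟩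

theorem card_sb (h : Crd e) (Q : Code → Prop) [DecidablePred Q] (h1 : Q LThreeFour.cone)
    (hm : ∀ p q, Q p → Q q → Q (cmul p q)) (hi : ∀ p, Q p → Q (cinv p)) :
    Nat.card ↥(sb h Q h1 hm hi) = (Finset.univ.filter Q).card := by
  let f : (Finset.univ.filter Q) ≃ ↥(sb h Q h1 hm hi) := Equiv.ofBijective
    (fun p => ⟨e p.1, p.1, (Finset.mem_filter.1 p.2).2, rfl⟩)
    ⟨fun p q h' => Subtype.ext (h.inj (congrArg Subtype.val h')), fun ⟨_, p, hp, h0⟩ =>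
      ⟨⟨p, Finset.mem_filter.2 ⟨Finset.mem_univ _, hp⟩⟩, Subtype.ext h0⟩⟩
  rw [← Nat.card_congr f, Nat.card_eq_fintype_card, Fintype.card_coe]

/-- all codes -/
def PP (h : Crd e) : Subgroup G := sb h (fun _ => True) trivial (fun _ _ _ _ => trivial) fun _ _ => trivial

/-- the centre -/
def ZZ (h : Crd e) : Subgroup G := sb h (fun p => p.a = 0 ∧ p.b = 0) ⟨rfl, rfl⟩ (by decide +kernel)
  (by decide +kernel)

/-- the two elementary abelian subgroups of order 16 -/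
def AA (h : Crd e) (i : Bool) : Subgroup G := sb h (fun p => cond i p.b p.a = 0) (by cases i <;> rfl)
  (by cases i <;> decide +kernel) (by cases i <;> decide +kernel)

theorem mem_PP (h : Crd e) {g : G} : g ∈ PP h ↔ ∃ p, e p = g :=
  ⟨fun ⟨p, _, hp⟩ => ⟨p, hp⟩, fun ⟨p, hp⟩ => ⟨p, trivial, hp⟩⟩

theorem mem_ZZ (h : Crd e) {p : Code} : e p ∈ ZZ h ↔ p.a = 0 ∧ p.b = 0 := by
  constructor
  · rintro ⟨q, hq, h1⟩
    rw [← h.inj h1]; exact hq
  · intro h1; exact ⟨p, h1, rfl⟩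

theorem mem_AA (h : Crd e) {i : Bool} {p : Code} : e p ∈ AA h i ↔ cond i p.b p.a = 0 := by
  constructor
  · rintro ⟨q, hq, h1⟩
    rw [← h.inj h1]; exact hq
  · intro h1; exact ⟨p, h1, rfl⟩

theorem heis (h : Crd e) : Heis (PP h) (ZZ h) (AA h) where
  cardP := by rw [PP, card_sb]; decide +kernel
  cardZ := by rw [ZZ, card_sb]; decide +kernel
  cardA i := by
    rw [AA, card_sb]
    cases i <;> decide +kernel
  ZA := by
    rintro i _ ⟨p, hp, rfl⟩
    rw [mem_AA]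
    cases i
    · exact hp.1
    · exact hp.2
  AP := by
    rintro i _ ⟨p, -, rfl⟩
    exact (mem_PP h).mpr ⟨p, rfl⟩
  Asq := by
    rintro i _ ⟨p, hp, rfl⟩
    have key : ∀ (i : Bool) (p : Code), cond i p.b p.a = 0 → cmul p p = LThreeFour.cone := by decide +kernel
    rw [h.mul, key i p hp, h.one]
  Zcen := by
    rintro _ ⟨p, hp, rfl⟩ _ ⟨q, -, rfl⟩
    have key : ∀ p q : Code, (p.a = 0 ∧ p.b = 0) → cmul q p = cmul p q := by decide +kernel
    rw [h.mul, h.mul, key p q hp]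
  inv := by
    rintro _ ⟨p, -, rfl⟩ hpp
    rw [h.mul, ← h.one] at hpp
    have h1 := h.inj hpp
    have key : ∀ p : Code, cmul p p = LThreeFour.cone → p.a = 0 ∨ p.b = 0 := by decide +kernel
    rcases key p h1 with h2 | h2
    · exact ⟨false, (mem_AA h).mpr h2⟩
    · exact ⟨true, (mem_AA h).mpr h2⟩
  inf := by
    rintro _ ⟨p, hp, rfl⟩ hp2
    exact (mem_ZZ h).mpr ⟨hp, (mem_AA h).mp hp2⟩
  sup := by
    rintro _ ⟨p, -, rfl⟩
    have key : ∀ p : Code, cmul ⟨0, p.b, p.c + p.a * p.b⟩ ⟨p.a, 0, 0⟩ = p := by decide +kernel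
    refine ⟨e ⟨0, p.b, p.c + p.a * p.b⟩, (mem_AA h).mpr rfl, e ⟨p.a, 0, 0⟩, (mem_AA h).mpr rfl, ?_⟩
    rw [h.mul, key]
  com := by
    rintro _ ⟨p, -, rfl⟩ _ ⟨q, -, rfl⟩
    rw [h.inv, h.inv, h.mul, h.mul, h.mul, mem_ZZ]
    revert p q
    decide +kernel
  sq := by
    rintro _ ⟨p, -, rfl⟩
    rw [h.mul, mem_ZZ]
    revert p
    decide +kernel
  surj := by
    rintro _ ⟨p, -, rfl⟩ hn _ ⟨q, hq, rfl⟩
    have key : ∀ p : Code, ¬ (p.a = 0 ∧ p.b = 0) → ∀ c : F4, ∃ a b : F4,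
        cmul (cmul (cmul p ⟨a, b, 0⟩) (cinv p)) (cinv ⟨a, b, 0⟩) = ⟨0, 0, c⟩ := by decide +kernel
    obtain ⟨a, b, h1⟩ := key p (fun h1 => hn ((mem_ZZ h).mpr h1)) q.c
    refine ⟨e ⟨a, b, 0⟩, (mem_PP h).mpr ⟨_, rfl⟩, ?_⟩
    have h2 : (⟨0, 0, q.c⟩ : Code) = q := by
      obtain ⟨x, y, w⟩ := q
      obtain ⟨rfl, rfl⟩ : x = 0 ∧ y = 0 := hq
      rfl
    rw [h.inv, h.inv, h.mul, h.mul, h.mul, h1, h2]
  cen := by
    rintro i _ ⟨p, hp, rfl⟩ hn _ ⟨q, -, rfl⟩ hc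
    have h1 : ¬ (p.a = 0 ∧ p.b = 0) := fun h1 => hn ((mem_ZZ h).mpr h1)
    rw [h.mul, h.mul] at hc
    have h2 := h.inj hc
    rw [mem_AA]
    have key : ∀ (i : Bool) (p q : Code), cond i p.b p.a = 0 → ¬ (p.a = 0 ∧ p.b = 0) → cmul q p = cmul p q →
        cond i q.b q.a = 0 := by decide +kernel
    exact key i p q hp h1 h2

end crd

/-! ### Sylow 2-subgroups of `L` -/

variable {G : Type u} [Group G] [Finite G]

theorem card_syl {L P : Subgroup G} (h34 : IsL34 (Bar L)) (hP : IsSyl L P) : Nat.card ↥P = 64 := by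
  obtain ⟨D⟩ := LSup.exists_dat h34
  have h1 : Nat.card ↥P = Nat.card ↥(((P.subgroupOf L).map (QuotientGroup.mk' (oddCore ↥L)))) := by
    rw [L34T2.Quo.card_map (L34T2.NormW.odd_ker_mk L) (L34T2.NormW.two_subgroupOf hP.two),
      Nat.card_congr (subgroupOfEquivOfLe hP.le).toEquiv]
  have h2 : Nat.card ↥P ∣ 20160 := by
    rw [h1, ← D.card]
    exact card_subgroup_dvd_card _
  obtain ⟨k, hk⟩ := hP.two.exists_card_eq
  rw [hk] at h2
  have hk6 : k ≤ 6 := by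
    by_contra hcon
    have h3 : (2 : ℕ) ^ 7 ∣ 20160 := (pow_dvd_pow 2 (by omega)).trans h2
    revert h3
    decide
  have h3 : 2 ^ 6 ∣ Nat.card ↥P := by
    refine hP.dvd_card ?_
    have h4 : Nat.card (Bar L) ∣ Nat.card ↥L := card_quotient_dvd_card _
    rw [D.card] at h4
    exact (show 2 ^ 6 ∣ 20160 by decide).trans h4
  have h4 := Nat.le_of_dvd Nat.card_pos h3
  have h5 : Nat.card ↥P ≤ 2 ^ 6 := by
    rw [hk]
    exact Nat.pow_le_pow_right (by norm_num) hk6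
  omega

/-- **a Sylow 2-subgroup of `L` is a Heisenberg group** -/
theorem heis_of_isSyl {L P : Subgroup G} (h34 : IsL34 (Bar L)) (hP : IsSyl L P) :
    ∃ (Z : Subgroup G) (A : Bool → Subgroup G), Heis P Z A := by
  have hP64 := card_syl h34 hP
  obtain ⟨D⟩ := LSup.exists_dat h34
  have hfin : Finite (Bar L) := Nat.finite_of_card_ne_zero (by rw [D.card]; norm_num)
  obtain ⟨f, hf⟩ : ∃ f : ↥L →* Bar L, f = QuotientGroup.mk' (oddCore ↥L) := ⟨_, rfl⟩
  have hodd : Odd (Nat.card f.ker) := by rw [hf]; exact L34T2.NormW.odd_ker_mk L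
  have hT2 : IsPGroup 2 ↥D.T := IsPGroup.of_card (n := 6) (by rw [D.card_T]; norm_num)
  have hT : IsSyl (⊤ : Subgroup (Bar L)) D.T := by
    refine ⟨hT2, le_top, fun R hR _ hTR => ?_⟩
    obtain ⟨k, hk⟩ := hR.exists_card_eq
    have h2 : Nat.card ↥R ∣ 20160 := by
      rw [← D.card]
      exact card_subgroup_dvd_card _
    rw [hk] at h2
    have hk6 : k ≤ 6 := by
      by_contra hcon
      have h3 : (2 : ℕ) ^ 7 ∣ 20160 := (pow_dvd_pow 2 (by omega)).trans h2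
      revert h3
      decide
    refine (Subgroup.eq_of_le_of_card_ge hTR ?_).symm
    rw [hk, D.card_T]
    calc 2 ^ k ≤ 2 ^ 6 := Nat.pow_le_pow_right (by norm_num) hk6
      _ = 64 := by norm_num
  have hP2 : IsPGroup 2 ↥(P.subgroupOf L) := L34T2.NormW.two_subgroupOf hP.two
  have hcP : Nat.card ↥(P.subgroupOf L) = 64 := by
    rw [Nat.card_congr (subgroupOfEquivOfLe hP.le).toEquiv, hP64]
  obtain ⟨g, -, hg⟩ := hT.conj (R' := (P.subgroupOf L).map f) (hP2.map f) le_top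
  have hg2 : (P.subgroupOf L).map f = cj g D.T :=
    Subgroup.eq_of_le_of_card_ge hg (by rw [card_cj, D.card_T, L34T2.Quo.card_map hodd hP2, hcP])
  have hex : ∀ p : Code, ∃ y : ↥L, (y : G) ∈ P ∧ f y = g * D.el p * g⁻¹ := by
    intro p
    have h1 : g * D.el p * g⁻¹ ∈ (P.subgroupOf L).map f := by
      rw [hg2, mem_cj]
      have : g⁻¹ * (g * D.el p * g⁻¹) * g = D.el p := by group
      rw [this]
      exact D.el_mem p
    obtain ⟨y, hy, h2⟩ := h1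
    exact ⟨y, hy, h2⟩
  choose e he1 he2 using hex
  have hC : Crd (fun p => (e p : G)) := by
    refine ⟨fun p q h => ?_, fun p q => ?_⟩
    · have h1 : e p = e q := Subtype.ext h
      have h2 : g * D.el p * g⁻¹ = g * D.el q * g⁻¹ := by rw [← he2, ← he2, h1]
      exact D.inj (mul_left_cancel (mul_right_cancel h2))
    · have h1 : e p * e q = e (cmul p q) := by
        refine L34T2.Quo.inj_on hodd hP2 (mul_mem (he1 p) (he1 q)) (he1 (cmul p q)) ?_
        rw [map_mul, he2, he2, he2, ← D.el_mul]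
        group
      exact congrArg Subtype.val h1
  have h1 : PP hC = P := by
    refine Subgroup.eq_of_le_of_card_ge ?_ ?_
    · intro y hy
      obtain ⟨p, rfl⟩ := (mem_PP hC).mp hy
      exact he1 p
    · rw [hP64, (heis hC).cardP]
  have h2 := heis hC
  rw [h1] at h2
  exact ⟨_, _, h2⟩

/-- `Sit z L P Z A` with `P` containing a given 2-subgroup of `L` -/
theorem exists_sit {z : G} {L R : Subgroup G} (hz : orderOf z = 2)
    (hL : IsComp (centralizer ({z} : Set G)) L) (h34 : IsL34 (Bar L)) (hR : IsPGroup 2 ↥R) (hRL : R ≤ L) :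
    ∃ (P Z : Subgroup G) (A : Bool → Subgroup G), R ≤ P ∧ Sit z L P Z A := by
  obtain ⟨P, hP, hRP⟩ := exists_isSyl hR hRL
  obtain ⟨Z, A, h⟩ := heis_of_isSyl h34 hP
  exact ⟨P, Z, A, hRP, hz, hL, h34, hP.le, h⟩

variable {z z' : G} {L P Z : Subgroup G} {A : Bool → Subgroup G}

theorem notMem_P (S : Sit z L P Z A) {t : G} {K : Subgroup G} (ht : orderOf t = 2)
    (hK : IsComp (centralizer ({t} : Set G)) K) (h34 : IsL34 (Bar K)) (hPK : P ≤ K) : t ∉ P := fun htP =>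
  ne_one_of_order ht (A34.Sit.eq_one ⟨ht, hK, h34, hPK, S.heis⟩ (hPK htP) (sq_of_order ht) (fixes_self' hK.le))

/-- `z`, `z'`, `z z'` with 2-components of type `L₃(4)` containing `P` -/
theorem of_three (S : Sit z L P Z A) (hz' : orderOf z' = 2) (hc : z' * z = z * z') (hne : z ≠ z')
    {L' L'' : Subgroup G} (hL' : IsComp (centralizer ({z'} : Set G)) L') (h34 : IsL34 (Bar L')) (hP' : P ≤ L')
    (hL'' : IsComp (centralizer ({z * z'} : Set G)) L'') (h34'' : IsL34 (Bar L'')) (hP'' : P ≤ L'') :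
    A34.Sit2 z z' L P Z A := by
  have hZP : Z ≤ P := (S.heis.ZA true).trans (S.heis.AP true)
  refine ⟨S, hz', hc, fun p hp => comm_c (hL'.le (hP' hp)), fun h => notMem_P S hz' hL' h34 hP' (hZP h), fun h => ?_⟩
  refine notMem_P S (t := z * z') ?_ hL'' h34'' hP'' (hZP h)
  have hzz := sq_of_order S.zo
  have hzz' := sq_of_order hz'
  refine orderOf_eq_prime ?_ ?_
  · rw [pow_two]
    calc z * z' * (z * z') = z * (z' * z) * z' := by group
      _ = (z * z) * (z' * z') := by rw [hc]; group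
      _ = 1 := by rw [hzz, hzz', one_mul]
  · intro h1
    apply hne
    rw [eq_inv_of_mul_eq_one_left h1]
    exact inv_eq_of_mul_eq_one_left hzz'

/-! ### four-groups -/

/-- `R₀` a four-group, `J ≤ C(R₀)` covers the 2-component `Lr r` (type `L₃(4)`) of `C(r)` for all `r ∈ R₀#`. -/
structure Four (R₀ J : Subgroup G) (Lr : G → Subgroup G) : Prop where
  cardR : Nat.card ↥R₀ = 4
  sqR : ∀ r ∈ R₀, r * r = 1
  comm : J ≤ centralizer (R₀ : Set G)
  comp : ∀ r ∈ R₀, r ≠ 1 → IsComp (centralizer ({r} : Set G)) (Lr r)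
  sup : ∀ r ∈ R₀, r ≠ 1 → J ⊔ core (Lr r) = Lr r
  l34 : ∀ r ∈ R₀, r ≠ 1 → IsL34 (Bar (Lr r))

section four

variable {R₀ J : Subgroup G} {Lr : G → Subgroup G}

theorem Four.le (H : Four R₀ J Lr) {r : G} (hr : r ∈ R₀) (h1 : r ≠ 1) : J ≤ Lr r := by
  rw [← H.sup r hr h1]
  exact le_sup_left

theorem Four.order (H : Four R₀ J Lr) {r : G} (hr : r ∈ R₀) (h1 : r ≠ 1) : orderOf r = 2 :=
  orderOf_eq_prime (by rw [pow_two]; exact H.sqR r hr) h1

theorem Four.exists_ne (H : Four R₀ J Lr) (r : G) : ∃ r' ∈ R₀, r' ≠ 1 ∧ r' ≠ r :=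
  Res.CoreFree.exists_ne (B := R₀) H.cardR.ge r

/-- **the data of a four-group**: `P` any Sylow 2-subgroup of `J` -/
theorem Four.exists_sit2 (H : Four R₀ J Lr) (hP : IsSyl J P) :
    ∃ (Z : Subgroup G) (A : Bool → Subgroup G), Heis P Z A ∧
      (∀ r ∈ R₀, r ≠ 1 → IsSyl (Lr r) P ∧ Sit r (Lr r) P Z A) ∧
      ∀ r ∈ R₀, r ≠ 1 → ∀ r' ∈ R₀, r' ≠ 1 → r ≠ r' → A34.Sit2 r r' (Lr r) P Z A := by
  obtain ⟨r₀, hr₀, h₀, -⟩ := H.exists_ne 1
  obtain ⟨Z, A, h⟩ := heis_of_isSyl (H.l34 r₀ hr₀ h₀) (isSyl_of_sup (H.sup r₀ hr₀ h₀) hP)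
  have hsit : ∀ r ∈ R₀, r ≠ 1 → Sit r (Lr r) P Z A := fun r hr h1 =>
    ⟨H.order hr h1, H.comp r hr h1, H.l34 r hr h1, hP.le.trans (H.le hr h1), h⟩
  refine ⟨Z, A, h, fun r hr h1 => ⟨isSyl_of_sup (H.sup r hr h1) hP, hsit r hr h1⟩, ?_⟩
  intro r hr h1 r' hr' h1' hne
  have hc : r' * r = r * r' := comm_of_el (el_of_sq H.sqR) hr' hr
  have hm : r * r' ∈ R₀ := mul_mem hr hr'
  have hm1 : r * r' ≠ 1 := by
    intro h2
    apply hne
    rw [eq_inv_of_mul_eq_one_left h2]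
    exact inv_eq_of_mul_eq_one_left (H.sqR r' hr')
  exact of_three (hsit r hr h1) (H.order hr' h1') hc hne (H.comp r' hr' h1') (H.l34 r' hr' h1')
    (hP.le.trans (H.le hr' h1')) (H.comp _ hm hm1) (H.l34 _ hm hm1) (hP.le.trans (H.le hm hm1))

/-- **`W(R₀)`**: one odd group `W`, `= Wd V` for every `V ≤ Lr r` elementary abelian of order 16, with
`C(r) ≤ N(W)`, `[Lr r, O(C(r))] ≤ W` for all `r ∈ R₀#` -/
theorem Four.exists_W (T : ThreeBal G) (H : Four R₀ J Lr) : ∃ W : Subgroup G, Odd (Nat.card ↥W) ∧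
    (∀ r ∈ R₀, r ≠ 1 → centralizer ({r} : Set G) ≤ normalizer (W : Set G)) ∧
    (Typ G → ∀ r ∈ R₀, r ≠ 1 → ∀ l ∈ Lr r, ∀ y ∈ core (centralizer ({r} : Set G)), ⁅l, y⁆ ∈ W) ∧
    (∀ r ∈ R₀, r ≠ 1 → ∀ V ≤ Lr r, (∀ v ∈ V, v * v = 1) → Nat.card ↥V = 16 → Wd V = W) ∧
    ∃ V ≤ J, (∀ v ∈ V, v * v = 1) ∧ Nat.card ↥V = 16 ∧ Wd V = W := by
  obtain ⟨P, hP, -⟩ := exists_isSyl (E := J) (R₀ := ⊥) (IsPGroup.of_bot) bot_le
  obtain ⟨Z, A, h, -, h2⟩ := H.exists_sit2 hP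
  have key : ∀ r ∈ R₀, r ≠ 1 → ∃ r', A34.Sit2 r r' (Lr r) P Z A := by
    intro r hr h1
    obtain ⟨r', hr', h1', hne⟩ := H.exists_ne r
    exact ⟨r', h2 r hr h1 r' hr' h1' hne.symm⟩
  obtain ⟨r₀, hr₀, h₀, -⟩ := H.exists_ne 1
  obtain ⟨r₁, S₀⟩ := key r₀ hr₀ h₀
  refine ⟨Wd (A true), S₀.odd T true, ?_, ?_, ?_, A true, (h.AP true).trans hP.le, h.Asq true, h.cardA true, rfl⟩
  · intro r hr h1
    obtain ⟨r', S⟩ := key r hr h1
    exact S.cent_le T true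
  · intro Wt r hr h1 l hl y hy
    obtain ⟨r', S⟩ := key r hr h1
    exact S.comm_le Wt T true hl hy
  · intro r hr h1 V hV hsq h16
    obtain ⟨r', S⟩ := key r hr h1
    exact S.Wd_of_le T true hV hsq h16

end four

end Cfsg.Agent.UGT.N2W.HeisOf
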