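import Cfsg.Agent.S0243
import Cfsg.Agent.UGT.N2S.FHyp
import Cfsg.Agent.UGT.N2S.OneGlue
import Cfsg.Agent.UGT.N2W.Fun
import Cfsg.Agent.UGT.N2W.HeisOf

/-!
# `W = 1` implies `O(L) = 1` for the triples of type `L₃(4)` (UGT #17823, (SL))

`(x, a, L)` a triple of type `L₃(4)`, `O(L) ≤ Z(L)`, `Y ∋ a` a four-group in `C(L) ∩ C(x)` with `O(L) ≤ O(C(y))` for
`y ∈ Y#`, `A ≤ L` elementary abelian of order at least 8.

* `eq_one_of_transfer`, `eq_bot_of_abelian`: if `O(L) ≠ 1`, then `C_L(x) ∩ O(C(x))` is not abelian (transfer).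
* `mem_core_mul`: the commutators of `L ∩ O(C(x))` are in `O(C(x f))`, `f ∈ Y`.
* `exists_delta`: if `O(L) ≠ 1`, then `Δ(Y A) ≠ 1`.
* `core_eq_bot`: `O(L) = 1` if `W = 1`.
* **`sl`**: `Wd A = 1` for the elementary abelian subgroups `A` of order 16 of `L` ⟹ `O(L) = 1`, `[L, O(C(a))] = 1`.
-/

set_option autoImplicit false

open Cfsg Subgroup
open Cfsg.Agent.SignalizersComponents Cfsg.Agent.Lib
open Cfsg.Agent.SignalizersComponents.IntrinsicBasic
open Cfsg.Agent.SignalizersComponents.PLayerAut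
open Cfsg.Agent.Intrinsic.Basic Cfsg.Agent.Intrinsic.Cen Cfsg.Agent.Intrinsic.Diag
open Cfsg.Agent.McLLyComp.Act
open Cfsg.Agent.UGT.Triple Cfsg.Agent.UGT.TriBase Cfsg.Agent.UGT.Res.Base
open Cfsg.Agent.UGT.Iface (Bar IsL2 IsAlt IsL34 IsAltOdd)
open Cfsg.Agent.UGT.Nodes (WorldL34)
open Cfsg.Agent.UGT.LTF.Defs
open Cfsg.Agent.UGT.LTF.Basics (img mem_img img_ne)
open Cfsg.Agent.UGT.N2S Cfsg.Agent.UGT.N2S.FHyp
open scoped commutatorElement

namespace Cfsg.Agent.UGT.N2W.SL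

universe u

section transfer

variable {L : Type*} [Group L] [Finite L]

/-- transfer into an abelian subgroup `P` of index prime to `p` -/
theorem eq_one_of_transfer {p : ℕ} [hp : Fact p.Prime] (P : Subgroup L)
    (hP : ∀ a ∈ P, ∀ b ∈ P, a * b = b * a) (hi : ¬ p ∣ P.index) {z : L}
    (hz : ∀ g, z * g = g * z) (hzc : z ∈ commutator L) (hzp : z ^ p = 1) : z = 1 := by
  let : CommGroup ↥P :=
    { (inferInstance : Group ↥P) with mul_comm := fun a b => Subtype.ext (hP a a.2 b b.2) }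
  have key : ∀ (k : ℕ) (g₀ : L), g₀⁻¹ * z ^ k * g₀ ∈ P → g₀⁻¹ * z ^ k * g₀ = z ^ k := by
    intro k g₀ _
    have h1 : Commute (z ^ k) g₀ := (show Commute z g₀ from hz g₀).pow_left k
    rw [mul_assoc, h1.eq, inv_mul_cancel_left]
  have h1 := MonoidHom.transfer_eq_pow (MonoidHom.id ↥P) z key
  have h2 : MonoidHom.transfer (MonoidHom.id ↥P) z = 1 := by
    have h3 : commutator L ≤ (MonoidHom.transfer (MonoidHom.id ↥P)).ker :=
      Abelianization.commutator_subset_ker _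
    exact h3 hzc
  rw [h2] at h1
  have h4 : z ^ P.index = 1 := congrArg Subtype.val h1.symm
  have h5 : Nat.Coprime p P.index := (Nat.Prime.coprime_iff_not_dvd hp.out).mpr hi
  have h6 : orderOf z ∣ Nat.gcd p P.index := Nat.dvd_gcd (orderOf_dvd_of_pow_eq_one hzp) (orderOf_dvd_of_pow_eq_one h4)
  rw [h5] at h6
  exact orderOf_eq_one_iff.mp (Nat.dvd_one.mp h6)

theorem prime_sq {p : ℕ} (hp : p.Prime) (h2 : p ≠ 2) (h3 : p ≠ 3) : ¬ p ^ 2 ∣ 20160 := by
  intro h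
  have e : 20160 = 576 * 35 := by norm_num
  rw [e] at h
  have hc : Nat.Coprime (p ^ 2) 576 := by
    apply Nat.Coprime.pow_left
    rw [Nat.Prime.coprime_iff_not_dvd hp]
    intro h4
    have e2 : 576 = 2 ^ 6 * 3 ^ 2 := by norm_num
    rw [e2, Nat.Prime.dvd_mul hp] at h4
    rcases h4 with h4 | h4
    · exact h2 ((Nat.prime_dvd_prime_iff_eq hp Nat.prime_two).mp (hp.dvd_of_dvd_pow h4))
    · exact h3 ((Nat.prime_dvd_prime_iff_eq hp Nat.prime_three).mp (hp.dvd_of_dvd_pow h4))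
  have h5 := hc.dvd_of_dvd_mul_left h
  have h6 : p ^ 2 ≤ 35 := Nat.le_of_dvd (by norm_num) h5
  have h7 : p ≤ 5 := by
    by_contra hn
    push Not at hn
    have : 6 ^ 2 ≤ p ^ 2 := Nat.pow_le_pow_left hn 2
    omega
  interval_cases p <;> revert h5 hp h2 h3 <;> decide

/-- a perfect central extension `L` of a group of order 20160 by a group `Z` of odd order is trivial, if there is an
abelian subgroup of index prime to 3 -/
theorem eq_bot_of_abelian (hperf : commutator L = ⊤) {Z : Subgroup L} [Z.Normal]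
    (hZ : ∀ z ∈ Z, ∀ g, z * g = g * z) (hodd : Odd (Nat.card Z)) (hq : Nat.card (L ⧸ Z) = 20160)
    {N : Subgroup L} (hN : ¬ 3 ∣ N.index)
    (hab : ∀ a ∈ N, ∀ b ∈ N, a * b = b * a) : Z = ⊥ := by
  by_contra hne
  have h1 : Nat.card Z ≠ 1 := fun h => hne (Subgroup.card_eq_one.mp h)
  obtain ⟨p, hp, hpZ⟩ := Nat.exists_prime_and_dvd h1
  have : Fact p.Prime := ⟨hp⟩
  obtain ⟨⟨z, hz⟩, hzo⟩ := exists_prime_orderOf_dvd_card' (G := Z) p hpZ
  have hzo' : orderOf z = p := by rw [← hzo, Subgroup.orderOf_mk]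
  have hzp : z ^ p = 1 := by rw [← hzo']; exact pow_orderOf_eq_one z
  have hz1 : z ≠ 1 := by
    rintro rfl
    rw [orderOf_one] at hzo'
    exact hp.one_lt.ne hzo'
  have hp2 : p ≠ 2 := by
    rintro rfl
    exact (Nat.not_even_iff_odd.mpr hodd) (even_iff_two_dvd.mpr hpZ)
  have hzc : z ∈ commutator L := by rw [hperf]; exact mem_top _
  by_cases hp3 : p = 3
  · subst hp3
    apply hz1
    exact eq_one_of_transfer (p := 3) N hab hN (hZ z hz) hzc hzp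
  · obtain ⟨P⟩ : Nonempty (Sylow p L) := inferInstance
    apply hz1
    refine eq_one_of_transfer (p := p) (P : Subgroup L) ?_ P.not_dvd_index (hZ z hz) hzc hzp
    -- `P` is abelian
    have hf : (((QuotientGroup.mk' Z).comp (P : Subgroup L).subtype).rangeRestrict).ker ≤ center ↥(P : Subgroup L) := by
      intro t ht
      rw [MonoidHom.ker_rangeRestrict, MonoidHom.mem_ker, MonoidHom.comp_apply, QuotientGroup.mk'_apply,
        QuotientGroup.eq_one_iff] at ht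
      rw [mem_center_iff]
      intro s
      exact Subtype.ext (hZ _ ht s).symm
    have hcyc : IsCyclic ↥(((QuotientGroup.mk' Z).comp (P : Subgroup L).subtype).range) := by
      obtain ⟨n, hn⟩ := IsPGroup.iff_card.mp (P.isPGroup'.map (QuotientGroup.mk' Z))
      have h3 : ((QuotientGroup.mk' Z).comp (P : Subgroup L).subtype).range =
          (P : Subgroup L).map (QuotientGroup.mk' Z) := by
        rw [MonoidHom.range_eq_map, ← Subgroup.map_map, ← MonoidHom.range_eq_map, Subgroup.range_subtype]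
      rw [h3]
      have h4 : Nat.card ((P : Subgroup L).map (QuotientGroup.mk' Z)) ∣ 20160 := by
        rw [← hq]; exact Subgroup.card_subgroup_dvd_card _
      rw [hn] at h4
      have h5 : n ≤ 1 := by
        by_contra h6
        push Not at h6
        exact prime_sq hp hp2 hp3 ((pow_dvd_pow p h6).trans h4)
      interval_cases n
      · rw [pow_zero] at hn
        rw [Subgroup.card_eq_one.mp hn]
        infer_instance
      · rw [pow_one] at hn
        exact isCyclic_of_prime_card hn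
    intro a ha b hb
    have h6 := MonoidHom.isMulCommutative_of_isCyclic_of_ker_le_center
      (((QuotientGroup.mk' Z).comp (P : Subgroup L).subtype).rangeRestrict) hf
    exact congrArg Subtype.val (h6.is_comm.comm (⟨a, ha⟩ : ↥(P : Subgroup L)) ⟨b, hb⟩)

end transfer

/-- `|L₃(4)| = 20160` -/
theorem card_psl {F : Type*} [Field F] [Fintype F] (hF : Fintype.card F = 4) :
    Nat.card (Matrix.ProjectiveSpecialLinearGroup (Fin 3) F) = 20160 := by
  have h1 := Cfsg.Agent.S0243.result hF 3 (by norm_num)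
  rw [Fin.prod_univ_three] at h1
  norm_num at h1
  omega

variable {G : Type u} [Group G] [Finite G] {x a : G} {L : Subgroup G}

/-! ### the group `L ∩ O(C(x))` -/

/-- an involution of `C_L(x)` -/
theorem exists_b (K : KFs.{u}) (T : TT x a L) : ∃ (b : G) (hb : b ∈ L), b * b = 1 ∧ b * x = x * b ∧
    (QuotientGroup.mk ⟨b, hb⟩ : Bar L) ≠ 1 := by
  obtain ⟨F, F3⟩ := K.ft T
  obtain ⟨s, hs1, hs2, hs3⟩ := F3.exs
  obtain ⟨c, hc, hcx, rfl⟩ := Res.KFacts.exists_lift T.toIsTriple hs3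
  have h1 : c * c ∈ core L := by
    rw [← mk_eq_one_iff (mul_mem hc hc)]
    exact hs1
  obtain ⟨k, hk⟩ := odd_card_core L
  have h2 : (c * c) ^ (2 * k + 1) = 1 := by
    rw [← hk]
    exact congrArg Subtype.val (pow_card_eq_one' (x := (⟨c * c, h1⟩ : ↥(core L))))
  have h3 : (QuotientGroup.mk ⟨c ^ (2 * k + 1), pow_mem hc _⟩ : Bar L) = QuotientGroup.mk ⟨c, hc⟩ := by
    have h4 : (⟨c ^ (2 * k + 1), pow_mem hc _⟩ : ↥L) = ⟨c, hc⟩ ^ (2 * k + 1) := rfl
    rw [h4, QuotientGroup.mk_pow, pow_succ, pow_mul, pow_two, hs1, one_pow, one_mul]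
  refine ⟨c ^ (2 * k + 1), pow_mem hc _, ?_, ?_, by rw [h3]; exact hs2⟩
  · rw [← (Commute.refl c).mul_pow, h2]
  · exact ((show Commute c x from hcx).pow_left _).eq

/-- the image of `L ∩ O(C(x))` in `L / O(L)` -/
noncomputable def Db (x : G) (L : Subgroup G) : Subgroup (Bar L) :=
  ((core (centralizer ({x} : Set G))).subgroupOf L).map (QuotientGroup.mk' (oddCore ↥L))

omit [Finite G] in
theorem mem_Db {y : Bar L} : y ∈ Db x L ↔ ∃ (d : G) (hd : d ∈ L), d ∈ core (centralizer ({x} : Set G)) ∧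
    QuotientGroup.mk ⟨d, hd⟩ = y := by
  constructor
  · rintro ⟨⟨d, hd⟩, h, rfl⟩
    exact ⟨d, hd, h, rfl⟩
  · rintro ⟨d, hd, h, rfl⟩
    exact ⟨⟨d, hd⟩, h, rfl⟩

/-- `L ∩ O(C(x))` covers `O(C_{L/O(L)}(x))` -/
theorem le_Db (K : KFs.{u}) (T : TT x a L) {y : Bar L} (hy : y ^ 3 = 1) (hyx : act L ⟨x, T.x_mem⟩ y = y) :
    y ∈ Db x L := by
  obtain ⟨F, F3⟩ := K.ft T
  obtain ⟨b, hb, hbb, hbx, hb1⟩ := exists_b K T
  obtain ⟨d, hd, hda, hf⟩ := T.bad
  have hdL := T.mem_normalizer_of_core hd hda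
  obtain ⟨y₀, h0, hy3, hyx0⟩ := F.core _ (oddC' T.toIsTriple) (act L ⟨d, hdL⟩)
    (mem_img.mpr ⟨d, hdL, hd, comm_c hda, rfl⟩)
  have hy1 : y₀ ≠ 1 := by
    rintro rfl
    rw [map_one, act_eq_one_iff] at h0
    exact hf h0
  have hbb' : (QuotientGroup.mk ⟨b, hb⟩ : Bar L) * QuotientGroup.mk ⟨b, hb⟩ = 1 := by
    rw [← QuotientGroup.mk_mul]
    have : (⟨b, hb⟩ : ↥L) * ⟨b, hb⟩ = 1 := Subtype.ext hbb
    rw [this, QuotientGroup.mk_one]
  have hbf : act L ⟨x, T.x_mem⟩ (QuotientGroup.mk ⟨b, hb⟩) = QuotientGroup.mk ⟨b, hb⟩ := by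
    rw [act_mk T.x_mem hb]
    congr 1
    refine Subtype.ext ?_
    change x * b * x⁻¹ = b
    rw [← hbx, mul_inv_cancel_right]
  have hinv := F.inv _ y₀ hbb' hb1 hbf hy3 hyx0
  -- `[d, b]`
  have hq : d * b * d⁻¹ ∈ L := conj_mem hdL hb
  have hc : d * b * d⁻¹ * b⁻¹ ∈ core (centralizer ({x} : Set G)) := by
    have h1 : d * b * d⁻¹ * b⁻¹ = d * (b * d⁻¹ * b⁻¹) := by group
    rw [h1]
    exact mul_mem hd (conj_core (mem_c hbx) (inv_mem hd))
  have h0' : y₀ ∈ Db x L := by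
    have h1 : y₀ * y₀ ∈ Db x L := by
      refine mem_Db.mpr ⟨_, mul_mem hq (inv_mem hb), hc, ?_⟩
      have h2 : (⟨d * b * d⁻¹ * b⁻¹, mul_mem hq (inv_mem hb)⟩ : ↥L) = ⟨d * b * d⁻¹, hq⟩ * ⟨b, hb⟩⁻¹ := rfl
      rw [h2, QuotientGroup.mk_mul, QuotientGroup.mk_inv, ← act_mk hdL hb, h0, MulAut.conj_apply]
      calc y₀ * QuotientGroup.mk ⟨b, hb⟩ * y₀⁻¹ * (QuotientGroup.mk ⟨b, hb⟩)⁻¹
          = y₀ * (QuotientGroup.mk ⟨b, hb⟩ * y₀ * (QuotientGroup.mk ⟨b, hb⟩)⁻¹)⁻¹ := by group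
        _ = y₀ * y₀ := by rw [hinv, inv_inv]
    have h2 := mul_mem h1 h1
    have h3 : y₀ * y₀ * (y₀ * y₀) = y₀ := by
      calc y₀ * y₀ * (y₀ * y₀) = y₀ ^ 3 * y₀ := by simp only [pow_succ, pow_zero, one_mul, mul_assoc]
        _ = y₀ := by rw [hy3, one_mul]
    rwa [h3] at h2
  have h1 := F.irr y₀ y hy3 hy1 hyx0 hy hyx
  refine (closure_le (Db x L)).mpr ?_ h1
  rintro _ ⟨r, hr, rfl⟩
  obtain ⟨c, hcL, hcx, rfl⟩ := Res.KFacts.exists_lift T.toIsTriple hr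
  obtain ⟨d', hd', hdc, rfl⟩ := mem_Db.mp h0'
  exact mem_Db.mpr ⟨c * d' * c⁻¹, mul_mem (mul_mem hcL hd') (inv_mem hcL), conj_core (mem_c hcx) hdc, rfl⟩

/-- `L ∩ O(C(x))` covers `O(C_{L/O(L)}(x))` -/
theorem Db_le (K : KFs.{u}) (T : TT x a L) {y : Bar L} (hy : y ∈ Db x L) :
    y ^ 3 = 1 ∧ act L ⟨x, T.x_mem⟩ y = y := by
  obtain ⟨F, F3⟩ := K.ft T
  have hfix : ∀ {y : Bar L}, y ∈ Db x L → act L ⟨x, T.x_mem⟩ y = y := by
    intro y hy
    obtain ⟨d, hd, hdc, rfl⟩ := mem_Db.mp hy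
    rw [act_mk T.x_mem hd]
    congr 1
    refine Subtype.ext ?_
    have h1 : d * x = x * d := comm_c (core_le _ hdc)
    change x * d * x⁻¹ = d
    rw [← h1, mul_inv_cancel_right]
  have hO : OddC (act L ⟨x, T.x_mem⟩) ((Db x L).map (MulAut.conj : Bar L →* _)) := by
    refine ⟨?_, ?_, ?_⟩
    · refine Odd.of_dvd_nat ?_ (card_map_dvd _ _)
      refine Odd.of_dvd_nat ?_ (card_map_dvd _ _)
      exact Odd.of_dvd_nat (odd_card_core (centralizer ({x} : Set G)))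
        (card_comap_dvd_of_injective _ _ (subtype_injective _))
    · rintro _ ⟨l, hl, rfl⟩
      exact ((F.toFacts.comm_conj_iff _ l).mpr (hfix hl)).symm
    · rintro r hr _ ⟨l, hl, rfl⟩
      refine ⟨r * l * r⁻¹, ?_, by rw [map_mul, map_mul, map_inv]⟩
      obtain ⟨c, hcL, hcx, rfl⟩ := Res.KFacts.exists_lift T.toIsTriple hr
      obtain ⟨d', hd', hdc, rfl⟩ := mem_Db.mp hl
      exact mem_Db.mpr ⟨c * d' * c⁻¹, mul_mem (mul_mem hcL hd') (inv_mem hcL), conj_core (mem_c hcx) hdc, rfl⟩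
  obtain ⟨y', h1, h2, h3⟩ := F.core _ hO (MulAut.conj y) ⟨y, hy, rfl⟩
  have h4 := F.toFacts.conj_inj h1
  rw [h4]
  exact ⟨h2, h3⟩

/-- **`L ∩ O(C(x))` is not abelian if `O(L) ≠ 1`** -/
theorem exists_comm (K : KFs.{u}) (T : TT x a L) (hZ : ∀ z ∈ core L, ∀ l ∈ L, z * l = l * z)
    (hne : core L ≠ ⊥) : ∃ y₁ ∈ L, ∃ y₂ ∈ L, y₁ ∈ core (centralizer ({x} : Set G)) ∧
      y₂ ∈ core (centralizer ({x} : Set G)) ∧ ⁅y₁, y₂⁆ ≠ 1 ∧ ⁅y₁, y₂⁆ ∈ core L := by
  obtain ⟨F, F3⟩ := K.ft T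
  have hcore : ∀ y₁ ∈ L, ∀ y₂ ∈ L, y₁ ∈ core (centralizer ({x} : Set G)) →
      y₂ ∈ core (centralizer ({x} : Set G)) → ⁅y₁, y₂⁆ ∈ core L := by
    intro y₁ h₁ y₂ h₂ c₁ c₂
    have m₁ := Db_le K T (mem_Db.mpr ⟨y₁, h₁, c₁, rfl⟩)
    have m₂ := Db_le K T (mem_Db.mpr ⟨y₂, h₂, c₂, rfl⟩)
    have h := F.ycomm _ _ m₁.1 m₁.2 m₂.1 m₂.2
    have h3 : ⁅y₁, y₂⁆ ∈ L := by
      rw [commutatorElement_def]
      exact mul_mem (mul_mem (mul_mem h₁ h₂) (inv_mem h₁)) (inv_mem h₂)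
    rw [← mk_eq_one_iff h3]
    have h4 : (⟨⁅y₁, y₂⁆, h3⟩ : ↥L) = ⟨y₁, h₁⟩ * ⟨y₂, h₂⟩ * ⟨y₁, h₁⟩⁻¹ * ⟨y₂, h₂⟩⁻¹ := rfl
    rw [h4, QuotientGroup.mk_mul, QuotientGroup.mk_mul, QuotientGroup.mk_mul, QuotientGroup.mk_inv,
      QuotientGroup.mk_inv, h]
    group
  by_contra hcon
  have hab : ∀ y₁ ∈ L, ∀ y₂ ∈ L, y₁ ∈ core (centralizer ({x} : Set G)) →
      y₂ ∈ core (centralizer ({x} : Set G)) → y₁ * y₂ = y₂ * y₁ := by
    intro y₁ h₁ y₂ h₂ c₁ c₂
    by_contra hn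
    exact hcon ⟨y₁, h₁, y₂, h₂, c₁, c₂, fun h => hn (commutatorElement_eq_one_iff_mul_comm.mp h),
      hcore y₁ h₁ y₂ h₂ c₁ c₂⟩
  apply hne
  obtain ⟨Y, hY9, hYm⟩ := F.nine
  have hq : Nat.card (Bar L) = 20160 := by
    obtain ⟨F', _, _, hF, ⟨e⟩⟩ := T.l34
    rw [Nat.card_congr e.toEquiv, card_psl hF]
  have hperf : commutator ↥L = ⊤ := by
    apply map_injective L.subtype_injective
    rw [_root_.commutator_def, map_commutator, ← MonoidHom.range_eq_map, range_subtype]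
    exact T.comp.perfect
  have hZ' : ∀ z ∈ oddCore ↥L, ∀ g : ↥L, z * g = g * z := by
    intro z hz g
    exact Subtype.ext (hZ z ⟨z, hz, rfl⟩ g g.2)
  have h1 : oddCore ↥L = ⊥ := by
    refine eq_bot_of_abelian hperf hZ' ?_ hq (N := Y.comap (QuotientGroup.mk' (oddCore ↥L))) ?_ ?_
    · have h2 := odd_card_core L
      rwa [core, card_map_of_injective (subtype_injective _)] at h2
    · rw [index_comap_of_surjective Y (QuotientGroup.mk'_surjective _)]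
      have h3 := card_mul_index Y
      rw [hY9] at h3
      change 9 * Y.index = Nat.card (Bar L) at h3
      rw [hq] at h3
      intro h4
      obtain ⟨k, hk⟩ := h4
      omega
    · have key : ∀ n : ↥L, n ∈ Y.comap (QuotientGroup.mk' (oddCore ↥L)) →
          ∃ d : ↥L, (d : G) ∈ core (centralizer ({x} : Set G)) ∧ ∃ z ∈ oddCore ↥L, n = d * z := by
        intro n hn
        have h3 := (hYm _).mp (mem_comap.mp hn)
        obtain ⟨d, hd, hdc, hdn⟩ := mem_Db.mp (le_Db K T h3.1 h3.2)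
        refine ⟨⟨d, hd⟩, hdc, (⟨d, hd⟩ : ↥L)⁻¹ * n, ?_, by group⟩
        exact QuotientGroup.eq.mp hdn
      intro n hn m hm
      obtain ⟨d, hd, z, hz, rfl⟩ := key n hn
      obtain ⟨d', hd', z', hz', rfl⟩ := key m hm
      have h3 : d * d' = d' * d := Subtype.ext (hab d d.2 d' d'.2 hd hd')
      calc d * z * (d' * z') = d * (z * d') * z' := by group
        _ = d * d' * (z * z') := by rw [hZ' z hz d']; group
        _ = d' * d * (z' * z) := by rw [h3, hZ' z hz z']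
        _ = d' * (d * z') * z := by group
        _ = d' * (z' * d) * z := by rw [hZ' z' hz' d]
        _ = d' * z' * (d * z) := by group
  rw [core, h1, Subgroup.map_bot]

/-! ### `Δ(Y A)` -/

/-- `[e, f]` fixes `J` if `J` has type `L₂` and `e`, `f` commute with `D` -/
theorem comm_fixes {D J : Subgroup G} {c y : G} (h : Mvd D c y J) (h2 : IsL2 (Bar J)) {e f : G}
    (he : e ∈ normalizer (J : Set G)) (hf : f ∈ normalizer (J : Set G)) (hed : ∀ d ∈ D, e * d = d * e)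
    (hfd : ∀ d ∈ D, f * d = d * f) (hodd : Odd (orderOf ⁅e, f⁆)) : Fixes ⁅e, f⁆ J := by
  obtain ⟨d₁, hd₁, d₂, hd₂, h1, h22, h12⟩ := L2Inner.exists_gens h.D4
  have hwK : ⁅e, f⁆ ∈ normalizer (J : Set G) := by
    rw [commutatorElement_def]
    exact mul_mem (mul_mem (mul_mem he hf) (inv_mem he)) (inv_mem hf)
  obtain ⟨F, _, _, -, ⟨R⟩⟩ := L2i.exists_rep h2
  have n₁ := h.nrm hd₁
  have n₂ := h.nrm hd₂
  have hss : ∀ u ∈ D, ∀ n : u ∈ normalizer (J : Set G), act J ⟨u, n⟩ * act J ⟨u, n⟩ = 1 := by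
    intro u hu n
    rw [← map_mul]
    have h1 : (⟨u, n⟩ : ↥(normalizer (J : Set G))) * ⟨u, n⟩ = 1 := Subtype.ext (h.sq u hu)
    rw [h1, map_one]
  have hα : act J ⟨⁅e, f⁆, hwK⟩ = ⁅act J ⟨e, he⟩, act J ⟨f, hf⟩⁆ := by
    rw [← map_commutatorElement]
    rfl
  have hαP : act J ⟨⁅e, f⁆, hwK⟩ ∈ R.PGL := by
    rw [hα, R.mem_PGL_iff_fld, map_commutatorElement, commutatorElement_eq_one_iff_mul_comm]
    exact Cfsg.Agent.Lib.AutSL2Out.ringEquiv_comm _ _
  have hcm : ∀ d ∈ D, ⁅e, f⁆ * d = d * ⁅e, f⁆ := by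
    intro d hd
    have c₁ : Commute e d := hed d hd
    have c₂ : Commute f d := hfd d hd
    rw [commutatorElement_def]
    exact (((c₁.mul_left c₂).mul_left c₁.inv_left).mul_left c₂.inv_left).eq
  have hαc : ∀ d ∈ D, ∀ (_ : d ≠ 1) (n : d ∈ normalizer (J : Set G)),
      act J ⟨⁅e, f⁆, hwK⟩ * act J ⟨d, n⟩ = act J ⟨d, n⟩ * act J ⟨⁅e, f⁆, hwK⟩ := by
    intro d hd hd1 n
    rw [← map_mul, ← map_mul]
    congr 1
    exact Subtype.ext (hcm d hd)
  have hc12 : act J ⟨d₁, n₁⟩ * act J ⟨d₂, n₂⟩ = act J ⟨d₂, n₂⟩ * act J ⟨d₁, n₁⟩ := by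
    rw [← map_mul, ← map_mul]
    congr 1
    exact Subtype.ext (L2Inner.comm_of_sq h.sq hd₁ hd₂)
  have hαα : act J ⟨⁅e, f⁆, hwK⟩ * act J ⟨⁅e, f⁆, hwK⟩ = 1 := by
    rcases L2Inner.WBAut.pgl_four R (L2Inner.WBTriple.mem_PGL (h.tri hd₁ h1) R)
      (L2Inner.WBTriple.mem_PGL (h.tri hd₂ h22) R)
      hαP (fun h3 => h.nfx hd₁ h1 ((act_eq_one_iff n₁).mp h3))
      (fun h3 => h.nfx hd₂ h22 ((act_eq_one_iff n₂).mp h3))
      (fun h3 => h.nfx (mul_mem hd₁ hd₂) (h.mul_ne hd₂ h12)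
        (L2Inner.Frame.fixes_of_act_eq n₁ n₂ (h.sq d₂ hd₂) h3))
      (hss d₁ hd₁ n₁) (hss d₂ hd₂ n₂) hc12 (hαc d₁ hd₁ h1 n₁) (hαc d₂ hd₂ h22 n₂) with
      h3 | h3 | h3 | h3
    · rw [h3, one_mul]
    · rw [h3]; exact hss d₁ hd₁ n₁
    · rw [h3]; exact hss d₂ hd₂ n₂
    · rw [h3, ← act_mul n₁ n₂]
      exact hss _ (mul_mem hd₁ hd₂) _
  rw [← act_eq_one_iff hwK]
  refine Cfsg.Agent.OddHalf.D6.PglType.eq_one_of_odd_sq hαα ?_
  have h3 : orderOf (act J ⟨⁅e, f⁆, hwK⟩) ∣ orderOf ⁅e, f⁆ := by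
    have h2 : orderOf (⟨⁅e, f⁆, hwK⟩ : ↥(normalizer (J : Set G))) = orderOf ⁅e, f⁆ :=
      Subgroup.orderOf_mk _ _
    rw [← h2]
    exact orderOf_map_dvd _ _
  exact Odd.of_dvd_nat hodd h3

theorem order_odd {H : Subgroup G} {z : G} (hz : z ∈ core H) : Odd (orderOf z) := by
  refine Odd.of_dvd_nat (odd_card_core H) ?_
  rw [← Subgroup.orderOf_mk z hz]
  exact orderOf_dvd_natCard _

/-- **the commutators of `L ∩ O(C(x))` are in `O(C(x f))`** -/
theorem mem_core_mul (hT : WorldL34 G) (K : KFs.{u}) (T : TT x a L) {Y : Subgroup G}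
    (hY4 : Nat.card Y = 4) (hsq : ∀ y ∈ Y, y * y = 1) (hYx : ∀ y ∈ Y, y * x = x * y)
    (hYL : Y ≤ centralizer (L : Set G)) {y₁ y₂ : G} (h₁ : y₁ ∈ L) (h₂ : y₂ ∈ L)
    (c₁ : y₁ ∈ core (centralizer ({x} : Set G))) (c₂ : y₂ ∈ core (centralizer ({x} : Set G)))
    (hc : ∀ d ∈ Y, d ≠ 1 → ⁅y₁, y₂⁆ ∈ core (centralizer ({d} : Set G))) {f : G} (hf : f ∈ Y) :
    ⁅y₁, y₂⁆ ∈ core (centralizer ({x * f} : Set G)) := by
  by_contra hn
  have hxf : x ≠ f := by
    rintro rfl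
    exact T.not_fixes (fixes_of_comm (hYL hf))
  have he := order_mul (sq_of_order T.invx) (hsq f hf) (hYx f hf).symm hxf
  have cy : ∀ {l d : G}, l ∈ L → d ∈ Y → l * d = d * l := fun hl hd =>
    mem_centralizer_iff.mp (hYL hd) _ hl
  have cxe : ∀ {l : G}, l ∈ L → l ∈ core (centralizer ({x} : Set G)) → l * (x * f) = x * f * l := by
    intro l hl hc
    exact ((show Commute l x from comm_c (core_le _ hc)).mul_right (show Commute l f from cy hl hf)).eq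
  have hcx : ⁅y₁, y₂⁆ ∈ core (centralizer ({x} : Set G)) := by
    rw [commutatorElement_def]
    exact mul_mem (mul_mem (mul_mem c₁ c₂) (inv_mem c₁)) (inv_mem c₂)
  have hcL : ⁅y₁, y₂⁆ ∈ L := by
    rw [commutatorElement_def]
    exact mul_mem (mul_mem (mul_mem h₁ h₂) (inv_mem h₁)) (inv_mem h₂)
  have hde : ∀ d ∈ Y, d * (x * f) = x * f * d := by
    intro d hd
    exact ((show Commute d x from hYx d hd).mul_right
      (show Commute d f from L2Inner.comm_of_sq hsq hd hf)).eq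
  have hex : x * f * x = x * (x * f) := by
    rw [mul_assoc, hYx f hf]
  obtain ⟨J, TJ, hfJ⟩ := exists_triple T.invx he hex hcx (mem_c (cxe hcL hcx)) hn
  have M : Mvd Y (x * f) ⁅y₁, y₂⁆ J :=
    ⟨hY4, hsq, hde, sq_of_order he, ne_one_of_order he, hc, mem_c (cxe hcL hcx), TJ.comp, hfJ⟩
  have n₁ := TJ.mem_normalizer_of_core c₁ (mem_c (cxe h₁ c₁))
  have n₂ := TJ.mem_normalizer_of_core c₂ (mem_c (cxe h₂ c₂))
  rcases M.typ27 hT with h | h
  · exact hfJ (comm_fixes M h n₁ n₂ (fun d hd => cy h₁ hd) (fun d hd => cy h₂ hd) (order_odd hcx))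
  · have hA : IsAltOdd (Bar J) := ⟨7, by norm_num, by decide, h⟩
    obtain ⟨h3, -⟩ := K.kA _ hA _ (Res.KFacts.act_sq TJ) _ (oddC' TJ) (img_ne TJ)
    have m₁ : act J ⟨y₁, n₁⟩ ∈ img x (x * f) J := mem_img.mpr ⟨y₁, n₁, c₁, cxe h₁ c₁, rfl⟩
    have m₂ : act J ⟨y₂, n₂⟩ ∈ img x (x * f) J := mem_img.mpr ⟨y₂, n₂, c₂, cxe h₂ c₂, rfl⟩
    have : Fact (Nat.Prime 3) := ⟨Nat.prime_three⟩
    have hcyc : IsCyclic ↥(img x (x * f) J) := isCyclic_of_prime_card h3
    have h4 := hcyc.isMulCommutative.is_comm.comm (⟨_, m₁⟩ : ↥(img x (x * f) J)) ⟨_, m₂⟩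
    have h5 : act J ⟨y₁, n₁⟩ * act J ⟨y₂, n₂⟩ = act J ⟨y₂, n₂⟩ * act J ⟨y₁, n₁⟩ :=
      congrArg Subtype.val h4
    apply hfJ
    have n₃ : ⁅y₁, y₂⁆ ∈ normalizer (J : Set G) := TJ.mem_normalizer_of_core hcx (mem_c (cxe hcL hcx))
    rw [← act_eq_one_iff n₃]
    have h6 : act J ⟨⁅y₁, y₂⁆, n₃⟩ = ⁅act J ⟨y₁, n₁⟩, act J ⟨y₂, n₂⟩⁆ := by
      rw [← map_commutatorElement]
      rfl
    rw [h6, commutatorElement_eq_one_iff_mul_comm]
    exact h5

theorem card_sup_le {E F : Subgroup G} (hc : ∀ e ∈ E, ∀ f ∈ F, e * f = f * e) :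
    Nat.card ↥(E ⊔ F : Subgroup G) ≤ Nat.card ↥E * Nat.card ↥F := by
  rw [← Nat.card_prod]
  refine Nat.card_le_card_of_surjective
    (fun p : ↥E × ↥F => (⟨p.1 * p.2, mul_mem (mem_sup_left p.1.2) (mem_sup_right p.2.2)⟩ :
      ↥(E ⊔ F : Subgroup G))) ?_
  rintro ⟨z, hz⟩
  obtain ⟨e, he, f, hf, rfl⟩ := (Res.WFun.mem_sup_of_comm hc).mp hz
  exact ⟨⟨⟨e, he⟩, f, hf⟩, rfl⟩

/-- an involution of `Z(L)` is in `O(L)` -/
theorem eq_one_of_cen (K : KFs.{u}) (T : TT x a L) {t : G} (ht : t ∈ L)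
    (htc : t ∈ centralizer (L : Set G)) (htt : t * t = 1) : t = 1 := by
  obtain ⟨F, F3⟩ := K.ft T
  have h1 : (QuotientGroup.mk ⟨t, ht⟩ : Bar L) = 1 := by
    apply F.cl
    apply MulEquiv.ext
    intro y
    obtain ⟨⟨l, hl⟩, rfl⟩ := QuotientGroup.mk_surjective y
    have h2 : (⟨t, ht⟩ : ↥L) * ⟨l, hl⟩ = ⟨l, hl⟩ * ⟨t, ht⟩ :=
      Subtype.ext (mem_centralizer_iff.mp htc l hl).symm
    rw [MulAut.conj_apply, MulAut.one_apply, ← QuotientGroup.mk_mul, h2, QuotientGroup.mk_mul,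
      mul_inv_cancel_right]
  have h2 := (mk_eq_one_iff ht).mp h1
  exact Cfsg.Agent.OddHalf.D6.PglType.eq_one_of_odd_sq htt (order_odd h2)

/-- **`Δ(Y A) ≠ 1` if `O(L) ≠ 1`** -/
theorem exists_delta (T3 : IsKBalanced 2 3 G) (hT : WorldL34 G) (K : KFs.{u}) (T : TT x a L)
    (hZ : ∀ z ∈ core L, ∀ l ∈ L, z * l = l * z) (hne : core L ≠ ⊥) {Y : Subgroup G}
    (hY4 : Nat.card Y = 4) (hsq : ∀ y ∈ Y, y * y = 1) (hYx : ∀ y ∈ Y, y * x = x * y)
    (hYL : Y ≤ centralizer (L : Set G))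
    (hYc : ∀ d ∈ Y, d ≠ 1 → core L ≤ core (centralizer ({d} : Set G))) :
    ∃ c ∈ core L, c ≠ 1 ∧ ∀ t ∈ L, t * t = 1 → ∀ y ∈ Y, t * y ≠ 1 →
      c ∈ core (centralizer ({t * y} : Set G)) := by
  obtain ⟨y₁, h₁, y₂, h₂, c₁, c₂, hc1, hcc⟩ := exists_comm K T hZ hne
  obtain ⟨c, hcd⟩ : ∃ c, c = ⁅y₁, y₂⁆ := ⟨_, rfl⟩
  have hx : ∀ f ∈ Y, c ∈ core (centralizer ({x * f} : Set G)) := fun f hf => by
    rw [hcd]
    exact mem_core_mul hT K T hY4 hsq hYx hYL h₁ h₂ c₁ c₂ (fun d hd hd1 => hYc d hd hd1 hcc) hf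
  rw [← hcd] at hc1 hcc
  refine ⟨c, hcc, hc1, ?_⟩
  have hcL := core_le L hcc
  have hy0 : ∀ d ∈ Y, d ≠ 1 → c ∈ core (centralizer ({d} : Set G)) := fun d hd hd1 => hYc d hd hd1 hcc
  have cy : ∀ {l d : G}, l ∈ L → d ∈ Y → l * d = d * l := fun hl hd =>
    mem_centralizer_iff.mp (hYL hd) _ hl
  have hx2 := sq_of_order T.invx
  -- `U = ⟨x⟩ Y`
  have hxc : ∀ e ∈ zpowers x, ∀ f ∈ Y, e * f = f * e := by
    intro e he f hf
    rcases (Res.WFun.mem_zpowers_of_sq hx2).mp he with rfl | rfl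
    · rw [one_mul, mul_one]
    · exact (hYx f hf).symm
  have hxY : x ∉ Y := fun h => T.not_fixes (fixes_of_comm (hYL h))
  have hU : IsElementaryAbelian 2 (zpowers x ⊔ Y : Subgroup G) :=
    Res.WFun.el_sup (Res.WFun.el_zpowers hx2) (Res.WFun.el_of_sq hsq) hxc
  have hU8 : Nat.card ↥(zpowers x ⊔ Y : Subgroup G) = 2 ^ 3 := by
    have h1 : Nat.card ↥(zpowers x) = 2 := by rw [Nat.card_zpowers, T.invx]
    have h2 := card_sup_le hxc
    have h3 := Res.WFun.card_mul_le_sup (E := zpowers x) (F := Y) (by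
      rw [eq_bot_iff]
      rintro z ⟨hz, hz'⟩
      rcases (Res.WFun.mem_zpowers_of_sq hx2).mp hz with rfl | rfl
      · exact one_mem _
      · exact absurd hz' hxY)
    rw [h1, hY4] at h2 h3
    omega
  have hmemU : ∀ u ∈ (zpowers x ⊔ Y : Subgroup G), u ≠ 1 → c ∈ core (centralizer ({u} : Set G)) := by
    intro u hu hu1
    obtain ⟨e, he, f, hf, rfl⟩ := (Res.WFun.mem_sup_of_comm hxc).mp hu
    rcases (Res.WFun.mem_zpowers_of_sq hx2).mp he with rfl | rfl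
    · rw [one_mul] at hu1 ⊢
      exact hy0 f hf hu1
    · exact hx f hf
  -- the involutions `b y`
  obtain ⟨b, hb, hbb, hbx, hb1⟩ := exists_b K T
  have hby : ∀ y ∈ Y, c ∈ core (centralizer ({b * y} : Set G)) := by
    intro y hy
    have hne1 : b * y ≠ 1 := by
      intro h
      have h1 : b = y := by
        have h2 := eq_inv_of_mul_eq_one_left h
        rwa [inv_eq_of_mul_eq_one_left (hsq y hy)] at h2
      rw [← h1] at hy
      have h3 := eq_one_of_cen K T hb (hYL hy) hbb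
      subst h3
      exact hb1 rfl
    have ho : orderOf (b * y) = 2 := by
      refine orderOf_eq_prime ?_ hne1
      have h1 : b * y = y * b := cy hb hy
      calc (b * y) ^ 2 = b * (y * b) * y := by rw [pow_two]; group
        _ = (b * b) * (y * y) := by rw [← h1]; group
        _ = 1 := by rw [hbb, hsq y hy, one_mul]
    have h1 := T3 (zpowers x ⊔ Y) hU hU8 (b * y) ho (by
      intro u hu
      obtain ⟨e, he, f, hf, rfl⟩ := (Res.WFun.mem_sup_of_comm hxc).mp hu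
      have d₁ : Commute e (b * y) := by
        rcases (Res.WFun.mem_zpowers_of_sq hx2).mp he with rfl | rfl
        · exact Commute.one_left _
        · exact (show Commute e b from hbx.symm).mul_right (show Commute e y from (hYx y hy).symm)
      have d₂ : Commute f (b * y) :=
        (show Commute f b from (cy hb hf).symm).mul_right (show Commute f y from
          L2Inner.comm_of_sq hsq hf hy)
      exact (d₁.mul_left d₂).eq)
    refine h1 ⟨?_, ?_⟩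
    · refine mem_iInf.mpr fun u => ?_
      exact hmemU u.1 u.2.1 u.2.2
    · refine mem_c ?_
      exact ((show Commute c b from hZ c hcc b hb).mul_right (show Commute c y from cy hcL hy)).eq
  intro t ht htt y hy hty
  by_cases ht1 : t = 1
  · subst ht1
    rw [one_mul] at hty ⊢
    exact hy0 y hy hty
  obtain ⟨F, F3⟩ := K.ft T
  have hsqm : ∀ s (hs : s ∈ L), s * s = 1 →
      (QuotientGroup.mk ⟨s, hs⟩ : Bar L) * QuotientGroup.mk ⟨s, hs⟩ = 1 := by
    intro s hs hss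
    rw [← QuotientGroup.mk_mul]
    have : (⟨s, hs⟩ : ↥L) * ⟨s, hs⟩ = 1 := Subtype.ext hss
    rw [this, QuotientGroup.mk_one]
  have ht1' : (QuotientGroup.mk ⟨t, ht⟩ : Bar L) ≠ 1 := by
    intro h
    exact ht1 (Cfsg.Agent.OddHalf.D6.PglType.eq_one_of_odd_sq htt (order_odd ((mk_eq_one_iff ht).mp h)))
  obtain ⟨g, hg⟩ := F.cls _ _ (hsqm b hb hbb) hb1 (hsqm t ht htt) ht1'
  obtain ⟨⟨g, hgL⟩, rfl⟩ := QuotientGroup.mk_surjective g
  have hgb : g * b * g⁻¹ ∈ L := mul_mem (mul_mem hgL hb) (inv_mem hgL)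
  have h1 : (QuotientGroup.mk (⟨t, ht⟩ : ↥L) : Bar L) = QuotientGroup.mk ⟨g * b * g⁻¹, hgb⟩ := by
    rw [← hg]; rfl
  have h2 := (mk_eq_iff ht hgb).mp h1
  -- `z = t⁻¹ (g b g⁻¹)` is central
  have h3 : t⁻¹ * (g * b * g⁻¹) = 1 := by
    have hz := hZ _ h2 t ht
    refine Cfsg.Agent.OddHalf.D6.PglType.eq_one_of_odd_sq ?_ (order_odd h2)
    have h4 : g * b * g⁻¹ * (g * b * g⁻¹) = 1 := by
      calc g * b * g⁻¹ * (g * b * g⁻¹) = g * (b * b) * g⁻¹ := by group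
        _ = 1 := by rw [hbb, mul_one, mul_inv_cancel]
    have h5 : t⁻¹ = t := inv_eq_of_mul_eq_one_left htt
    rw [h5] at hz ⊢
    calc t * (g * b * g⁻¹) * (t * (g * b * g⁻¹)) = (t * (g * b * g⁻¹) * t) * (g * b * g⁻¹) := by group
      _ = (t * (t * (g * b * g⁻¹))) * (g * b * g⁻¹) := by rw [hz]
      _ = (t * t) * (g * b * g⁻¹ * (g * b * g⁻¹)) := by group
      _ = 1 := by rw [htt, h4, one_mul]
  have h4 : g * b * g⁻¹ = t := (inv_mul_eq_one.mp h3).symm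
  have h5 : g * (b * y) * g⁻¹ = t * y := by
    have h6 : y * g⁻¹ = g⁻¹ * y := (cy (inv_mem hgL) hy).symm
    calc g * (b * y) * g⁻¹ = g * b * (y * g⁻¹) := by group
      _ = g * b * g⁻¹ * y := by rw [h6]; group
      _ = t * y := by rw [h4]
  have h6 : g⁻¹ * c * g = c := by
    have h7 : c * g = g * c := hZ c hcc g hgL
    rw [mul_assoc, h7, inv_mul_cancel_left]
  rw [← h5, ← cj_centralizer, core_cj, mem_cj, h6]
  exact hby y hy

/-- **`O(L) = 1` if `W_U = 1` for a subgroup `U ≤ Y A` of order at least 16.** -/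
theorem core_eq_bot (T3 : Fun.ThreeBal G) (hT : WorldL34 G) (T : TT x a L)
    (hZ : ∀ z ∈ core L, ∀ l ∈ L, z * l = l * z) {Y : Subgroup G}
    (hY4 : Nat.card Y = 4) (hsq : ∀ y ∈ Y, y * y = 1) (hYx : ∀ y ∈ Y, y * x = x * y)
    (hYL : Y ≤ centralizer (L : Set G))
    (hYc : ∀ d ∈ Y, d ≠ 1 → core L ≤ core (centralizer ({d} : Set G))) {A : Subgroup G} (hA : A ≤ L)
    (hAe : IsElementaryAbelian 2 A) (hA8 : 8 ≤ Nat.card A) {U : Subgroup G} (hU : U ≤ Y ⊔ A)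
    (h16 : 16 ≤ Nat.card ↥U) (hW : Fun.Wd U = ⊥) :
    core L = ⊥ := by
  have K : KFs.{u} := OneGlue.kfs
  by_contra hne
  obtain ⟨c, hcc, hc1, hc⟩ := exists_delta T3.bal hT K T hZ hne hY4 hsq hYx hYL hYc
  have hcm : ∀ y ∈ Y, ∀ t ∈ A, y * t = t * y := fun y hy t ht =>
    (mem_centralizer_iff.mp (hYL hy) t (hA ht)).symm
  have hE : IsElementaryAbelian 2 (Y ⊔ A : Subgroup G) :=
    Res.WFun.el_sup (Res.WFun.el_of_sq hsq) hAe hcm
  have hYA : ∀ z ∈ Y, z ∈ A → z = 1 := fun z hz hz' => eq_one_of_cen K T (hA hz') (hYL hz) (hsq z hz)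
  have h32 : 32 ≤ Nat.card ↥(Y ⊔ A : Subgroup G) := by
    have h1 := Res.WFun.card_mul_le_sup (E := Y) (F := A) (by
      rw [eq_bot_iff]
      rintro z ⟨hz, hz'⟩
      exact mem_bot.mpr (hYA z hz hz'))
    rw [hY4] at h1
    omega
  have h1 := Fun.Wd_eq T3 hE h32 hU h16
  rw [hW] at h1
  have h2 := Fun.Wd_inf T3 hE h32 le_rfl (by omega)
  rw [← h1, bot_inf_eq] at h2
  apply hc1
  have h3 : c ∈ signalizerDelta 2 (Y ⊔ A) := by
    refine mem_iInf.mpr ?_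
    rintro ⟨u, hu, hu1⟩
    obtain ⟨y, hy, t, ht, rfl⟩ := (Res.WFun.mem_sup_of_comm hcm).mp hu
    rw [hcm y hy t ht] at hu1
    have h4 := hc t (hA ht) (Res.CoreFree.sq_of_el hAe ht) y hy hu1
    change c ∈ core (centralizer ({y * t} : Set G))
    rw [hcm y hy t ht]
    exact h4
  rw [← h2, mem_bot] at h3
  exact h3

/-! ### the theorem -/

omit [Finite G] in
theorem typ_of (hT : WorldL34 G) : Typ G := by
  intro x c J T
  rcases hT _ _ _ T with h | h | h | h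
  · exact Or.inl h
  · exact Or.inr (Or.inl ⟨7, by norm_num, by decide, h⟩)
  · exact Or.inr (Or.inl ⟨9, by norm_num, by decide, h⟩)
  · exact Or.inr (Or.inr h)

theorem exists_sit2 (T : TT x a L) {t : G} (ht : orderOf t = 2) (hne : t ≠ a) (hta : t * a = a * t)
    (hf : Fixes t L) : ∃ (P Z : Subgroup G) (A : Bool → Subgroup G), A34.Sit2 a t L P Z A := by
  obtain ⟨h1, h2⟩ := isComp_cen T.comp (mem_c hta) (sq_of_order ht) hf
  obtain ⟨P, hP, -⟩ := exists_isSyl (IsPGroup.of_bot : IsPGroup 2 ↥(⊥ : Subgroup G)) (bot_le : ⊥ ≤ cen L t)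
  have hPL := Res.WFun.isSyl_of_sup h2 hP
  obtain ⟨Z, A, hh⟩ := HeisOf.heis_of_isSyl T.l34 hPL
  have S : N2S.FTwo.Sit a L P Z A := ⟨T.inva, T.comp, T.l34, hPL.le, hh⟩
  have haf : Fixes a L := fixes_self' fun l hl => T.comp.le hl
  have key : ∀ {u : G}, u ∈ P → u * u = 1 → Fixes u L → u = 1 := fun hu huu hf =>
    A34.Sit.eq_one S (hPL.le hu) huu hf
  have hZP : Z ≤ P := (hh.ZA true).trans (hh.AP true)
  refine ⟨P, Z, A, S, ht, hta, fun p hp => comm_of_mem_cen (hP.le hp), fun hz => ?_, fun hz => ?_⟩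
  · exact ne_one_of_order ht (key (hZP hz) (sq_of_order ht) hf)
  · have h3 : a * t * (a * t) = 1 := by
      calc a * t * (a * t) = a * (t * a) * t := by group
        _ = (a * a) * (t * t) := by rw [hta]; group
        _ = 1 := by rw [sq_of_order ht, sq_of_order T.inva, one_mul]
    have h4 := key (hZP hz) h3 (fixes_mul haf hf)
    apply hne
    have h5 := eq_inv_of_mul_eq_one_right h4
    rwa [inv_eq_of_mul_eq_one_left (sq_of_order T.inva)] at h5

omit [Finite G] in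
/-- an involution fixing `L` commutes with `L`, if `O(L) ≤ Z(L)` -/
theorem cent_of_fixes (hperf : ⁅L, L⁆ = L) (hZ : ∀ z ∈ core L, ∀ l ∈ L, z * l = l * z) {t : G}
    (htt : t * t = 1) (hf : Fixes t L) : t ∈ centralizer (L : Set G) := by
  have h1 : ⁅zpowers t, L⁆ ≤ core L := by
    rw [commutator_le]
    intro g hg l hl
    rcases (Res.WFun.mem_zpowers_of_sq htt).mp hg with rfl | rfl
    · rw [commutatorElement_one_left]; exact one_mem _
    · exact hf.2 l hl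
  have h2 : ⁅⁅zpowers t, L⁆, L⁆ = ⊥ := by
    rw [commutator_eq_bot_iff_le_centralizer]
    intro z hz
    exact mem_centralizer_iff.mpr fun l hl => (hZ z (h1 hz) l hl).symm
  have h3 : ⁅⁅L, zpowers t⁆, L⁆ = ⊥ := by rw [commutator_comm L (zpowers t)]; exact h2
  have h4 := commutator_commutator_eq_bot_of_rotate h3 h2
  rw [hperf, commutator_eq_bot_iff_le_centralizer] at h4
  rw [mem_centralizer_iff]
  intro l hl
  exact (mem_centralizer_iff.mp (h4 hl) t (mem_zpowers t)).symm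

/-- `cen L t = L` -/
theorem cen_eq_self (T : TT x a L) (hZ : ∀ z ∈ core L, ∀ l ∈ L, z * l = l * z) {t : G}
    (ht : orderOf t = 2) (hta : t * a = a * t) (hf : Fixes t L) : cen L t = L := by
  obtain ⟨h1, h2⟩ := isComp_cen T.comp (mem_c hta) (sq_of_order ht) hf
  refine le_antisymm (cen_le L t) ?_
  have h3 : ⁅cen L t ⊔ core L, cen L t ⊔ core L⁆ ≤ cen L t := by
    rw [commutator_le]
    intro u hu v hv
    rw [h2] at hu hv
    obtain ⟨u', hu', hz⟩ := exists_mul_of_sup h2 hu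
    obtain ⟨v', hv', hz'⟩ := exists_mul_of_sup h2 hv
    obtain ⟨z, hzd⟩ : ∃ z, z = u'⁻¹ * u := ⟨_, rfl⟩
    obtain ⟨z', hzd'⟩ : ∃ z', z' = v'⁻¹ * v := ⟨_, rfl⟩
    obtain rfl : u = u' * z := by rw [hzd, mul_inv_cancel_left]
    obtain rfl : v = v' * z' := by rw [hzd', mul_inv_cancel_left]
    rw [← hzd] at hz
    rw [← hzd'] at hz'
    have h5 : ⁅u' * z, v' * z'⁆ = ⁅u', v'⁆ := by
      have e1 := hZ z hz v' (cen_le L t hv')
      have e2 := hZ z' hz' u' (cen_le L t hu')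
      have e3 := hZ z hz z' (core_le L hz')
      rw [commutatorElement_def, commutatorElement_def]
      calc u' * z * (v' * z') * (u' * z)⁻¹ * (v' * z')⁻¹
          = u' * (z * v') * z' * z⁻¹ * u'⁻¹ * z'⁻¹ * v'⁻¹ := by group
        _ = u' * v' * (z * z') * z⁻¹ * u'⁻¹ * z'⁻¹ * v'⁻¹ := by rw [e1]; group
        _ = u' * v' * (z' * u'⁻¹) * z'⁻¹ * v'⁻¹ := by rw [e3]; group
        _ = u' * v' * (u'⁻¹ * z') * z'⁻¹ * v'⁻¹ := by
          rw [hZ z' hz' u'⁻¹ (inv_mem (cen_le L t hu'))]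
        _ = u' * v' * u'⁻¹ * v'⁻¹ := by group
    rw [h5, commutatorElement_def]
    exact mul_mem (mul_mem (mul_mem hu' hv') (inv_mem hu')) (inv_mem hv')
  rw [h2, T.comp.perfect] at h3
  exact h3

/-- `O(L) ≤ O(C(t))` -/
theorem core_le_cent (hT : WorldL34 G) (T : TT x a L) (hZ : ∀ z ∈ core L, ∀ l ∈ L, z * l = l * z) {t : G}
    (ht : orderOf t = 2) (hta : t * a = a * t) (htx : t * x = x * t) (hf : Fixes t L) :
    core L ≤ core (centralizer ({t} : Set G)) := by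
  have h0 := cen_eq_self T hZ ht hta hf
  obtain ⟨N, hN, -, hor⟩ := pump34 OneGlue.kfs (typ_of hT) T.toIsTriple T.l34 ht hta htx hf
  rw [h0] at hor
  rcases hor with ⟨-, -, h1⟩ | ⟨h1, h2⟩
  · exact (core_le_of_sup h1).trans hN.comp.core_le_core
  · obtain ⟨-, -, -, h3, -⟩ := exists_diag hN.comp (mem_c hta.symm) (sq_of_order T.inva) h1
    rw [h2, h3]
    exact inf_le_right

/-- **(SL): `O(L) = 1` if `W = 1`**, and `[L, O(C(a))] = 1`. -/
theorem sl (T3 : Fun.ThreeBal G) (hT : WorldL34 G) (T : TT x a L)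
    (h : ∃ t, orderOf t = 2 ∧ t ≠ a ∧ t * a = a * t ∧ t * x = x * t ∧ Fixes t L)
    (hW : ∀ A ≤ L, (∀ b ∈ A, b * b = 1) → Nat.card A = 16 → Fun.Wd A = ⊥) :
    core L = ⊥ ∧ ∀ l ∈ L, ∀ y ∈ core (centralizer ({a} : Set G)), l * y = y * l := by
  obtain ⟨t, ht, hne, hta, htx, hf⟩ := h
  obtain ⟨P, Z, A, S⟩ := exists_sit2 T ht hne hta hf
  have hAL : A true ≤ L := (S.heis.AP true).trans S.PL
  have hA16 : Nat.card (A true) = 16 := S.heis.cardA true
  have hAsq : ∀ b ∈ A true, b * b = 1 := S.heis.Asq true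
  have hWA := hW _ hAL hAsq hA16
  have hcomm : ∀ l ∈ L, ∀ y ∈ core (centralizer ({a} : Set G)), l * y = y * l := fun l hl y hy =>
    S.comm_of_bot (typ_of hT) T3 hWA hl hy
  refine ⟨?_, hcomm⟩
  have hZ : ∀ z ∈ core L, ∀ l ∈ L, z * l = l * z := fun z hz l hl =>
    (hcomm l hl z (T.comp.core_le_core hz)).symm
  have ha2 := sq_of_order T.inva
  have ht2 := sq_of_order ht
  have haf : Fixes a L := fixes_self' fun l hl => T.comp.le hl
  have hat : orderOf (a * t) = 2 := order_mul ha2 ht2 hta.symm hne.symm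
  have hatf : Fixes (a * t) L := fixes_mul haf hf
  have hata : a * t * a = a * (a * t) := by rw [mul_assoc, hta]
  have hatx : a * t * x = x * (a * t) :=
    ((show Commute a x from T.comm).mul_left (show Commute t x from htx)).eq
  -- `Y = ⟨a, t⟩`
  have hc : ∀ e ∈ zpowers a, ∀ f ∈ zpowers t, e * f = f * e := by
    intro e he f hf
    obtain ⟨n, rfl⟩ := mem_zpowers_iff.mp he
    obtain ⟨m, rfl⟩ := mem_zpowers_iff.mp hf
    exact ((show Commute a t from hta.symm).zpow_zpow n m).eq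
  have hmem : ∀ y ∈ (zpowers a ⊔ zpowers t : Subgroup G), y = 1 ∨ y = a ∨ y = t ∨ y = a * t := by
    intro y hy
    obtain ⟨e, he, f, hf, rfl⟩ := (Res.WFun.mem_sup_of_comm hc).mp hy
    rcases (Res.WFun.mem_zpowers_of_sq ha2).mp he with rfl | rfl
    · rcases (Res.WFun.mem_zpowers_of_sq ht2).mp hf with rfl | rfl
      · exact Or.inl (one_mul 1)
      · exact Or.inr (Or.inr (Or.inl (one_mul _)))
    · rcases (Res.WFun.mem_zpowers_of_sq ht2).mp hf with rfl | rfl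
      · exact Or.inr (Or.inl (mul_one _))
      · exact Or.inr (Or.inr (Or.inr rfl))
  have hY4 : Nat.card ↥(zpowers a ⊔ zpowers t : Subgroup G) = 4 := by
    have h1 := card_sup_le hc
    have h2 := Res.WFun.card_mul_le_sup (E := zpowers a) (F := zpowers t) (by
      rw [eq_bot_iff]
      rintro z ⟨hz, hz'⟩
      rcases (Res.WFun.mem_zpowers_of_sq ha2).mp hz with rfl | rfl
      · exact one_mem _
      · rcases (Res.WFun.mem_zpowers_of_sq ht2).mp hz' with h3 | h3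
        · exact absurd h3 (ne_one_of_order T.inva)
        · exact absurd h3.symm hne)
    rw [Nat.card_zpowers, Nat.card_zpowers, T.inva, ht] at h1 h2
    omega
  refine core_eq_bot T3 hT T hZ hY4 ?_ ?_ ?_ ?_ hAL (Res.WFun.el_of_sq hAsq) (by omega)
    (le_sup_right : A true ≤ _) (by omega) hWA
  · intro y hy
    rcases hmem y hy with rfl | rfl | rfl | rfl
    · exact one_mul 1
    · exact ha2
    · exact ht2
    · exact sq_of_order hat
  · intro y hy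
    rcases hmem y hy with rfl | rfl | rfl | rfl
    · rw [one_mul, mul_one]
    · exact T.comm
    · exact htx
    · exact hatx
  · refine sup_le (zpowers_le.mpr ?_) (zpowers_le.mpr ?_)
    · exact mem_K T.toIsTriple
    · exact cent_of_fixes T.comp.perfect hZ ht2 hf
  · intro d hd hd1
    rcases hmem d hd with rfl | rfl | rfl | rfl
    · exact absurd rfl hd1
    · exact T.comp.core_le_core
    · exact core_le_cent hT T hZ ht hta htx hf
    · exact core_le_cent hT T hZ hat hata hatx hatf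

end Cfsg.Agent.UGT.N2W.SL
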