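import Cfsg.Agent.UGT.N2S.FHyp
import Cfsg.Agent.UGT.N2W.Fun

/-!
# UGT N2, cores: 3-balance of the world `{L₂, A₇, A₉, L₃(4)}` (UGT #17697, [3B])

`three_bal`: `U` elementary abelian of order at least 8, `c` an involution commuting with `U`:
`Δ(U) ∩ C(c) ≤ O(C(c))`.  `threeBal_of`: `ThreeBal G`.
-/

set_option autoImplicit false

open Cfsg Subgroup
open Cfsg.Agent.SignalizersComponents Cfsg.Agent.Lib
open Cfsg.Agent.SignalizersComponents.IntrinsicBasic
open Cfsg.Agent.SignalizersComponents.PLayerAut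
open Cfsg.Agent.Intrinsic.Basic Cfsg.Agent.Intrinsic.Cen Cfsg.Agent.Intrinsic.Diag
open Cfsg.Agent.UGT.Triple Cfsg.Agent.UGT.TriBase
open Cfsg.Agent.UGT.Nodes (WorldL34)

namespace Cfsg.Agent.UGT.N2W

universe u

/-- `⟨U, c⟩ = U ∪ U c` -/
def adj {G : Type*} [Group G] (U : Subgroup G) (c : G) (cc : c * c = 1) (com : ∀ u ∈ U, u * c = c * u) :
    Subgroup G where
  carrier := {g | g ∈ U ∨ g * c ∈ U}
  one_mem' := Or.inl (one_mem U)
  mul_mem' := by
    have key : ∀ {g : G}, g * c ∈ U → g * c = c * g := by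
      intro g hg
      have h1 := com _ hg
      rw [mul_assoc, cc, mul_one] at h1
      calc g * c = c * (c * (g * c)) := by rw [← mul_assoc c c, cc, one_mul]
        _ = c * g := by rw [← h1]
    rintro a b (ha | ha) (hb | hb)
    · exact Or.inl (mul_mem ha hb)
    · right; rw [mul_assoc]; exact mul_mem ha hb
    · right
      have h1 : a * b * c = (a * c) * b := by
        rw [mul_assoc, com b hb, mul_assoc]
      rw [h1]; exact mul_mem ha hb
    · left
      have h1 : a * b = (a * c) * (b * c) := by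
        rw [key hb, mul_assoc, ← mul_assoc c c b, cc, one_mul]
      rw [h1]; exact mul_mem ha hb
  inv_mem' := by
    rintro a (ha | ha)
    · exact Or.inl (inv_mem ha)
    · right
      have h1 := com _ ha
      rw [mul_assoc, cc, mul_one] at h1
      have h2 : (a * c)⁻¹ ∈ U := inv_mem ha
      have hc : c⁻¹ = c := inv_eq_of_mul_eq_one_left cc
      have h3 : a * c = c * a := by
        calc a * c = c * (c * (a * c)) := by rw [← mul_assoc c c, cc, one_mul]
          _ = c * a := by rw [← h1]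
      have h4 : a⁻¹ * c = (a * c)⁻¹ := by
        rw [h3, mul_inv_rev, hc]
      rw [h4]; exact h2

theorem mem_adj {G : Type*} [Group G] {U : Subgroup G} {c : G} {cc : c * c = 1} {com : ∀ u ∈ U, u * c = c * u}
    {g : G} : g ∈ adj U c cc com ↔ g ∈ U ∨ g * c ∈ U := Iff.rfl

theorem adj_sq {G : Type*} [Group G] {U : Subgroup G} {c : G} {cc : c * c = 1} {com : ∀ u ∈ U, u * c = c * u}
    (sq : ∀ u ∈ U, u * u = 1) {g : G} (hg : g ∈ adj U c cc com) : g * g = 1 := by
  rcases hg with h | h
  · exact sq g h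
  · have h1 := sq _ h
    have h2 := com _ h
    rw [mul_assoc, cc, mul_one] at h2
    have h3 : g * c * (g * c) = g * g := by
      rw [mul_assoc, ← h2]
    rw [← h3]; exact h1

variable {G : Type u} [Group G] [Finite G]

/-- **3-balance of the world `{L₂, A₇, A₉, L₃(4)}`** -/
theorem three_bal (hT : WorldL34 G) {U : Subgroup G} (sq : ∀ u ∈ U, u * u = 1) (hU : 4 < Nat.card U)
    {c z : G} (cc : c * c = 1) (c1 : c ≠ 1) (com : ∀ u ∈ U, u * c = c * u)
    (hz : ∀ u ∈ U, u ≠ 1 → z ∈ core (centralizer ({u} : Set G)))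
    (hzc : z ∈ centralizer ({c} : Set G)) : z ∈ core (centralizer ({c} : Set G)) := by
  refine N2S.FHyp.b3 (E := adj U c cc com) hT (fun e he => adj_sq sq he) (fun u hu => Or.inl hu) hU ?_ c1 hz hzc
  right
  rw [cc]; exact one_mem U

/-- **[3B]** -/
theorem threeBal_of (hT : WorldL34 G)
    (FT : ∀ a : G, orderOf a = 2 → Group.IsSolvable ↥(centralizerPPrimeCore 2 a)) : Fun.ThreeBal G where
  bal := by
    rintro U hU hc b hb com z ⟨hz, hzb⟩
    have bb : b * b = 1 := by rw [← pow_two, ← hb, pow_orderOf_eq_one]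
    have b1 : b ≠ 1 := by
      rintro rfl
      rw [orderOf_one] at hb
      omega
    refine three_bal hT (fun u hu => ?_) (by rw [hc]; norm_num) bb b1 com
      (fun u hu hu1 => Func52.delta_le hu hu1 hz) hzb
    rw [← pow_two]; exact hU.2 u hu
  solv := FT

/-- **[3B]**, odd groups solvable -/
theorem threeBal_of' (hT : WorldL34 G) (FT : ∀ Y : Subgroup G, Odd (Nat.card Y) → Group.IsSolvable Y) :
    Fun.ThreeBal G := threeBal_of hT fun a _ => FT _ (Func52.core_odd a)

end Cfsg.Agent.UGT.N2W
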