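import Cfsg.Agent.UGT.N2W.CaseA
import Cfsg.Agent.UGT.N2W.In2

/-!
# STEP 1 over a four-group (N2, cores, bb #17697 (3)), and `Parts` from (5)

* `le_cw_of_four`: `[L, O(N(W))] ≤ W` from a four-group `R` of fine involutions.
* `RCfg.pc`: `K = L O(K)`, `[L, O(N(W))] ≤ W` for the 2-component `K` of `N(W)` containing `L`.
* `comm`: the germs `L W`, `(L W)^m` commute modulo `W` or are equal.
* `parts`: `Parts G` from (5).
-/

set_option autoImplicit false
set_option linter.unusedSectionVars false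

open Cfsg Subgroup
open Cfsg.Agent.SignalizersComponents Cfsg.Agent.Lib
open Cfsg.Agent.SignalizersComponents.IntrinsicBasic
open Cfsg.Agent.Intrinsic.Basic Cfsg.Agent.Intrinsic.Cen Cfsg.Agent.Intrinsic.Diag
open Cfsg.Agent.McLLyComp.Act
open Cfsg.Agent.UGT.Triple Cfsg.Agent.UGT.PumpGen Cfsg.Agent.UGT.TriBase
open Cfsg.Agent.UGT.Iface (Bar IsL34 MinCex)
open Cfsg.Agent.UGT.Nodes (WorldL34)
open Cfsg.Agent.UGT.NodeHeG (HF)
open Cfsg.Agent.UGT.Res.Base Cfsg.Agent.UGT.Res.Abel Cfsg.Agent.UGT.Res.CoreFree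
open Cfsg.Agent.UGT.Res.WFun (el_of_sq el_mono)
open Cfsg.Agent.UGT.Res.WPair (cj_sup)
open Cfsg.Agent.UGT.Res.W1 (cw mem_cw comm_symm)
open Cfsg.Agent.UGT.N2S (TT Typ)
open scoped commutatorElement

namespace Cfsg.Agent.UGT.N2W.CommR

open Fun Entr CaseA

universe u

variable {G : Type u} [Group G] [Finite G] {W L K J R H : Subgroup G} {x a t : G}

/-- **`[L, O(M)] ≤ W`** -/
theorem le_cw_of_four (hL : IsComp H L) (hLM : L ≤ normalizer (W : Set G)) (hR4 : Nat.card ↥R = 4)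
    (hR2 : ∀ r ∈ R, r * r = 1) (hRM : R ≤ normalizer (W : Set G)) (hcov : J ⊔ core L = L)
    (fine : ∀ r ∈ R, r ≠ 1 → Fine W r)
    (ck : ∀ r ∈ R, r ≠ 1 → J ≤ cw W (core (centralizer ({r} : Set G)))) :
    L ≤ cw W (core (normalizer (W : Set G))) := by
  have hp : Fact (Nat.Prime 2) := ⟨Nat.prime_two⟩
  obtain ⟨M, hM⟩ : ∃ M, M = normalizer (W : Set G) := ⟨_, rfl⟩
  rw [← hM] at hLM hRM ⊢
  have hJL : J ≤ L := by
    rw [← hcov]
    exact le_sup_left
  -- `O(M) ≤ cw W J`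
  have h5 : core M ≤ cw W J := by
    have hE := el_of_sq hR2
    have hE1 : R ≠ ⊥ := by
      rintro h
      rw [h, card_bot] at hR4
      omega
    have hN2 : ¬ 2 ∣ Nat.card ↥(core M) := by
      rw [← even_iff_two_dvd, Nat.not_even_iff_odd]
      exact odd_card_core M
    have hn : R ≤ normalizer (core M : Set G) := fun t ht => le_normalizer_core _ (hRM ht)
    rw [← Lib.CoprimeHyperplane.iSup_centralizer_hyperplane hE hE1 hN2 hn]
    refine iSup_le fun B => ?_
    have h2 : Nat.card ↥B.1 = 2 := by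
      have := relIndex_mul_relIndex ⊥ B.1 R bot_le B.2.1
      rw [relIndex_bot_left, relIndex_bot_left, B.2.2, hR4] at this
      omega
    have h3 : B.1 ≠ ⊥ := by
      rintro h
      rw [h, card_bot] at h2
      omega
    obtain ⟨⟨t, ht⟩, ht1'⟩ := Subgroup.ne_bot_iff_exists_ne_one.mp h3
    have ht1 : t ≠ 1 := fun h => ht1' (Subtype.ext h)
    have htR := B.2.1 ht
    have hf := fine t htR ht1
    rintro o ⟨ho, hoB⟩
    have hoc : o ∈ centralizer ({t} : Set G) := mem_c (mem_centralizer_iff.mp hoB t ht).symm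
    have h4 : core M ⊓ centralizer ({t} : Set G) ≤ core (centralizer ({t} : Set G)) := by
      refine le_core inf_le_right ?_ ?_
      · intro g hg
        have e1 : g ∈ normalizer (core M : Set G) := le_normalizer_core _ (hM ▸ hf hg)
        have e2 := le_normalizer (H := centralizer ({t} : Set G)) hg
        rw [mem_normalizer_iff_cj] at e1 e2 ⊢
        rw [cj_inf, e1, e2]
      · exact Odd.of_dvd_nat (odd_card_core _) (card_dvd_of_le inf_le_left)
    refine mem_cw.mpr ⟨hM ▸ core_le M ho, fun j hj => comm_symm ?_⟩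
    exact (mem_cw.mp (ck t htR ht1 hj)).2 o (h4 (Subgroup.mem_inf.mpr ⟨ho, hoc⟩))
  have h6 : J ≤ cw W (core M) := fun j hj =>
    mem_cw.mpr ⟨hM ▸ hLM (hJL hj), fun o ho => comm_symm ((mem_cw.mp (h5 ho)).2 j hj)⟩
  refine hL.le_of_two fun g hg n hn => ?_
  obtain ⟨j, hj, hc⟩ := exists_mul_of_sup hcov hg
  refine mem_of_pow (c := j⁻¹ * g) (by group) (h6 hj) ?_ (odd_order_of_core hc) hn
  have hcM := hLM (core_le L hc)
  exact mem_normalizer_cw (hM ▸ hcM) (le_normalizer_core _ hcM)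

variable (FA : U2.FOne.All.FAll.{u})
    (heK : ∀ (K : Type u) [Group K] [Finite K], Spor.IsoHe K → HF K) (hT : WorldL34 G) (h : MinCex G)
    (T3 : ThreeBal G)

include FA heK hT h T3

/-- **STEP 1** -/
theorem pc {Lr : G → Subgroup G} (C : RCfg x a t L W J Lr) (hW1 : W ≠ ⊥)
    (hK : IsComp (normalizer (W : Set G)) K) (hLK : L ≤ K) : Pc W L K where
  gen := ⟨_, C.T.comp⟩
  comp := hK
  cov := CaseA.cover FA heK hT h T3 hW1 C.T C.Fa hK hLK
  ck := by
    refine le_cw_of_four (R := zpowers a ⊔ zpowers t) (J := J) C.T.comp C.Fa.le_norm C.card C.sq ?_ ?_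
      (fun r hr h1 => (C.fn r hr h1).cent) fun r hr h1 => ?_
    · intro r hr
      by_cases h1 : r = 1
      · rw [h1]
        exact one_mem _
      · exact (C.fn r hr h1).cent (mem_c rfl)
    · have h1 := C.sup a C.haR (ne_one_of_order C.T.inva)
      rwa [C.La] at h1
    · have h2 : J ≤ Lr r := by
        rw [← C.sup r hr h1]
        exact le_sup_left
      exact h2.trans (le_cw_of_fn (C.fn r hr h1))

/-- **STEP 1**: `comm` -/
theorem comm {Lr : G → Subgroup G} (C : RCfg x a t L W J Lr) (hW1 : W ≠ ⊥) :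
    ∀ m ∈ normalizer (W : Set G), cj m (L ⊔ W) = L ⊔ W ∨ ⁅L ⊔ W, cj m (L ⊔ W)⁆ ≤ W := by
  intro m hm
  obtain ⟨K, hK, hLK, -⟩ := C.exists_comp
  have P := pc FA heK hT h T3 C hW1 hK hLK
  have P' := P.cj hm
  rw [cj_sup, mem_normalizer_iff_cj.mp hm]
  by_cases he : L ⊔ W = cj m L ⊔ W
  · exact Or.inl he.symm
  · exact Or.inr (P.eq_or P' he)

/-- **`Parts G` from (5)** -/
theorem parts (five : ∀ {W : Subgroup G} {𝓗 : Set (Subgroup G)}, Many W 𝓗 → W ≠ ⊥ → False) : Parts G where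
  comm C hW1 := comm FA heK hT h T3 C hW1
  five M hW := five M hW
  caseA T S ne F hW1 := CaseA.many_of_dbl FA heK hT h T3 hW1 T S F ne

end Cfsg.Agent.UGT.N2W.CommR
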