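import Cfsg.Agent.UGT.N2S.FTwo
import Cfsg.Agent.UGT.N2W.Fun
import Cfsg.Agent.UGT.L34T2.NormW

/-!
# `W(z)`: `[O(C(z)), L] ≤ W(z)`, `C(z) ≤ N(W(z))` (N2, cores, bb #17697 (0), (1))

`z` an involution, `L` a 2-component of `C(z)` of type `L₃(4)`, `P` a Sylow 2-subgroup of `L` with centre `Z` and
`A i` of order 16, `z'` an involution commuting with `z` and `P`, outside `⟨z⟩ Z`; `W = Wd (A i)`.

* `Sit2.Wd_A`: `Wd (A false) = Wd (A true) = Wd (⟨z, z'⟩ Z)`.
* `Sit2.core_le`, `Sit2.L_le`, `Sit2.cent_le`: `O(C(z)), L, C(z) ≤ N(W)`.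
* `Sit2.comm_le`: `[L, O(C(z))] ≤ W`.
* `Sit2.Wd_of_le`: `Wd V = W` for `V ≤ L` elementary abelian of order 16; `Sit2.link`, `Sit2.link_comm`: `W(z) = W(z₁)` if
  `L` and `L₁` contain a common `V`, commuting `V`, `V₁`; `Wd_of_comm`: commuting groups of order 16 have the same `Wd`.
* `Sit2.comm_of_bot`: `W = 1` ⟹ `[L, O(C(z))] = 1`.
-/

set_option autoImplicit false
set_option linter.unusedSectionVars false

open Cfsg Subgroup
open Cfsg.Agent.SignalizersComponents Cfsg.Agent.Lib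
open Cfsg.Agent.SignalizersComponents.IntrinsicBasic
open Cfsg.Agent.SignalizersComponents.PLayerAut
open Cfsg.Agent.Intrinsic.Basic Cfsg.Agent.Intrinsic.Cen Cfsg.Agent.Intrinsic.Diag
open Cfsg.Agent.McLLyComp.Act
open Cfsg.Agent.UGT.Triple Cfsg.Agent.UGT.TriBase
open Cfsg.Agent.UGT.Iface (Bar IsL34)
open Cfsg.Agent.UGT.L34T2 (Heis)
open Cfsg.Agent.UGT.Res.WFun (el_of_sq el_mono mem_sup_of_comm el_sup el_cj mem_zpowers_of_sq el_zpowers
  mem_zpowers_sup two_mul_card_le exists_commuting)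
open Cfsg.Agent.UGT.Res.CoreFree (comm_of_el sq_of_el order_of_el isPGroup_of_el)
open Cfsg.Agent.UGT.N2S (Typ)
open Cfsg.Agent.UGT.N2S.FTwo (Sit center_l34)
open Cfsg.Agent.UGT.N2W.Fun
open scoped commutatorElement

namespace Cfsg.Agent.UGT.N2W.A34

universe u

/-! ### the Heisenberg group -/

section heis

variable {G : Type*} [Group G] {P Z : Subgroup G} {A : Bool → Subgroup G}

/-- the elementary abelian subgroups of order 16 of `P` are `A false` and `A true` -/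
theorem eq_A (h : Heis P Z A) {V : Subgroup G} (hV : V ≤ P) (hsq : ∀ v ∈ V, v * v = 1)
    (h16 : Nat.card V = 16) : ∃ i, V = A i := by
  have hcomm : ∀ u ∈ V, ∀ v ∈ V, u * v = v * u := fun u hu v hv =>
    comm_of_el (el_of_sq hsq) hu hv
  have hZ : ¬ V ≤ Z := by
    intro hZ
    have hZf : Finite Z := Nat.finite_of_card_ne_zero (by rw [h.cardZ]; norm_num)
    have := Subgroup.card_le_of_le hZ
    rw [h.cardZ] at this
    omega
  obtain ⟨u, hu, huZ⟩ := SetLike.not_le_iff_exists.mp hZ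
  obtain ⟨i, hi⟩ := h.inv u (hV hu) (hsq u hu)
  have hAf : Finite (A i) := Nat.finite_of_card_ne_zero (by rw [h.cardA]; norm_num)
  exact ⟨i, Subgroup.eq_of_le_of_card_ge (fun v hv => h.cen i u hi huZ v (hV hv) (hcomm v hv u hu))
    (by rw [h.cardA, h16])⟩

end heis

variable {G : Type u} [Group G]

/-- `z'` an involution commuting with `z` and `P`, outside `⟨z⟩ Z` -/
structure Sit2 (z z' : G) (L P Z : Subgroup G) (A : Bool → Subgroup G) : Prop extends Sit z L P Z A where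
  zo' : orderOf z' = 2
  zz' : z' * z = z * z'
  zP' : ∀ p ∈ P, p * z' = z' * p
  nZ : z' ∉ Z
  nzZ : z * z' ∉ Z

variable [Finite G] {z z' : G} {L P Z : Subgroup G} {A : Bool → Subgroup G}

theorem isPGroup_P (h : Heis P Z A) : IsPGroup 2 ↥P :=
  IsPGroup.of_card (n := 6) (by rw [h.cardP]; norm_num)

/-- an involution of `L` does not centralize `L` modulo `O(L)` -/
theorem Sit.eq_one (S : Sit z L P Z A) {u : G} (hu : u ∈ L) (huu : u * u = 1) (hf : Fixes u L) : u = 1 :=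
  eq_one_of_mem_core_sq ((N2S.FTwo.cl_of_typ (Or.inr (Or.inr S.l34))).mem_core hu hf) huu

theorem Sit.isSyl (S : Sit z L P Z A) : IsSyl L P := by
  have hp : Fact (Nat.Prime 2) := ⟨Nat.prime_two⟩
  obtain ⟨R, hR, hPR⟩ := exists_isSyl (isPGroup_P S.heis) S.PL
  have h1 : Nat.card ↥R = Nat.card ↥(((R.subgroupOf L).map (QuotientGroup.mk' (oddCore ↥L)))) := by
    rw [L34T2.Quo.card_map (L34T2.NormW.odd_ker_mk L) (L34T2.NormW.two_subgroupOf hR.two),
      Nat.card_congr (subgroupOfEquivOfLe hR.le).toEquiv]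
  obtain ⟨D⟩ := LSup.exists_dat S.l34
  have h2 : Nat.card ↥R ∣ 20160 := by
    rw [h1, ← D.card]
    exact card_subgroup_dvd_card _
  obtain ⟨k, hk⟩ := hR.two.exists_card_eq
  rw [hk] at h2
  have hk6 : k ≤ 6 := by
    by_contra hcon
    have h3 : (2 : ℕ) ^ 7 ∣ 20160 := (pow_dvd_pow 2 (by omega)).trans h2
    revert h3
    decide
  have h4 : R = P := by
    refine (Subgroup.eq_of_le_of_card_ge hPR ?_).symm
    rw [hk, S.heis.cardP]
    calc 2 ^ k ≤ 2 ^ 6 := Nat.pow_le_pow_right (by norm_num) hk6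
      _ = 64 := by norm_num
  rwa [h4] at hR

/-- commuting groups of order 16 have the same `Wd` -/
theorem Wd_of_comm (T : ThreeBal G) {B C : Subgroup G} (hB : ∀ b ∈ B, b * b = 1) (hC : ∀ c ∈ C, c * c = 1)
    (hB16 : Nat.card B = 16) (hC16 : Nat.card C = 16) (hc : ∀ b ∈ B, ∀ c ∈ C, b * c = c * b) : Wd B = Wd C := by
  by_cases hBC : B = C
  · rw [hBC]
  have hel := el_sup (el_of_sq hB) (el_of_sq hC) hc
  have hne : B ≠ B ⊔ C := by
    intro h
    have h1 : C ≤ B := by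
      rw [h]
      exact le_sup_right
    exact hBC (Subgroup.eq_of_le_of_card_ge h1 (by rw [hB16, hC16])).symm
  have h32 : 32 ≤ Nat.card ↥(B ⊔ C : Subgroup G) := by
    have := two_mul_card_le le_sup_left hne
    omega
  rw [Wd_eq T hel h32 le_sup_left hB16.ge, Wd_eq T hel h32 le_sup_right hC16.ge]

/-- `⟨z⟩ ⟨z'⟩ B` -/
def EE (z z' : G) (B : Subgroup G) : Subgroup G := zpowers z ⊔ (zpowers z' ⊔ B)

theorem EE_mono {B C : Subgroup G} (h : B ≤ C) : EE z z' B ≤ EE z z' C :=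
  sup_le_sup_left (sup_le_sup_left h _) _

theorem le_EE (B : Subgroup G) : B ≤ EE z z' B := le_sup_right.trans le_sup_right

theorem z_mem_EE (B : Subgroup G) : z ∈ EE z z' B := mem_sup_left (mem_zpowers z)

theorem Sit2.Pz (S : Sit2 z z' L P Z A) {p : G} (hp : p ∈ P) : p * z = z * p := comm_c (S.comp.le (S.PL hp))

theorem Sit2.ZP (S : Sit2 z z' L P Z A) : Z ≤ P := (S.heis.ZA true).trans (S.heis.AP true)

theorem Sit2.el (S : Sit2 z z' L P Z A) {B : Subgroup G} (hB : B ≤ P) (hsq : ∀ b ∈ B, b * b = 1) :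
    IsElementaryAbelian 2 (EE z z' B) ∧ (∀ b ∈ zpowers z' ⊔ B, z * b = b * z) ∧
      ∀ b ∈ B, z' * b = b * z' := by
  have h1 : ∀ b ∈ B, z' * b = b * z' := fun b hb => (S.zP' b (hB hb)).symm
  have h1' : ∀ e ∈ zpowers z', ∀ b ∈ B, e * b = b * e := by
    intro e he b hb
    rcases (mem_zpowers_of_sq (sq_of_order S.zo')).mp he with rfl | rfl
    · rw [one_mul, mul_one]
    · exact h1 b hb
  have h2 : ∀ b ∈ zpowers z' ⊔ B, z * b = b * z := by
    intro b hb
    rcases (mem_zpowers_sup (sq_of_order S.zo') h1).mp hb with h | h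
    · exact (S.Pz (hB h)).symm
    · have h3 : Commute z z' := S.zz'.symm
      have h4 : Commute z (z' * b) := (S.Pz (hB h)).symm
      have h5 : b = z' * (z' * b) := by rw [← mul_assoc, sq_of_order S.zo', one_mul]
      rw [h5]
      exact (h3.mul_right h4).eq
  refine ⟨el_sup (el_zpowers (sq_of_order S.zo)) (el_sup (el_zpowers (sq_of_order S.zo')) (el_of_sq hsq) h1') ?_,
    h2, h1⟩
  intro e he b hb
  rcases (mem_zpowers_of_sq (sq_of_order S.zo)).mp he with rfl | rfl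
  · rw [one_mul, mul_one]
  · exact h2 b hb

theorem Sit2.mem_Z (S : Sit2 z z' L P Z A) {p : G} (hp : p ∈ P) (h : z' = p ∨ z * z' = p) : False := by
  have key : p ∈ Z := by
    refine S.heis.mem_Z hp fun q hq => ?_
    rcases h with rfl | rfl
    · exact (S.zP' q hq).symm
    · have h1 : Commute z q := (S.Pz hq).symm
      have h2 : Commute z' q := (S.zP' q hq).symm
      exact (h1.mul_left h2).eq
  rcases h with rfl | rfl
  · exact S.nZ key
  · exact S.nzZ key

theorem Sit2.z_notMem (S : Sit2 z z' L P Z A) : z ∉ L := by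
  intro hz
  exact ne_one_of_order S.zo (Sit.eq_one S.toSit hz (sq_of_order S.zo) (fixes_self' S.comp.le))

/-- `4 |B| ≤ |⟨z, z'⟩ B|` -/
theorem Sit2.card_EE (S : Sit2 z z' L P Z A) {B : Subgroup G} (hB : B ≤ P) (hsq : ∀ b ∈ B, b * b = 1) :
    4 * Nat.card ↥B ≤ Nat.card ↥(EE z z' B) := by
  obtain ⟨_, h2, h1⟩ := S.el hB hsq
  have h3 := two_mul_card_le (A := B) (E := zpowers z' ⊔ B) le_sup_right (fun h => by
    have h3 : z' ∈ B := by
      rw [h]
      exact mem_sup_left (mem_zpowers z')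
    exact S.mem_Z (hB h3) (Or.inl rfl))
  have h4 := two_mul_card_le (A := zpowers z' ⊔ B) (E := EE z z' B) le_sup_right (fun h => by
    have h3 : z ∈ zpowers z' ⊔ B := by
      rw [h]
      exact mem_sup_left (mem_zpowers z)
    rcases (mem_zpowers_sup (sq_of_order S.zo') h1).mp h3 with h5 | h5
    · exact S.z_notMem (S.PL (hB h5))
    · exact S.mem_Z (hB h5) (Or.inr S.zz'.symm))
  omega

theorem Sit2.elA (S : Sit2 z z' L P Z A) (i : Bool) : IsElementaryAbelian 2 (EE z z' (A i)) :=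
  (S.el (S.heis.AP i) (S.heis.Asq i)).1

theorem Sit2.cardA (S : Sit2 z z' L P Z A) (i : Bool) : 32 ≤ Nat.card ↥(EE z z' (A i)) := by
  have h1 := S.card_EE (S.heis.AP i) (S.heis.Asq i)
  rw [S.heis.cardA] at h1
  omega

theorem Sit2.cardF (S : Sit2 z z' L P Z A) : 16 ≤ Nat.card ↥(EE z z' Z) := by
  have h1 := S.card_EE S.ZP fun b hb => S.heis.Zsq hb
  rw [S.heis.cardZ] at h1
  omega

theorem Sit2.Wd_F (T : ThreeBal G) (S : Sit2 z z' L P Z A) (i : Bool) : Wd (A i) = Wd (EE z z' Z) := by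
  rw [Wd_eq T (S.elA i) (S.cardA i) (le_EE _) (S.heis.cardA i).ge,
    Wd_eq T (S.elA i) (S.cardA i) (EE_mono (S.heis.ZA i)) S.cardF]

/-- `Wd (A false) = Wd (A true)` -/
theorem Sit2.Wd_A (T : ThreeBal G) (S : Sit2 z z' L P Z A) (i j : Bool) : Wd (A i) = Wd (A j) := by
  rw [S.Wd_F T i, S.Wd_F T j]

theorem Sit2.Wd_E (T : ThreeBal G) (S : Sit2 z z' L P Z A) (i : Bool) : Wd (EE z z' (A i)) = Wd (A i) :=
  (Wd_eq T (S.elA i) (S.cardA i) (le_EE _) (S.heis.cardA i).ge).symm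

theorem Sit2.odd (T : ThreeBal G) (S : Sit2 z z' L P Z A) (i : Bool) : Odd (Nat.card ↥(Wd (A i))) := by
  rw [← S.Wd_E T i]
  exact odd_Wd T (S.elA i) (S.cardA i)

/-- `O(C(z)) ≤ N(W)` -/
theorem Sit2.core_le (T : ThreeBal G) (S : Sit2 z z' L P Z A) (i : Bool) :
    core (centralizer ({z} : Set G)) ≤ normalizer (Wd (A i) : Set G) := by
  rw [← S.Wd_E T i]
  exact Fun.core_le T (S.elA i) (S.cardA i) (z_mem_EE _)

/-- `P ≤ N(W)`, and `C(U) ≤ N(W)` for `U ≤ ⟨z, z'⟩ A` of order at least 16 -/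
theorem Sit2.centralizer_le (T : ThreeBal G) (S : Sit2 z z' L P Z A) (i : Bool) {U : Subgroup G}
    (hU : U ≤ EE z z' (A i)) (h16 : 16 ≤ Nat.card ↥U) :
    centralizer (U : Set G) ≤ normalizer (Wd (A i) : Set G) := by
  rw [← S.Wd_E T i]
  exact Fun.centralizer_le T (S.elA i) (S.cardA i) hU h16

/-- `L ≤ N(W)` -/
theorem Sit2.L_le (T : ThreeBal G) (S : Sit2 z z' L P Z A) (i : Bool) :
    L ≤ normalizer (Wd (A i) : Set G) := by
  refine L34T2.NormW.le_of_normalizers S.l34 S.PL (isPGroup_P S.heis) S.heis (S.comp.core_le_core.trans (S.core_le T i))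
    fun j g _ hg => ?_
  rw [S.Wd_A T i j]
  exact normalizer_le_self (A j) hg

/-- `[Z, O(C(z))] ≤ W` -/
theorem Sit2.comm_mem (W : Typ G) (T : ThreeBal G) (S : Sit2 z z' L P Z A) (i : Bool) {a y : G} (ha : a ∈ Z)
    (hy : y ∈ core (centralizer ({z} : Set G))) : ⁅a, y⁆ ∈ Wd (A i) := by
  have hp : Fact (Nat.Prime 2) := ⟨Nat.prime_two⟩
  have hO := S.core_le T i
  have hnW : ∀ {y w : G}, y ∈ core (centralizer ({z} : Set G)) → w ∈ Wd (A i) → y * w * y⁻¹ ∈ Wd (A i) :=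
    fun hy hw => (mem_normalizer_iff.mp (hO hy) _).mp hw
  -- the subgroup of those `y`
  let Q : Subgroup G :=
    { carrier := {y | y ∈ core (centralizer ({z} : Set G)) ∧ ⁅a, y⁆ ∈ Wd (A i)}
      one_mem' := ⟨one_mem _, by rw [commutatorElement_one_right]; exact one_mem _⟩
      mul_mem' := by
        rintro y y' ⟨h1, h2⟩ ⟨h3, h4⟩
        refine ⟨mul_mem h1 h3, ?_⟩
        have h5 : ⁅a, y * y'⁆ = ⁅a, y⁆ * (y * ⁅a, y'⁆ * y⁻¹) := by
          rw [commutatorElement_def, commutatorElement_def, commutatorElement_def]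
          group
        rw [h5]
        exact mul_mem h2 (hnW h1 h4)
      inv_mem' := by
        rintro y ⟨h1, h2⟩
        refine ⟨inv_mem h1, ?_⟩
        have h5 : ⁅a, y⁻¹⁆ = y⁻¹ * ⁅a, y⁆⁻¹ * y⁻¹⁻¹ := by
          rw [commutatorElement_def, commutatorElement_def]
          group
        rw [h5]
        exact hnW (inv_mem h1) (inv_mem h2) }
  have hel := (S.el S.ZP fun b hb => S.heis.Zsq hb).1
  have hne : EE z z' Z ≠ ⊥ := by
    intro h
    have h1 := S.cardF
    rw [h, card_bot] at h1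
    omega
  have hodd : ¬ 2 ∣ Nat.card ↥(core (centralizer ({z} : Set G))) := by
    rw [← even_iff_two_dvd, Nat.not_even_iff_odd]
    exact odd_card_core _
  have hFP : ∀ b ∈ EE z z' Z, (∀ p ∈ P, p * b = b * p) ∧ b * z = z * b := by
    intro b hb
    refine ⟨fun p hp => ?_, comm_of_el hel hb (z_mem_EE _)⟩
    have h1 : EE z z' Z ≤ centralizer ({p} : Set G) := by
      refine sup_le ?_ (sup_le ?_ ?_)
      · rw [zpowers_le]; exact mem_c (S.Pz hp).symm
      · rw [zpowers_le]; exact mem_c (S.zP' p hp).symm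
      · intro b hb
        exact mem_c (S.heis.Zcen b hb p hp).symm
    exact (comm_c (h1 hb)).symm
  have hn : EE z z' Z ≤ normalizer (core (centralizer ({z} : Set G)) : Set G) :=
    le_trans (fun b hb => mem_c (hFP b hb).2) (le_normalizer_core _)
  have key : core (centralizer ({z} : Set G)) ≤ Q := by
    conv_lhs => rw [← Lib.CoprimeHyperplane.iSup_centralizer_hyperplane hel hne hodd hn]
    refine iSup_le fun B => ?_
    rintro y ⟨hy, hyB⟩
    refine ⟨hy, ?_⟩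
    rw [S.Wd_F T i]
    obtain ⟨D, hD, hD8⟩ : ∃ D ≤ B.1, Nat.card ↥D = 2 ^ 3 := by
      have h16 := S.cardF
      have h8 : 8 ≤ Nat.card ↥B.1 := by
        have := relIndex_mul_relIndex ⊥ B.1 (EE z z' Z) bot_le B.2.1
        rw [relIndex_bot_left, relIndex_bot_left, B.2.2] at this
        omega
      obtain ⟨k, hk⟩ := (isPGroup_of_el (el_mono hel B.2.1)).exists_card_eq
      have hk3 : 3 ≤ k := by
        by_contra hcon
        have h1 : (2 : ℕ) ^ k ≤ 2 ^ 2 := Nat.pow_le_pow_right (by norm_num) (by omega)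
        omega
      obtain ⟨D, hD⟩ := Sylow.exists_subgroup_card_pow_prime (G := ↥B.1) 2
        (show 2 ^ 3 ∣ Nat.card ↥B.1 by rw [hk]; exact pow_dvd_pow 2 hk3)
      exact ⟨D.map B.1.subtype, map_subtype_le D, by rw [card_map_of_injective B.1.subtype_injective, hD]⟩
    refine KFamily.le_WW (X := fun D => signalizerDelta 2 D) (hD.trans B.2.1) hD8 ?_
    rw [signalizerDelta, mem_iInf]
    rintro ⟨b, hb, hb1⟩
    have hbF := B.2.1 (hD hb)
    have hyb : y * b = b * y := (mem_centralizer_iff.mp hyB b (hD hb)).symm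
    exact S.toSit.comm_mem W (order_of_el hel hbF hb1) (hFP b hbF).2 (hFP b hbF).1 hy hyb ha
  exact (key hy).2

/-- `[L, O(C(z))] ≤ W` -/
theorem Sit2.comm_le (W : Typ G) (T : ThreeBal G) (S : Sit2 z z' L P Z A) (i : Bool) {l y : G} (hl : l ∈ L)
    (hy : y ∈ core (centralizer ({z} : Set G))) : ⁅l, y⁆ ∈ Wd (A i) := by
  have hp : Fact (Nat.Prime 2) := ⟨Nat.prime_two⟩
  have hnL : ∀ {l w : G}, l ∈ L → w ∈ Wd (A i) → l * w * l⁻¹ ∈ Wd (A i) :=
    fun hl hw => (mem_normalizer_iff.mp (S.L_le T i hl) _).mp hw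
  let N : Subgroup G :=
    { carrier := {l | l ∈ L ∧ ∀ y ∈ core (centralizer ({z} : Set G)), ⁅l, y⁆ ∈ Wd (A i)}
      one_mem' := ⟨one_mem _, fun y _ => by rw [commutatorElement_one_left]; exact one_mem _⟩
      mul_mem' := by
        rintro l l' ⟨h1, h2⟩ ⟨h3, h4⟩
        refine ⟨mul_mem h1 h3, fun y hy => ?_⟩
        have h5 : ⁅l * l', y⁆ = (l * ⁅l', y⁆ * l⁻¹) * ⁅l, y⁆ := by
          rw [commutatorElement_def, commutatorElement_def, commutatorElement_def]
          group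
        rw [h5]
        exact mul_mem (hnL h1 (h4 y hy)) (h2 y hy)
      inv_mem' := by
        rintro l ⟨h1, h2⟩
        refine ⟨inv_mem h1, fun y hy => ?_⟩
        have h5 : ⁅l⁻¹, y⁆ = l⁻¹ * ⁅l, y⁆⁻¹ * l⁻¹⁻¹ := by
          rw [commutatorElement_def, commutatorElement_def]
          group
        rw [h5]
        exact hnL (inv_mem h1) (inv_mem (h2 y hy)) }
  have hN : ∀ l, l ∈ N ↔ l ∈ L ∧ ∀ y ∈ core (centralizer ({z} : Set G)), ⁅l, y⁆ ∈ Wd (A i) := fun _ => Iff.rfl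
  have hnor : (N.subgroupOf L).Normal := by
    refine ⟨?_⟩
    rintro ⟨n, hn⟩ hnN ⟨g, hg⟩
    have h1 := (hN n).mp hnN
    refine (hN _).mpr ⟨mul_mem (mul_mem hg hn) (inv_mem hg), fun y hy => ?_⟩
    have h2 := h1.2 _ (conj_core (inv_mem (S.comp.le hg)) hy)
    have h3 : ⁅g * n * g⁻¹, y⁆ = g * ⁅n, g⁻¹ * y * g⁻¹⁻¹⁆ * g⁻¹ := by
      rw [commutatorElement_def, commutatorElement_def]
      group
    change ⁅g * n * g⁻¹, y⁆ ∈ _
    rw [h3]
    exact hnL hg h2
  have hsimp : IsSimpleGroup (Bar L) := by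
    obtain ⟨F, _, _, _, ⟨e⟩⟩ := S.l34
    have h1 : IsSimpleGroup (Matrix.ProjectiveSpecialLinearGroup (Fin 3) F) := S0249.result 3 le_rfl
    exact (MulEquiv.isSimpleGroup_congr e).mpr h1
  have hmap : ((N.subgroupOf L).map (QuotientGroup.mk' (oddCore ↥L))).Normal :=
    hnor.map _ (QuotientGroup.mk'_surjective _)
  have htop : (N.subgroupOf L).map (QuotientGroup.mk' (oddCore ↥L)) = ⊤ := by
    rcases hmap.eq_bot_or_eq_top with h | h
    · exfalso
      obtain ⟨a, ha, ha1, -⟩ := S.heis.exists_ne 1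
      have haP := S.ZP ha
      have haN : a ∈ N := (hN a).mpr ⟨S.PL haP, fun y hy => S.comm_mem W T i ha hy⟩
      have h1 : (QuotientGroup.mk' (oddCore ↥L)) ⟨a, S.PL haP⟩ ∈
          (N.subgroupOf L).map (QuotientGroup.mk' (oddCore ↥L)) := mem_map_of_mem _ haN
      rw [h, mem_bot] at h1
      exact ha1 (eq_one_of_mem_core_sq ((mk_eq_one_iff (S.PL haP)).mp h1) (S.heis.Zsq ha))
    · exact h
  have hsup : N.subgroupOf L ⊔ oddCore ↥L = ⊤ := by
    have h1 := congrArg (Subgroup.comap (QuotientGroup.mk' (oddCore ↥L))) htop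
    rwa [comap_map_eq, QuotientGroup.ker_mk', comap_top] at h1
  have hidx : (N.relIndex L).Coprime 2 := by
    have h1 := PComponents.relIndex_sup_dvd_card (N.subgroupOf L) (oddCore ↥L)
    rw [hsup, relIndex_top_right] at h1
    have h2 : Odd (Nat.card ↥(oddCore ↥L)) := by
      have := L34T2.NormW.odd_ker_mk L
      rwa [QuotientGroup.ker_mk'] at this
    exact Nat.Coprime.coprime_dvd_left h1 h2.coprime_two_right
  have hLN := PComponents.pElem_le_of_isSubnormal hnor.isSubnormal hidx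
  rw [S.comp.pElem_eq] at hLN
  exact ((hN l).mp (hLN hl)).2 y hy

/-- **`Wd V = W` for all `V ≤ L` elementary abelian of order 16** -/
theorem Sit2.Wd_of_le (T : ThreeBal G) (S : Sit2 z z' L P Z A) (i : Bool) {V : Subgroup G} (hV : V ≤ L)
    (hsq : ∀ v ∈ V, v * v = 1) (h16 : Nat.card V = 16) : Wd V = Wd (A i) := by
  obtain ⟨l, hl, h1⟩ := (Sit.isSyl S.toSit).conj (isPGroup_of_el (el_of_sq hsq)) hV
  have h2 : cj l⁻¹ V ≤ P := by
    have := cj_mono (g := l⁻¹) h1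
    rwa [cj_inv_cj] at this
  obtain ⟨j, hj⟩ := eq_A S.heis h2 (fun v hv => sq_of_el (el_cj (el_of_sq hsq) _) hv) (by rw [card_cj, h16])
  have h3 : V = cj l (A j) := by rw [← hj, cj_cj_inv]
  rw [h3, ← cj_Wd, S.Wd_A T j i]
  exact mem_normalizer_iff_cj.mp (S.L_le T i hl)

/-- **(1)** `C(z) ≤ N(W)` -/
theorem Sit2.cent_le (T : ThreeBal G) (S : Sit2 z z' L P Z A) (i : Bool) :
    centralizer ({z} : Set G) ≤ normalizer (Wd (A i) : Set G) := by
  intro c hc
  have hAL := (S.heis.AP i).trans S.PL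
  have hel := el_of_sq (S.heis.Asq i)
  have hsq : ∀ g : G, ∀ b ∈ cj g (A i), b * b = 1 := fun g b hb => sq_of_el (el_cj hel g) hb
  have hcard : ∀ g : G, Nat.card ↥(cj g (A i)) = 16 := fun g => by rw [card_cj, S.heis.cardA]
  by_cases hcL : cj c L = L
  · refine mem_normalizer_Wd (S.Wd_of_le T i ?_ (hsq c) (hcard c))
    rw [← hcL]
    exact cj_mono hAL
  · have hL' : IsComp (centralizer ({z} : Set G)) (cj c L) := isComp_cj_of_mem S.comp hc
    have hAz : A i ≤ centralizer ({z} : Set G) := hAL.trans S.comp.le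
    have hcAL : cj c (A i) ≤ cj c L := cj_mono hAL
    obtain ⟨o, ho, hcomm⟩ := exists_commuting (odd_card_core (centralizer ({z} : Set G)))
      (isPGroup_of_el hel) (isPGroup_cj (isPGroup_of_el hel) (g := c)) (hAz.trans (le_normalizer_core _))
      ((hcAL.trans hL'.le).trans (le_normalizer_core _)) fun a ha b hb =>
        S.comp.core_le_core (S.comp.comm_le_core hL' (Ne.symm hcL)
          (commutator_mem_commutator (hAL ha) (hcAL hb))).1
    rw [← cj_mul] at hcomm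
    have h1 := mem_normalizer_Wd
      (Wd_of_comm T (S.heis.Asq i) (hsq (o * c)) (S.heis.cardA i) (hcard (o * c)) hcomm).symm
    have h2 := mul_mem (inv_mem (S.core_le T i ho)) h1
    rwa [inv_mul_cancel_left] at h2

/-- a common elementary abelian group of order 16 in `L`, `L₁` links `z` and `z₁` -/
theorem Sit2.link (T : ThreeBal G) (S : Sit2 z z' L P Z A) {z₁ z₁' : G} {L₁ P₁ Z₁ : Subgroup G}
    {A₁ : Bool → Subgroup G} (S₁ : Sit2 z₁ z₁' L₁ P₁ Z₁ A₁) (i j : Bool) {V : Subgroup G} (hV : V ≤ L)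
    (hV₁ : V ≤ L₁) (hsq : ∀ v ∈ V, v * v = 1) (h16 : Nat.card V = 16) : Wd (A i) = Wd (A₁ j) := by
  rw [← S.Wd_of_le T i hV hsq h16, ← S₁.Wd_of_le T j hV₁ hsq h16]

/-- commuting elementary abelian groups of order 16 in `L` and `L₁` link `z` and `z₁` -/
theorem Sit2.link_comm (T : ThreeBal G) (S : Sit2 z z' L P Z A) {z₁ z₁' : G} {L₁ P₁ Z₁ : Subgroup G}
    {A₁ : Bool → Subgroup G} (S₁ : Sit2 z₁ z₁' L₁ P₁ Z₁ A₁) (i j : Bool) {V V₁ : Subgroup G} (hV : V ≤ L)
    (hV₁ : V₁ ≤ L₁) (hsq : ∀ v ∈ V, v * v = 1) (h16 : Nat.card V = 16) (hsq₁ : ∀ v ∈ V₁, v * v = 1)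
    (h16₁ : Nat.card V₁ = 16) (hc : ∀ v ∈ V, ∀ w ∈ V₁, v * w = w * v) : Wd (A i) = Wd (A₁ j) := by
  rw [← S.Wd_of_le T i hV hsq h16, ← S₁.Wd_of_le T j hV₁ hsq₁ h16₁]
  exact Wd_of_comm T hsq hsq₁ h16 h16₁ hc

/-- `W = 1` ⟹ `[L, O(C(z))] = 1` -/
theorem Sit2.comm_of_bot (W : Typ G) (T : ThreeBal G) (S : Sit2 z z' L P Z A) {i : Bool}
    (h : Wd (A i) = ⊥) {l y : G} (hl : l ∈ L) (hy : y ∈ core (centralizer ({z} : Set G))) :
    l * y = y * l := by
  have h1 := S.comm_le W T i hl hy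
  rw [h, mem_bot] at h1
  exact commutatorElement_eq_one_iff_mul_comm.mp h1

end Cfsg.Agent.UGT.N2W.A34
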