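import Cfsg.Agent.UGT.N2W.Fun
import Cfsg.Agent.UGT.L34T2.FrOf
import Cfsg.Agent.UGT.L34T2.Gen

/-!
# UGT N2, cores: (LU), (AU) of #17697 (4)

`H / O(H) ≅ L₃(4)`, `U ≤ N(H)` elementary abelian.

* `exists_E16`: an elementary abelian subgroup of a subgroup `R` of order 64 of `L₃(4)` lies in an `E₁₆` of `R`.
* `exists_lu`: there are an `E₁₆` `A ≤ H` and `U₀ ≤ U`, `|U : U₀| ≤ 4`, commuting with `A`.
* `lu`: `G` 3-balanced, `|U| ≥ 64`: `Wd U = Wd A` for some `E₁₆` `A ≤ H`.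
* `au`: `Wd U = Wd A` for `A ≤ U`, `|A| ≥ 16`.
-/

set_option autoImplicit false
set_option linter.unusedSectionVars false

open Cfsg Subgroup
open Cfsg.Agent.SignalizersComponents Cfsg.Agent.Lib
open Cfsg.Agent.SignalizersComponents.IntrinsicBasic
open Cfsg.Agent.SignalizersComponents.PLayerAut
open Cfsg.Agent.Intrinsic.Basic Cfsg.Agent.Intrinsic.Cen Cfsg.Agent.Intrinsic.Diag
open Cfsg.Agent.McLLyComp.Act
open Cfsg.Agent.UGT.Triple Cfsg.Agent.UGT.TriBase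
open Cfsg.Agent.UGT.Iface (Bar IsL34)
open Cfsg.Agent.UGT.Res.WFun (el_of_sq mem_sup_of_comm)
open Cfsg.Agent.UGT.Res.CoreFree (sq_of_el)

namespace Cfsg.Agent.UGT.N2W.LU

section kfact

open Cfsg.Agent.SporadicA.FieldFour Cfsg.Agent.LThreeFour
open Cfsg.Agent.UGT.L34T2.Gen

variable {D : Type*} [Group D]

/-- the squares of the elements of `AA A i` are trivial -/
theorem AA_sq (A : Dat D) (i : Bool) {l : D} (h : l ∈ AA A i) : l * l = 1 := by
  obtain ⟨p, rfl, hp0⟩ := h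
  rw [A.el_mul, A.el_eq_one]
  cases i
  · simp only [cond_false] at hp0
    have key : ∀ b c : F4, cmul ⟨0, b, c⟩ ⟨0, b, c⟩ = cone := by decide +kernel
    have e : p = ⟨0, p.b, p.c⟩ := by
      obtain ⟨a, b, c⟩ := p
      simp only at hp0
      rw [hp0]
    rw [e]
    exact key _ _
  · simp only [cond_true] at hp0
    have key : ∀ a c : F4, cmul ⟨a, 0, c⟩ ⟨a, 0, c⟩ = cone := by decide +kernel
    have e : p = ⟨p.a, 0, p.c⟩ := by
      obtain ⟨a, b, c⟩ := p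
      simp only at hp0
      rw [hp0]
    rw [e]
    exact key _ _

/-- an elementary abelian subgroup of a 2-subgroup `R` of order 64 lies in an `E₁₆` of `R` -/
theorem exists_E16 (hD : IsL34 D) {R B : Subgroup D} (hR : IsPGroup 2 ↥R)
    (hc : 64 ≤ Nat.card ↥R) (hB : B ≤ R) (sq : ∀ b ∈ B, b * b = 1) :
    ∃ A ≤ R, B ≤ A ∧ Nat.card ↥A = 16 ∧ ∀ a ∈ A, a * a = 1 := by
  obtain ⟨A⟩ := LSup.exists_dat hD
  have hfin : Finite D := Nat.finite_of_card_ne_zero (by rw [A.card]; norm_num)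
  have hp : Fact (Nat.Prime 2) := ⟨Nat.prime_two⟩
  have hA2 : IsPGroup 2 ↥A.T := IsPGroup.of_card (n := 6) (by rw [A.card_T]; norm_num)
  let S0 : Sylow 2 D := hA2.toSylow A.T_index
  obtain ⟨S1, hS1⟩ := hR.exists_le_sylow
  obtain ⟨g, hg⟩ := MulAction.exists_smul_eq D S1 S0
  have hgR : ∀ t ∈ R, g * t * g⁻¹ ∈ A.T := by
    intro t ht
    have h1 : g * t * g⁻¹ ∈ ((g • S1 : Sylow 2 D) : Subgroup D) := by
      rw [Sylow.coe_subgroup_smul]
      exact ⟨t, hS1 ht, rfl⟩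
    rw [hg] at h1
    exact h1
  let c : D ≃* D := MulAut.conj g
  have hcj : R.map c.toMonoidHom = A.T := by
    apply Subgroup.eq_of_le_of_card_ge
    · rintro _ ⟨t, ht, rfl⟩
      exact hgR t ht
    · rw [A.card_T, card_map_of_injective c.injective]
      exact hc
  obtain ⟨i, hi⟩ := le_AA A (V := B.map c.toMonoidHom) ((map_mono hB).trans hcj.le) (by
    rintro _ ⟨u, hu, rfl⟩
    rw [← map_mul, sq u hu, map_one])
  refine ⟨(AA A i).comap c.toMonoidHom, ?_, ?_, ?_, ?_⟩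
  · intro y hy
    have h1 : c y ∈ R.map c.toMonoidHom := by
      rw [hcj]; exact AA_le A i hy
    obtain ⟨r, hr, he⟩ := h1
    rwa [← c.injective he]
  · intro y hy
    exact hi ⟨y, hy, rfl⟩
  · have h1 : ((AA A i).comap c.toMonoidHom).map c.toMonoidHom = AA A i :=
      map_comap_eq_self_of_surjective c.surjective _
    rw [← card_map_of_injective (f := c.toMonoidHom) (K := (AA A i).comap c.toMonoidHom) c.injective, h1,
      card_AA]
  · intro y hy
    have h2 : c y * c y = 1 := AA_sq A i hy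
    rw [← map_mul] at h2
    exact (map_eq_one_iff c c.injective).mp h2

/-- a 2-element normalising a 2-subgroup of order 64 of `L₃(4)` lies in it -/
theorem mem_of_norm (hD : IsL34 D) {R : Subgroup D} (hR : IsPGroup 2 ↥R)
    (hc : 64 ≤ Nat.card ↥R) {l : D} (hl : l * l = 1) (hn : ∀ r ∈ R, l * r * l⁻¹ ∈ R) : l ∈ R := by
  obtain ⟨A⟩ := LSup.exists_dat hD
  have hfin : Finite D := Nat.finite_of_card_ne_zero (by rw [A.card]; norm_num)
  have hp : Fact (Nat.Prime 2) := ⟨Nat.prime_two⟩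
  obtain ⟨S1, hS1⟩ := hR.exists_le_sylow
  have hS : (S1 : Subgroup D) = R := by
    refine (Subgroup.eq_of_le_of_card_ge hS1 ?_).symm
    obtain ⟨n, hn⟩ := S1.isPGroup'.exists_card_eq
    rw [hn]
    have h1 : 2 ^ n ∣ 20160 := by
      rw [← hn, ← A.card]
      exact S1.card_subgroup_dvd_card
    have h2 : n ≤ 6 := by
      by_contra hlt
      push Not at hlt
      have h3 : 2 ^ 7 ∣ 20160 := (pow_dvd_pow 2 hlt).trans h1
      norm_num at h3
    calc 2 ^ n ≤ 2 ^ 6 := Nat.pow_le_pow_right (by norm_num) h2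
      _ ≤ _ := hc
  have h1 : zpowers l ⊓ normalizer ((S1 : Subgroup D) : Set D) = zpowers l ⊓ S1 := by
    refine IsPGroup.inf_normalizer_sylow ?_ S1
    have : l ^ 2 = 1 := by rw [pow_two]; exact hl
    exact IsPGroup.of_card_dvd_pow (n := 1) (by
      rw [Nat.card_zpowers, pow_one]; exact orderOf_dvd_of_pow_eq_one this)
  have h2 : l ∈ normalizer ((S1 : Subgroup D) : Set D) := by
    rw [hS, mem_normalizer_iff]
    intro y
    refine ⟨hn y, fun hy => ?_⟩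
    have h3 := hn _ hy
    have h4 : l * (l * y * l⁻¹) * l⁻¹ = (l * l) * y * (l * l)⁻¹ := by group
    rwa [h4, hl, one_mul, inv_one, mul_one] at h3
  have h3 : l ∈ zpowers l ⊓ normalizer ((S1 : Subgroup D) : Set D) := ⟨mem_zpowers l, h2⟩
  rw [h1, hS] at h3
  exact h3.2

end kfact

section sit

open Cfsg.Agent.LThreeFour (bitsHom bitsHom_inj)

variable {G : Type*} [Group G] [Finite G] {H U : Subgroup G}

/-- **(LU), the subgroups.** -/
theorem exists_lu (h34 : IsL34 (Bar H)) (sq : ∀ u ∈ U, u * u = 1)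
    (hUN : U ≤ normalizer (H : Set G)) :
    ∃ A ≤ H, Nat.card ↥A = 16 ∧ (∀ a ∈ A, a * a = 1) ∧
      ∃ U0 ≤ U, Nat.card ↥U ≤ 4 * Nat.card ↥U0 ∧ ∀ u ∈ U0, ∀ a ∈ A, u * a = a * u := by
  obtain ⟨Dd⟩ := LSup.exists_dat h34
  have hU2 : IsPGroup 2 ↥U := fun u => ⟨1, Subtype.ext (by
    rw [pow_one, SubgroupClass.coe_pow, pow_two]; exact sq u u.2)⟩
  obtain ⟨R, hR, hUR⟩ := exists_isSyl hU2 (le_sup_left : U ≤ U ⊔ H)
  have hnH : U ⊔ H ≤ normalizer (H : Set G) := sup_le hUN le_normalizer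
  have hP : IsSyl H (R ⊓ H) := hR.inf le_sup_right hnH
  have hPc : 64 ≤ Nat.card ↥(R ⊓ H) :=
    Nat.le_of_dvd Nat.card_pos (hP.dvd_card (k := 6) (LSup.card_dvd h34))
  have hone : ∀ p ∈ R ⊓ H, p ∈ core H → p = 1 :=
    fun p hp hc => LSup.eq_one_of_core hc hR.two hp.1
  have hUP : ∀ u ∈ U, ∀ p ∈ R ⊓ H, u * p * u⁻¹ ∈ R ⊓ H := by
    intro u hu p hp
    exact ⟨R.mul_mem (R.mul_mem (hUR hu) hp.1) (R.inv_mem (hUR hu)), conj_mem (hUN hu) hp.2⟩
  -- the image of `P = R ⊓ H`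
  let f : ↥(R ⊓ H) →* Bar H := (QuotientGroup.mk' (oddCore ↥H)).comp (inclusion inf_le_right)
  have hf : ∀ p (hp : p ∈ R ⊓ H), f ⟨p, hp⟩ = QuotientGroup.mk ⟨p, hp.2⟩ := fun p hp => rfl
  have hinj : Function.Injective f := by
    rw [injective_iff_map_eq_one]
    rintro ⟨p, hp⟩ h1
    rw [hf, mk_eq_one_iff hp.2] at h1
    exact Subtype.ext (hone p hp h1)
  have hPb2 : IsPGroup 2 ↥f.range :=
    (hR.two.to_le inf_le_left).of_surjective f.rangeRestrict f.rangeRestrict_surjective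
  have hPbc : 64 ≤ Nat.card ↥f.range := by
    rw [← Nat.card_congr (MonoidHom.ofInjective hinj).toEquiv]
    exact hPc
  -- the subgroup `U₀`
  let ψ : ↥U →* MulAut (Bar H) := (act H).comp (inclusion hUN)
  let φ : ↥U →* Multiplicative (ZMod 2) × Multiplicative (ZMod 2) := bitsHom.comp (Dd.tyHom.comp ψ)
  have hin : ∀ u : ↥U, φ u = 1 → ∃ l : Bar H, ψ u = MulAut.conj l := by
    intro u h1
    have h2 : Dd.tyHom (ψ u) * Dd.tyHom (ψ u) = 1 := by
      rw [← map_mul, ← map_mul]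
      have : u * u = 1 := Subtype.ext (sq u u.2)
      rw [this, map_one, map_one]
    exact Dd.inner_iff.mp (bitsHom_inj _ h1 h2)
  have hcard : Nat.card ↥U ≤ 4 * Nat.card ↥(φ.ker.map U.subtype) := by
    rw [card_map_of_injective U.subtype_injective, ← φ.ker.index_mul_card]
    refine Nat.mul_le_mul_right _ ?_
    rw [index_ker]
    refine (Nat.card_le_card_of_injective (Subtype.val) Subtype.val_injective).trans ?_
    rw [Nat.card_eq_fintype_card]
    decide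
  -- the subgroup `B`
  let B : Subgroup (Bar H) := (φ.ker.map ψ).comap MulAut.conj
  have hBof : ∀ l ∈ B, ∃ u : ↥U, φ u = 1 ∧ ψ u = MulAut.conj l := by
    rintro l ⟨u, hu, he⟩
    exact ⟨u, hu, he⟩
  have hBsq : ∀ l ∈ B, l * l = 1 := by
    intro l hl
    obtain ⟨u, -, he⟩ := hBof l hl
    apply Dd.conj_injective
    rw [map_mul, map_one, ← he, ← map_mul]
    have : u * u = 1 := Subtype.ext (sq u u.2)
    rw [this, map_one]
  have hBP : B ≤ f.range := by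
    intro l hl
    refine mem_of_norm h34 hPb2 hPbc (hBsq l hl) ?_
    rintro _ ⟨⟨p, hp⟩, rfl⟩
    obtain ⟨u, -, he⟩ := hBof l hl
    refine ⟨⟨u * p * (u : G)⁻¹, hUP u u.2 p hp⟩, ?_⟩
    have h1 := DFunLike.congr_fun he (f ⟨p, hp⟩)
    rw [MulAut.conj_apply] at h1
    rw [← h1]
    rfl
  obtain ⟨A', hA'P, hBA, hA'c, hA'sq⟩ := exists_E16 h34 hPb2 hPbc hBP hBsq
  have hA'comm : ∀ x ∈ A', ∀ y ∈ A', x * y = y * x := by
    intro x hx y hy
    have h1 := hA'sq _ (mul_mem hx hy)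
    have h2 := hA'sq _ hx
    have h3 := hA'sq _ hy
    calc x * y = x * ((x * y) * (x * y)) * y := by rw [h1, mul_one]
      _ = (x * x) * (y * x) * (y * y) := by group
      _ = y * x := by rw [h2, h3, one_mul, mul_one]
  refine ⟨(A'.comap f).map (R ⊓ H).subtype, ?_, ?_, ?_, φ.ker.map U.subtype, ?_, hcard, ?_⟩
  · rintro _ ⟨p, -, rfl⟩
    exact p.2.2
  · rw [card_map_of_injective (R ⊓ H).subtype_injective,
      ← card_map_of_injective (K := A'.comap f) hinj, map_comap_eq, inf_of_le_right hA'P, hA'c]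
  · rintro _ ⟨p, hp, rfl⟩
    have h1 : f (p * p) = 1 := by
      rw [map_mul]; exact hA'sq _ hp
    exact congrArg Subtype.val ((injective_iff_map_eq_one f).mp hinj _ h1)
  · exact map_subtype_le _
  · rintro _ ⟨u, hu, rfl⟩ _ ⟨p, hp, rfl⟩
    obtain ⟨l, hl⟩ := hin u hu
    have hlB : l ∈ B := ⟨u, hu, hl⟩
    have h1 := hA'comm l (hBA hlB) (f p) hp
    have h2 := DFunLike.congr_fun hl (f p)
    rw [MulAut.conj_apply, h1, mul_inv_cancel_right] at h2
    have h3 : f ⟨(u : G) * p * (u : G)⁻¹, hUP u u.2 p p.2⟩ = f p := h2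
    have h4 : (u : G) * p * (u : G)⁻¹ = p := congrArg Subtype.val (hinj h3)
    change (u : G) * p = p * u
    nth_rewrite 2 [← h4]
    group

/-- **(LU)** -/
theorem lu (T : Fun.ThreeBal G) (h34 : IsL34 (Bar H)) (hU : IsElementaryAbelian 2 U)
    (hUN : U ≤ normalizer (H : Set G)) (h64 : 64 ≤ Nat.card ↥U) :
    ∃ A ≤ H, (∀ a ∈ A, a * a = 1) ∧ Nat.card ↥A = 16 ∧ Fun.Wd U = Fun.Wd A := by
  obtain ⟨A, hAH, hAc, hAsq, U0, hU0, hUc, hcomm⟩ :=
    exists_lu h34 (fun u hu => sq_of_el hU hu) hUN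
  refine ⟨A, hAH, hAsq, hAc, ?_⟩
  have h16 : 16 ≤ Nat.card ↥U0 := by omega
  have hE : IsElementaryAbelian 2 (U0 ⊔ A : Subgroup G) := el_of_sq (by
    intro z hz
    obtain ⟨u, hu, a, ha, rfl⟩ := (mem_sup_of_comm hcomm).mp hz
    calc u * a * (u * a) = u * (a * u) * a := by group
      _ = (u * u) * (a * a) := by rw [← hcomm u hu a ha]; group
      _ = 1 := by rw [sq_of_el hU (hU0 hu), hAsq a ha, one_mul])
  have h1 : Fun.Wd U0 = Fun.Wd U := Fun.Wd_eq T hU (by omega) hU0 h16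
  rw [← h1]
  rcases le_or_gt 32 (Nat.card ↥(U0 ⊔ A)) with h32 | h32
  · rw [Fun.Wd_eq T hE h32 le_sup_left h16, Fun.Wd_eq T hE h32 le_sup_right hAc.ge]
  · have h2 : Nat.card ↥A ∣ Nat.card ↥(U0 ⊔ A) := card_dvd_of_le le_sup_right
    obtain ⟨k, hk⟩ := h2
    rw [hAc] at hk
    have h3 : 0 < Nat.card ↥(U0 ⊔ A) := Nat.card_pos
    have h4 : Nat.card ↥(U0 ⊔ A) = 16 := by omega
    have h5 : A = U0 ⊔ A := Subgroup.eq_of_le_of_card_ge le_sup_right (by rw [h4, hAc])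
    have h6 : U0 = U0 ⊔ A := Subgroup.eq_of_le_of_card_ge le_sup_left (by rw [h4]; exact h16)
    rw [h6, ← h5]

/-- **(LU)**, if all `E₁₆` of `H` have the same functor value -/
theorem lu' (T : Fun.ThreeBal G) {W : Subgroup G}
    (wa : ∀ A ≤ H, (∀ a ∈ A, a * a = 1) → Nat.card ↥A = 16 → Fun.Wd A = W) (h34 : IsL34 (Bar H))
    (hU : IsElementaryAbelian 2 U) (hUN : U ≤ normalizer (H : Set G))
    (h64 : 64 ≤ Nat.card ↥U) : Fun.Wd U = W := by
  obtain ⟨A, hA, hsq, hc, h⟩ := lu T h34 hU hUN h64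
  rw [h, wa A hA hsq hc]

/-- **(AU)** -/
theorem au (T : Fun.ThreeBal G) {A U : Subgroup G} (hU : IsElementaryAbelian 2 U)
    (h32 : 32 ≤ Nat.card ↥U) (hA : A ≤ U) (h16 : 16 ≤ Nat.card ↥A) : Fun.Wd U = Fun.Wd A :=
  (Fun.Wd_eq T hU h32 hA h16).symm

/-- **(AU)**, if all `E₁₆` of `H` have the same functor value -/
theorem au' (T : Fun.ThreeBal G) {W A : Subgroup G}
    (wa : ∀ A ≤ H, (∀ a ∈ A, a * a = 1) → Nat.card ↥A = 16 → Fun.Wd A = W)
    (hU : IsElementaryAbelian 2 U) (h32 : 32 ≤ Nat.card ↥U) (hAU : A ≤ U) (hA : A ≤ H)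
    (hc : Nat.card ↥A = 16) : Fun.Wd U = W := by
  rw [au T hU h32 hAU hc.ge, wa A hA (fun a ha => sq_of_el hU (hAU ha)) hc]

end sit

end Cfsg.Agent.UGT.N2W.LU
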