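import Cfsg.Agent.UGT.N2W.Germ
import Cfsg.Agent.UGT.N2W.LU
import Cfsg.Agent.UGT.Res.WMany.Fam

/-!
# Families of germs of type `L₃(4)`: basic facts (N2, cores, bb #17697 (4))

* `Germ.lu`: `Wd U = W` for `U ≤ N(H)` elementary abelian of order at least 64.
* `Germ.exists_lift`, `Germ.exists_e16_inn`: an element acting as an inner involution or trivially on `H / O(H)`
  centralizes an elementary abelian subgroup of order 16 of `H`.
* `Fam.le_K0`, `Fam.le_normalizer`, `Fam.normalizer_le_sSup`, `Fam.isSyl_inf`, `Fam.eq_one_of`, `Fam.mem_normalizer`.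
* `Fam.exists_c`: an involution outside `A ⟨k⟩` commuting with it.
-/

set_option autoImplicit false
set_option linter.unusedSectionVars false

open Cfsg Subgroup
open Cfsg.Agent.SignalizersComponents Cfsg.Agent.Lib
open Cfsg.Agent.SignalizersComponents.IntrinsicBasic
open Cfsg.Agent.Intrinsic.Basic Cfsg.Agent.Intrinsic.Cen Cfsg.Agent.Intrinsic.Diag
open Cfsg.Agent.McLLyComp.Act
open Cfsg.Agent.UGT.Triple Cfsg.Agent.UGT.PumpGen Cfsg.Agent.UGT.TriBase
open Cfsg.Agent.UGT.Iface (IsL34)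
open Cfsg.Agent.UGT.Res.Base Cfsg.Agent.UGT.Res.Abel Cfsg.Agent.UGT.Res.CoreFree
open Cfsg.Agent.UGT.Res.WFun (el_of_sq el_mono el_sup el_cj el_zpowers mem_zpowers_of_sq mem_zpowers_sup
  two_mul_card_le card_mul_le_sup exists_commuting mem_sup_of_comm)
open Cfsg.Agent.UGT.Res.WPair (M0 K0 mem_M0 mem_K0 K0_le M0_le_normalizer cj_M0 cj_K0 cj_normalizer cj_sup
  cj_commutator cj_le_iff fixes_of_mem_core comm_sup_le mem_sup_left_iff card_sup_mul)
open Cfsg.Agent.UGT.Res.WMany (HasFour eq_one_of_two_odd eq_one_of_sq_odd hasFour_of_isSyl ne_bot_of_hasFour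
  card_sup_zpowers sq_sup_zpowers exists_four odd_sup cj_finset_sup comm_of_K0 exists_R)
open scoped commutatorElement

namespace Cfsg.Agent.UGT.N2W

open Fun

variable {G : Type*} [Group G]

/-! ### germs -/

section germ

variable [Finite G] {W H : Subgroup G}

/-- **(LU)** -/
theorem Germ.lu (T : ThreeBal G) (S : Germ W H) {U : Subgroup G} (hU : IsElementaryAbelian 2 U)
    (hUN : U ≤ normalizer (H : Set G)) (h64 : 64 ≤ Nat.card ↥U) : Wd U = W :=
  LU.lu' T S.wa S.l34 hU hUN h64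

/-- lifting an elementary abelian subgroup of `C_{H / O(H)}(U)` to `C_H(U)`, `U` a 2-group -/
theorem exists_lift_cen {U : Subgroup G} (hU : U ≤ normalizer (H : Set G)) (hU2 : IsPGroup 2 ↥U)
    {V : Subgroup (Iface.Bar H)} (hV : ∀ v ∈ V, v * v = 1)
    (hUV : ∀ (u : G) (hu : u ∈ U), ∀ v ∈ V, act H ⟨u, hU hu⟩ v = v) :
    ∃ A : Subgroup G, ∃ hA : A ≤ H, (∀ a ∈ A, a * a = 1) ∧ Nat.card ↥A = Nat.card ↥V ∧
      (∀ a ∈ A, ∀ u ∈ U, a * u = u * a) ∧ ∀ (a : G) (ha : a ∈ A),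
        (QuotientGroup.mk ⟨a, hA ha⟩ : Iface.Bar H) ∈ V := by
  have hp : Fact (Nat.Prime 2) := ⟨Nat.prime_two⟩
  obtain ⟨X, hX⟩ : ∃ X : Subgroup G, X =
      (V.comap (QuotientGroup.mk' (oddCore ↥H))).map H.subtype := ⟨_, rfl⟩
  have hXH : X ≤ H := by
    rw [hX]
    exact map_subtype_le _
  have hmem : ∀ (z : G) (hz : z ∈ H), z ∈ X ↔ (QuotientGroup.mk ⟨z, hz⟩ : Iface.Bar H) ∈ V := by
    intro z hz
    rw [hX]
    constructor
    · rintro ⟨⟨y, hy⟩, h1, rfl⟩
      exact h1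
    · intro h1
      exact ⟨⟨z, hz⟩, h1, rfl⟩
  have hUX : U ≤ normalizer (X : Set G) := by
    have key : ∀ u ∈ U, ∀ z ∈ X, u * z * u⁻¹ ∈ X := by
      intro u hu z hz
      have hzH := hXH hz
      rw [hmem _ (conj_mem (hU hu) hzH), ← act_mk (hU hu) hzH, hUV u hu _ ((hmem z hzH).mp hz)]
      exact (hmem z hzH).mp hz
    intro u hu
    rw [mem_normalizer_iff]
    refine fun z => ⟨key u hu z, fun h => ?_⟩
    have h2 := key _ (inv_mem hu) _ h
    have h3 : u⁻¹ * (u * z * u⁻¹) * u⁻¹⁻¹ = z := by group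
    rwa [h3] at h2
  obtain ⟨R, hR, hUR⟩ := exists_isSyl (E := U ⊔ X) hU2 le_sup_left
  have hA := hR.inf (L := X) le_sup_right (sup_le hUX le_normalizer)
  obtain ⟨A, hAe⟩ : ∃ A, A = R ⊓ X := ⟨_, rfl⟩
  rw [← hAe] at hA
  have hAR : A ≤ R := hAe ▸ inf_le_left
  have hAH := hA.le.trans hXH
  -- `A → V` is injective
  obtain ⟨f, hf⟩ : ∃ f : ↥A →* ↥V, ∀ (a : G) (ha : a ∈ A), ((f ⟨a, ha⟩ : ↥V) : Iface.Bar H) =
      QuotientGroup.mk ⟨a, hAH ha⟩ :=
    ⟨((QuotientGroup.mk' (oddCore ↥H)).comp (Subgroup.inclusion hAH)).codRestrict V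
      (fun a => (hmem a.1 (hAH a.2)).mp (hA.le a.2)), fun a ha => rfl⟩
  have hinj : Function.Injective f := by
    rw [injective_iff_map_eq_one]
    rintro ⟨a, ha⟩ h1
    have h2 := hf a ha
    rw [h1] at h2
    have h3 := (mk_eq_one_iff (hAH ha)).mp h2.symm
    exact Subtype.ext (eq_one_of_two_odd hR.two (odd_card_core H) (hAR ha) h3)
  have hle : Nat.card ↥A ≤ Nat.card ↥V := Nat.card_le_card_of_injective f hinj
  have hVp : IsPGroup 2 ↥V := isPGroup_of_el (el_of_sq hV)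
  obtain ⟨k, hk⟩ := hVp.exists_card_eq
  have hdvd : 2 ^ k ∣ Nat.card ↥X := by
    rw [hX, card_map_of_injective H.subtype_injective]
    rw [← hk]
    exact Subgroup.card_dvd_of_surjective _
      (MonoidHom.subgroupComap_surjective_of_surjective (QuotientGroup.mk' (oddCore ↥H)) V
        (QuotientGroup.mk'_surjective _))
  have h8 := hA.dvd_card hdvd
  refine ⟨A, hAH, ?_, le_antisymm hle ?_, ?_, fun a ha => (hmem a (hAH ha)).mp (hA.le ha)⟩
  · intro a ha
    have h1 : f (⟨a, ha⟩ * ⟨a, ha⟩) = 1 := by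
      rw [map_mul]
      exact Subtype.ext (hV _ (f ⟨a, ha⟩).2)
    have h2 := (injective_iff_map_eq_one f).mp hinj _ h1
    exact congrArg Subtype.val h2
  · rw [hk]
    exact Nat.le_of_dvd Nat.card_pos h8
  · intro a ha u hu
    have h1 := hUV u hu _ ((hmem a (hAH ha)).mp (hA.le ha))
    rw [act_mk (hU hu) (hAH ha), eq_comm, mk_eq_iff] at h1
    have h2 : a⁻¹ * (u * a * u⁻¹) ∈ R :=
      mul_mem (inv_mem (hAR ha)) (mul_mem (mul_mem (hUR hu) (hAR ha)) (inv_mem (hUR hu)))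
    have h3 := eq_one_of_two_odd hR.two (odd_card_core H) h2 h1
    have h4 : u * a * u⁻¹ = a := (inv_mul_eq_one.mp h3).symm
    calc a * u = u * a * u⁻¹ * u := by rw [h4]
      _ = u * a := by group

/-- the elements of `K0` act trivially on `H / O(H)` -/
theorem act_K0 {k : G} (hk : k ∈ K0 W H) (v : Iface.Bar H) : act H ⟨k, hk.1.2⟩ v = v := by
  obtain ⟨⟨y, hy⟩, rfl⟩ := QuotientGroup.mk_surjective v
  rw [act_mk hk.1.2 hy, eq_comm, mk_eq_iff]
  have h1 := hk.2.2 y hy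
  have h2 : y⁻¹ * (k * y * k⁻¹) = y⁻¹ * ⁅k, y⁆ * y⁻¹⁻¹ := by
    rw [commutatorElement_def]
    group
  rw [h2]
  exact conj_mem_core (le_normalizer (inv_mem hy)) h1

/-- `H / O(H)` contains an elementary abelian subgroup of order 16 -/
theorem exists_e16_bar {D : Type*} [Group D] (h : IsL34 D) :
    ∃ V : Subgroup D, (∀ v ∈ V, v * v = 1) ∧ Nat.card ↥V = 16 := by
  obtain ⟨A⟩ := LSup.exists_dat h
  exact ⟨L34T2.Gen.AA A false, fun v hv => LU.AA_sq A false hv, L34T2.Gen.card_AA A false⟩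

/-- an involution of `K0` centralizes an elementary abelian subgroup of order 16 of `H` -/
theorem Germ.exists_e16_K0 (S : Germ W H) {k : G} (hk : k ∈ K0 W H) (kk : k * k = 1) :
    ∃ A ≤ H, (∀ a ∈ A, a * a = 1) ∧ Nat.card ↥A = 16 ∧ ∀ a ∈ A, k * a = a * k := by
  obtain ⟨V, hV, hV16⟩ := exists_e16_bar S.l34
  have hle : zpowers k ≤ normalizer (H : Set G) := zpowers_le.mpr hk.1.2
  obtain ⟨A, hA, h1, h2, h3, -⟩ := exists_lift_cen (H := H) hle (isPGroup_of_el (el_zpowers kk)) hV (by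
    intro u hu v hv
    have hu' : u ∈ K0 W H := zpowers_le.mpr hk hu
    exact act_K0 hu' v)
  exact ⟨A, hA, h1, h2.trans hV16, fun a ha => (h3 a ha k (mem_zpowers k)).symm⟩

/-- an involution acting as an inner automorphism on `H / O(H)` centralizes an elementary abelian subgroup of order 16
of `H` -/
theorem Germ.exists_e16_inn (S : Germ W H) {k : G} (hk : k ∈ normalizer (H : Set G)) (kk : k * k = 1)
    {i : Iface.Bar H} (hi : act H ⟨k, hk⟩ = MulAut.conj i) :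
    ∃ A ≤ H, (∀ a ∈ A, a * a = 1) ∧ Nat.card ↥A = 16 ∧ ∀ a ∈ A, k * a = a * k := by
  obtain ⟨Dd⟩ := LSup.exists_dat S.l34
  have hii : i * i = 1 := by
    apply Dd.conj_injective
    rw [map_mul, map_one, ← hi, ← map_mul]
    have : (⟨k, hk⟩ : ↥(normalizer (H : Set G))) * ⟨k, hk⟩ = 1 := Subtype.ext kk
    rw [this, map_one]
  have hp : Fact (Nat.Prime 2) := ⟨Nat.prime_two⟩
  have hfin : Finite (Iface.Bar H) := inferInstance
  -- a Sylow 2-subgroup containing `i`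
  obtain ⟨R, hR⟩ := (show IsPGroup 2 ↥(zpowers i) from isPGroup_of_el (el_zpowers hii)).exists_le_sylow
  have hR64 : 64 ≤ Nat.card ↥(R : Subgroup (Iface.Bar H)) := by
    have h1 : (2 : ℕ) ^ 6 ∣ Nat.card (Iface.Bar H) := by
      rw [Dd.card]
      norm_num
    have h2 := R.pow_dvd_card_of_pow_dvd_card h1
    exact Nat.le_of_dvd Nat.card_pos h2
  obtain ⟨V, hVR, hiV, hV16, hV2⟩ := LU.exists_E16 S.l34 R.isPGroup' hR64 hR
    (fun b hb => sq_of_el (el_zpowers hii) hb)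
  have hle : zpowers k ≤ normalizer (H : Set G) := zpowers_le.mpr hk
  obtain ⟨A, hA, h1, h2, h3, -⟩ := exists_lift_cen (H := H) hle (isPGroup_of_el (el_zpowers kk)) hV2 (by
    intro u hu v hv
    rcases (mem_zpowers_of_sq kk).mp hu with rfl | rfl
    · have h4 : act H ⟨1, hle hu⟩ = 1 := by
        rw [show (⟨1, hle hu⟩ : ↥(normalizer (H : Set G))) = 1 from rfl, map_one]
      rw [h4]
      rfl
    · rw [hi, MulAut.conj_apply]
      have h4 := comm_of_el (el_of_sq hV2) (hiV (mem_zpowers i)) hv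
      rw [h4, mul_inv_cancel_right])
  exact ⟨A, hA, h1, h2.trans hV16, fun a ha => (h3 a ha k (mem_zpowers k)).symm⟩

theorem Germ.hasFour (S : Germ W H) : HasFour H := by
  obtain ⟨k, hk, kk, -⟩ := S.exk
  obtain ⟨A, hA, hA2, hA16, -⟩ := S.exists_e16_K0 hk kk
  -- a subgroup of order 4 of `A`
  obtain ⟨a, ha, ha1, -⟩ := exists_ne (B := A) (by omega) 1
  obtain ⟨P, hP, hP1, hP2⟩ : ∃ P ≤ A, (∀ v ∈ P, v * v = 1) ∧ Nat.card ↥P = 4 := by
    have hp : Fact (Nat.Prime 2) := ⟨Nat.prime_two⟩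
    obtain ⟨P, h1⟩ := Sylow.exists_subgroup_card_pow_prime 2 (G := ↥A) (n := 2)
      (by rw [hA16]; norm_num)
    exact ⟨P.map A.subtype, map_subtype_le _, fun v hv => hA2 v (map_subtype_le _ hv), by
      rw [card_map_of_injective A.subtype_injective, h1]
      norm_num⟩
  exact ⟨P, hP.trans hA, hP1, hP2⟩

end germ

/-! ### the family -/

section fam

variable [Finite G] {W : Subgroup G} {𝓗 : Set (Subgroup G)}

theorem Fam.odd_W (F : Fam W 𝓗) {X : Subgroup G} (hX : X ∈ 𝓗) : Odd (Nat.card ↥W) :=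
  (F.germ X hX).odd_W

theorem Fam.nW (F : Fam W 𝓗) {X : Subgroup G} (hX : X ∈ 𝓗) : X ≤ normalizer (W : Set G) :=
  (F.germ X hX).nW

/-- different members act trivially on each other -/
theorem Fam.le_K0 (F : Fam W 𝓗) {X Y : Subgroup G} (hX : X ∈ 𝓗) (hY : Y ∈ 𝓗) (hne : Y ≠ X) :
    Y ≤ K0 W X := by
  have h1 := F.comm Y hY X hX hne
  have hWX : W ≤ X := (F.germ X hX).W_le
  have key : ∀ y ∈ Y, ∀ x ∈ X, ⁅y, x⁆ ∈ W := fun y hy x hx => h1 (commutator_mem_commutator hy hx)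
  have hn : ∀ y ∈ Y, ∀ x ∈ X, y * x * y⁻¹ ∈ X := by
    intro y hy x hx
    have h2 : y * x * y⁻¹ = ⁅y, x⁆ * x := by
      rw [commutatorElement_def]
      group
    rw [h2]
    exact mul_mem (hWX (key y hy x hx)) hx
  have hN : Y ≤ normalizer (X : Set G) := by
    intro y hy
    rw [mem_normalizer_iff]
    refine fun x => ⟨hn y hy x, fun h => ?_⟩
    have h2 := hn _ (inv_mem hy) _ h
    have h3 : y⁻¹ * (y * x * y⁻¹) * y⁻¹⁻¹ = x := by group
    rwa [h3] at h2
  intro y hy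
  exact ⟨⟨F.nW hY hy, hN hy⟩, hN hy, fun x hx => (F.germ X hX).Wc (key y hy x hx)⟩

theorem Fam.le_normalizer (F : Fam W 𝓗) {X Y : Subgroup G} (hX : X ∈ 𝓗) (hY : Y ∈ 𝓗) :
    Y ≤ normalizer (X : Set G) := by
  by_cases h : Y = X
  · rw [h]
    exact Subgroup.le_normalizer
  · exact fun y hy => (F.le_K0 hX hY h hy).1.2

theorem Fam.le_M0 (F : Fam W 𝓗) {X Y : Subgroup G} (hX : X ∈ 𝓗) (hY : Y ∈ 𝓗) : Y ≤ M0 W X :=
  le_inf (F.nW hY) (F.le_normalizer hX hY)

/-- the product of all members -/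
theorem Fam.normalizer_le_sSup (F : Fam W 𝓗) :
    normalizer (W : Set G) ≤ normalizer ((sSup 𝓗 : Subgroup G) : Set G) := by
  have key : ∀ m ∈ normalizer (W : Set G), sSup 𝓗 ≤ cj m (sSup 𝓗) := by
    intro m hm
    refine sSup_le fun X hX => ?_
    have h1 := F.conj m⁻¹ (inv_mem hm) X hX
    have h2 := cj_mono (g := m) (le_sSup h1)
    rwa [← cj_mul, mul_inv_cancel, cj_one] at h2
  intro m hm
  rw [mem_normalizer_iff_cj]
  refine le_antisymm ?_ (key m hm)
  have h1 := cj_mono (g := m) (key m⁻¹ (inv_mem hm))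
  rwa [← cj_mul, mul_inv_cancel, cj_one] at h1

theorem Fam.isSyl_inf (F : Fam W 𝓗) {X R : Subgroup G} (hX : X ∈ 𝓗)
    (hR : IsSyl (normalizer (W : Set G)) R) : IsSyl X (R ⊓ X) := by
  have h1 : sSup 𝓗 ≤ normalizer (W : Set G) := sSup_le fun Y hY => F.nW hY
  have h2 := hR.inf h1 F.normalizer_le_sSup
  have h3 := h2.inf (le_sSup hX) (sSup_le fun Y hY => F.le_normalizer hX hY)
  rwa [inf_assoc, inf_of_le_right (le_sSup hX)] at h3

/-- an element of the product of `s` acting trivially on all members of `s` -/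
theorem Fam.mem_core_of (F : Fam W 𝓗) (s : Finset (Subgroup G)) (hs : ∀ X ∈ s, X ∈ 𝓗) :
    Odd (Nat.card ↥(s.sup core)) ∧
      ∀ z ∈ s.sup id, (∀ X ∈ s, z ∈ K0 W X) → z ∈ s.sup core := by
  classical
  induction s using Finset.induction_on with
  | empty =>
    refine ⟨?_, fun z hz _ => ?_⟩
    · rw [Finset.sup_empty, card_bot]
      exact odd_one
    · rw [Finset.sup_empty] at hz ⊢
      exact hz
  | insert X s hXs ih =>
    have hX : X ∈ 𝓗 := hs X (Finset.mem_insert_self X s)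
    have hs' : ∀ Y ∈ s, Y ∈ 𝓗 := fun Y hY => hs Y (Finset.mem_insert_of_mem hY)
    obtain ⟨h1, h2⟩ := ih hs'
    have hne : ∀ Y ∈ s, Y ≠ X := fun Y hY h => hXs (h ▸ hY)
    have hnX : ∀ Y ∈ s, X ≤ normalizer (Y : Set G) := fun Y hY => F.le_normalizer (hs' Y hY) hX
    rw [Finset.sup_insert, Finset.sup_insert]
    constructor
    · refine odd_sup (odd_card_core X) h1 ?_
      intro g hg
      rw [mem_normalizer_iff_cj, cj_finset_sup]
      refine Finset.sup_congr rfl fun Y hY => ?_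
      rw [← core_cj, mem_normalizer_iff_cj.mp (hnX Y hY (core_le X hg))]
    · intro z hz hK
      have hn : X ≤ normalizer ((s.sup id : Subgroup G) : Set G) := by
        intro g hg
        rw [mem_normalizer_iff_cj, cj_finset_sup]
        refine Finset.sup_congr rfl fun Y hY => ?_
        exact mem_normalizer_iff_cj.mp (hnX Y hY hg)
      obtain ⟨x, hx, z', hz', rfl⟩ := (mem_sup_left_iff hn).mp hz
      have h3 : s.sup id ≤ K0 W X :=
        Finset.sup_le fun Y hY => F.le_K0 hX (hs' Y hY) (hne Y hY)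
      have h4 : x ∈ K0 W X := by
        have h5 := mul_mem (hK X (Finset.mem_insert_self X s)) (inv_mem (h3 hz'))
        rwa [mul_inv_cancel_right] at h5
      have h5 : x ∈ core X := by
        rw [← (F.germ X hX).inf_K0]
        exact ⟨hx, h4⟩
      have h6 : z' ∈ s.sup core := by
        refine h2 z' hz' fun Y hY => ?_
        have h7 := mul_mem (inv_mem (F.le_K0 (hs' Y hY) hX (hne Y hY).symm hx))
          (hK Y (Finset.mem_insert_of_mem hY))
        rwa [inv_mul_cancel_left] at h7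
      exact mul_mem (mem_sup_left h5) (mem_sup_right h6)

/-- no involution of the product of all members acts trivially on all members -/
theorem Fam.eq_one_of (F : Fam W 𝓗) {c : G} (hc : c ∈ sSup 𝓗) (hcc : c * c = 1)
    (hK : ∀ X ∈ 𝓗, c ∈ K0 W X) : c = 1 := by
  classical
  have hfin : 𝓗.Finite := Set.toFinite 𝓗
  obtain ⟨h1, h2⟩ := F.mem_core_of hfin.toFinset fun X hX => hfin.mem_toFinset.mp hX
  have h3 : hfin.toFinset.sup id = sSup 𝓗 := by
    rw [Finset.sup_id_eq_sSup, hfin.coe_toFinset]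
  rw [h3] at h2
  exact eq_one_of_sq_odd h1 hcc (h2 c hc fun X hX => hK X (hfin.mem_toFinset.mp hX))

theorem Fam.eq_one_of_mem (F : Fam W 𝓗) {X : Subgroup G} (hX : X ∈ 𝓗) {c : G} (hcX : c ∈ X)
    (hcc : c * c = 1) (hK : c ∈ K0 W X) : c = 1 := (F.germ X hX).eq_one_of hcX hcc hK

/-- different members have no common involutions -/
theorem Fam.eq_one_of_inter (F : Fam W 𝓗) {X Y : Subgroup G} (hX : X ∈ 𝓗) (hY : Y ∈ 𝓗) (hne : Y ≠ X)
    {c : G} (hcX : c ∈ X) (hcY : c ∈ Y) (hcc : c * c = 1) : c = 1 :=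
  F.eq_one_of_mem hX hcX hcc (F.le_K0 hX hY hne hcY)

/-- an element of `N(W)` commuting with an involution of `X` normalizes `X` -/
theorem Fam.mem_normalizer (F : Fam W 𝓗) {X : Subgroup G} (hX : X ∈ 𝓗) {t g : G} (ht : t ∈ X)
    (tt : t * t = 1) (t1 : t ≠ 1) (hg : g ∈ normalizer (W : Set G)) (hgt : g * t = t * g) :
    g ∈ normalizer (X : Set G) := by
  rw [mem_normalizer_iff_cj]
  by_contra hne
  refine t1 (F.eq_one_of_inter hX (F.conj g hg X hX) hne ht ?_ tt)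
  rw [mem_cj]
  have : g⁻¹ * t * g = t := by rw [mul_assoc, ← hgt, inv_mul_cancel_left]
  rwa [this]

/-- conjugates of families -/
theorem Fam.conj_fam (F : Fam W 𝓗) (g : G) : Fam (cj g W) (cj g '' 𝓗) where
  germ := by
    rintro _ ⟨X, hX, rfl⟩
    exact (F.germ X hX).conj g
  conj := by
    rintro m hm _ ⟨X, hX, rfl⟩
    rw [← cj_normalizer, mem_cj] at hm
    refine ⟨_, F.conj _ hm X hX, ?_⟩
    rw [← cj_mul, ← cj_mul]
    congr 1
    group
  comm := by
    rintro _ ⟨X, hX, rfl⟩ _ ⟨Y, hY, rfl⟩ hne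
    rw [← cj_commutator]
    exact cj_mono (F.comm X hX Y hY fun h => hne (by rw [h]))

theorem Many.conj_many (M : Many W 𝓗) (g : G) : Many (cj g W) (cj g '' 𝓗) where
  toFam := M.toFam.conj_fam g
  two := by
    obtain ⟨X, hX, Y, hY, hne⟩ := M.two
    exact ⟨_, ⟨X, hX, rfl⟩, _, ⟨Y, hY, rfl⟩, fun h => hne (cj_injective g h)⟩
  fine := by
    rintro _ ⟨X, hX, rfl⟩ t ht tt t1
    rw [mem_cj] at ht
    have h1 := (M.fine X hX _ ht (by
      calc g⁻¹ * t * g * (g⁻¹ * t * g) = g⁻¹ * (t * t) * g := by group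
        _ = 1 := by rw [tt]; group) (by
      intro h
      apply t1
      have : t = g * (g⁻¹ * t * g) * g⁻¹ := by group
      rw [this, h]
      group)).conj g
    have h2 : g * (g⁻¹ * t * g) * g⁻¹ = t := by group
    rwa [h2] at h1

theorem Many.exists_ne (M : Many W 𝓗) (X : Subgroup G) : ∃ Y ∈ 𝓗, Y ≠ X := by
  obtain ⟨Y, hY, Z, hZ, hne⟩ := M.two
  by_cases h : Y = X
  · exact ⟨Z, hZ, fun h' => hne (h.trans h'.symm)⟩
  · exact ⟨Y, hY, h⟩

/-- an involution `c ∉ A ⟨k⟩` commuting with `A ⟨k⟩` and acting trivially on `X` -/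
theorem Fam.exists_c (F : Fam W 𝓗) {X Y : Subgroup G} (hX : X ∈ 𝓗) (hY : Y ∈ 𝓗) (hYX : Y ≠ X) {k : G}
    (hk : k ∈ M0 W X) (kk : k * k = 1) {A : Subgroup G} (hA : A ≤ X) (hA2 : ∀ a ∈ A, a * a = 1)
    (hkA : ∀ a ∈ A, k * a = a * k) :
    ∃ c ∈ K0 W X, c * c = 1 ∧ c * k = k * c ∧ (∀ a ∈ A, c * a = a * c) ∧ c ∉ A ⊔ zpowers k := by
  obtain ⟨B, hB⟩ : ∃ B, B = A ⊔ zpowers k := ⟨_, rfl⟩
  have hAk : ∀ a ∈ A, a * k = k * a := fun a ha => (hkA a ha).symm
  have hB2 : ∀ b ∈ B, b * b = 1 := by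
    rw [hB]
    exact sq_sup_zpowers hA2 kk hAk
  have hAB : A ≤ B := by rw [hB]; exact le_sup_left
  have hkB : k ∈ B := by rw [hB]; exact mem_sup_right (mem_zpowers k)
  have hBN : B ≤ normalizer (W : Set G) := by
    rw [hB]
    exact sup_le (hA.trans (F.nW hX)) (zpowers_le.mpr hk.1)
  have hkX : cj k X = X := mem_normalizer_iff_cj.mp hk.2
  have hY' := F.conj k hk.1 Y hY
  have hYX' : cj k Y ≠ X := fun h => hYX (cj_injective k (h.trans hkX.symm))
  obtain ⟨D, hD⟩ : ∃ D, D = Y ⊔ cj k Y := ⟨_, rfl⟩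
  have hDK : D ≤ K0 W X := by
    rw [hD]
    exact sup_le (F.le_K0 hX hY hYX) (F.le_K0 hX hY' hYX')
  have hDY : D ≤ normalizer (Y : Set G) := by
    rw [hD]
    exact sup_le Subgroup.le_normalizer (F.le_normalizer hY hY')
  have hkk' : cj k (cj k Y) = Y := by rw [← cj_mul, kk, cj_one]
  have hBD : B ≤ normalizer (D : Set G) := by
    rw [hB]
    refine sup_le ?_ (zpowers_le.mpr ?_)
    · intro a ha
      rw [mem_normalizer_iff_cj, hD, cj_sup,
        mem_normalizer_iff_cj.mp (F.le_normalizer hY hX (hA ha)),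
        mem_normalizer_iff_cj.mp (F.le_normalizer hY' hX (hA ha))]
    · rw [mem_normalizer_iff_cj, hD, cj_sup, hkk', sup_comm]
  obtain ⟨R, hR, hBR⟩ := exists_isSyl (E := normalizer (W : Set G)) (isPGroup_of_el (el_of_sq hB2)) hBN
  have hYD : Y ≤ D := by rw [hD]; exact le_sup_left
  have hPY := F.isSyl_inf hY hR
  have hP4 := hasFour_of_isSyl hPY (F.germ Y hY).hasFour
  have hNT : B ≤ normalizer ((R ⊓ D : Subgroup G) : Set G) := by
    intro u hu
    rw [mem_normalizer_iff_cj, cj_inf, mem_normalizer_iff_cj.mp (hBD hu), cj_eq_self_of_mem (hBR hu)]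
  have hT2 : IsPGroup 2 ↥(B ⊔ (R ⊓ D) : Subgroup G) := hR.two.to_le (sup_le hBR inf_le_left)
  obtain ⟨b, hb, hbo, hbc⟩ := exists_central hT2 le_sup_right
    (sup_le hNT Subgroup.le_normalizer) (fun h => ne_bot_of_hasFour hP4 (by
      rw [eq_bot_iff] at h ⊢
      exact (inf_le_inf_left R hYD).trans h))
  have hbb := sq_of_order hbo
  have hb1 := ne_one_of_order hbo
  have hbB : ∀ u ∈ B, u * b = b * u := fun u hu => hbc u (mem_sup_left hu)
  have hcz : ∀ e ∈ A, ∀ f ∈ zpowers k, e * f = f * e := by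
    intro e he f hf
    rcases (mem_zpowers_of_sq kk).mp hf with rfl | rfl
    · rw [mul_one, one_mul]
    · exact hAk e he
  have hmemB : ∀ {z : G}, z ∈ B → z ∉ A → ∃ a ∈ A, z = a * k := by
    intro z hz hzA
    rw [hB] at hz
    obtain ⟨a, ha, w, hw, rfl⟩ := (mem_sup_of_comm hcz).mp hz
    rcases (mem_zpowers_of_sq kk).mp hw with rfl | rfl
    · exact absurd (by rwa [mul_one]) hzA
    · exact ⟨a, ha, rfl⟩
  have hAK : ∀ {z : G}, z ∈ A → z ∈ K0 W X → z = 1 := fun hz hzK =>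
    F.eq_one_of_mem hX (hA hz) (hA2 _ hz) hzK
  by_cases hbU : b ∈ B
  · obtain ⟨a, ha, hbak⟩ := hmemB hbU fun h => hb1 (hAK h (hDK hb.2))
    have haa := hA2 a ha
    have hkab : k = a * b := by rw [hbak, ← mul_assoc, haa, one_mul]
    -- `k` normalizes `Y`
    have hkY : cj k Y = Y := by
      rw [hkab, cj_mul, mem_normalizer_iff_cj.mp (hDY hb.2),
        mem_normalizer_iff_cj.mp (F.le_normalizer hY hX (hA ha))]
    have hDe : D = Y := by rw [hD, hkY, sup_idem]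
    have hbY : b ∈ Y := by rw [← hDe]; exact hb.2
    obtain ⟨V, hVP, hV2, hV4, hbV⟩ := exists_four hPY.two hP4 (mem_inf.mpr ⟨hb.1, hbY⟩) hbb hb1
    obtain ⟨v, hv, hv1, hvb⟩ := Res.CoreFree.exists_ne (B := V) (by omega) b
    have hvK : v ∈ K0 W X := F.le_K0 hX hY hYX (hVP hv).2
    have hvb' : v * b = b * v := comm_of_el (el_of_sq hV2) hv hbV
    have hvA : ∀ a ∈ A, v * a = a * v := fun a ha =>
      comm_of_K0 hR.two (hVP hv).1 hvK (hBR (hAB ha)) (hA ha)
    refine ⟨v, hvK, hV2 v hv, ?_, hvA, ?_⟩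
    · rw [hkab]
      calc v * (a * b) = (v * a) * b := by group
        _ = a * (v * b) := by rw [hvA a ha]; group
        _ = a * b * v := by rw [hvb']; group
    · intro h
      rw [← hB] at h
      obtain ⟨a', ha', hva⟩ := hmemB h fun h => hv1 (hAK h hvK)
      have h1 : v * b = a' * a := by
        rw [hva, hkab]
        calc a' * (a * b) * b = a' * a * (b * b) := by group
          _ = a' * a := by rw [hbb, mul_one]
      have h2 : v * b = 1 := by
        refine hAK ?_ (mul_mem hvK (hDK hb.2))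
        rw [h1]
        exact mul_mem ha' ha
      apply hvb
      have h3 := eq_inv_of_mul_eq_one_left h2
      rw [h3, inv_eq_of_mul_eq_one_left hbb]
  · rw [hB] at hbU
    exact ⟨b, hDK hb.2, hbb, (hbB k hkB).symm, fun a ha => (hbB a (hAB ha)).symm, hbU⟩

end fam

end Cfsg.Agent.UGT.N2W
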