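import Cfsg.Agent.UGT.N2W.Single
import Cfsg.Agent.UGT.N2W.FamFacts

/-!
# The single case (N2, cores, bb #17697 (8)): from the parts

* `inv_conj34`: the involutions of `X` are conjugate in `X` if `X / O(X) ≅ L₃(4)`.
* `Six`, `Seven`: the literal inputs (6) and (7).
* `single`: `(x, a, L)` with `Fn W a L`, a second involution, `NoDbl W`: a contradiction, from (5), (6), (7), COVER34 and
  STEP 1.
-/

set_option autoImplicit false
set_option linter.unusedSectionVars false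

open Cfsg Subgroup
open Cfsg.Agent.SignalizersComponents Cfsg.Agent.Lib
open Cfsg.Agent.SignalizersComponents.IntrinsicBasic
open Cfsg.Agent.Intrinsic.Basic Cfsg.Agent.Intrinsic.Cen Cfsg.Agent.Intrinsic.Diag
open Cfsg.Agent.McLLyComp.Act
open Cfsg.Agent.UGT.Triple Cfsg.Agent.UGT.PumpGen Cfsg.Agent.UGT.TriBase
open Cfsg.Agent.UGT.Iface (Bar IsL34)
open Cfsg.Agent.UGT.Res.Base Cfsg.Agent.UGT.Res.Abel Cfsg.Agent.UGT.Res.CoreFree
open Cfsg.Agent.UGT.Res.WFun (el_of_sq el_mono el_sup el_cj el_zpowers mem_zpowers_of_sq mem_zpowers_sup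
  two_mul_card_le card_mul_le_sup exists_commuting isSyl_of_sup)
open Cfsg.Agent.UGT.Res.WPair (M0 K0 mem_M0 mem_K0 K0_le M0_le_normalizer cj_M0 cj_K0 cj_normalizer cj_sup
  cj_commutator cj_le_iff fixes_of_mem_core comm_sup_le mem_sup_left_iff card_sup_mul)
open Cfsg.Agent.UGT.N2S (TT Typ)
open scoped commutatorElement

namespace Cfsg.Agent.UGT.N2W.Entr

open Fun

universe u

variable {G : Type u} [Group G] [Finite G]

/-- the involutions of `X` are conjugate -/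
theorem inv_conj34 {X : Subgroup G} (h34 : IsL34 (Bar X)) {s f : G} (hs : s ∈ X) (hf : f ∈ X)
    (hso : orderOf s = 2) (hfo : orderOf f = 2) : ∃ l ∈ X, l * s * l⁻¹ = f := by
  obtain ⟨A⟩ := LSup.exists_dat h34
  have hss := sq_of_order hso
  have hff := sq_of_order hfo
  obtain ⟨g, hg⟩ := N2S.OneOut.cls_of A (N2S.OneOut.bar_sq hs hss) (N2S.OneOut.bar_ne hs hso)
    (N2S.OneOut.bar_sq hf hff) (N2S.OneOut.bar_ne hf hfo)
  obtain ⟨⟨l, hl⟩, rfl⟩ := QuotientGroup.mk_surjective g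
  have h5 : (l * s * l⁻¹)⁻¹ * f ∈ core X := by
    have h6 : (QuotientGroup.mk ⟨l * s * l⁻¹, mul_mem (mul_mem hl hs) (inv_mem hl)⟩ :
        ↥X ⧸ oddCore ↥X) = QuotientGroup.mk ⟨f, hf⟩ := hg
    exact (mk_eq_iff _ _).mp h6
  have h6 : l * s * l⁻¹ * (l * s * l⁻¹) = 1 := by
    calc l * s * l⁻¹ * (l * s * l⁻¹) = l * (s * s) * l⁻¹ := by group
      _ = 1 := by rw [hss]; group
  obtain ⟨o, ho, h7⟩ := Intrinsic.Lifting.exists_conj_eq (n := 1) (m := 1) (odd_card_core X)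
    (by rw [pow_one, pow_two]; exact h6) (by rw [pow_one, pow_two]; exact hff)
    (le_normalizer_core X (mul_mem (mul_mem hl hs) (inv_mem hl))) h5
  refine ⟨o * l, mul_mem (core_le X ho) hl, ?_⟩
  rw [← h7]
  group

/-- an involution of `X` commuting with the involution `x` normalizing `X` -/
theorem exists_inv34 {X : Subgroup G} (h34 : IsL34 (Bar X)) {x : G} (hxx : x * x = 1)
    (hx : x ∈ normalizer (X : Set G)) : ∃ e ∈ X, orderOf e = 2 ∧ e * x = x * e := by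
  have h2 : 2 ∣ Nat.card ↥X := by
    obtain ⟨A, hA, -, h16⟩ := exists_A h34
    exact (by rw [h16]; norm_num : 2 ∣ Nat.card ↥A).trans (card_dvd_of_le hA)
  obtain ⟨e, he, ho, hc⟩ := LTF.Basics.exists_inv (N := X) (isPGroup_of_el (el_zpowers hxx))
    (zpowers_le.mpr hx) h2
  exact ⟨e, he, ho, (hc x (mem_zpowers x)).symm⟩

/-- the data for (6) and (7) -/
structure Dat67 (x a t : G) (W H L : Subgroup G) : Prop where
  T : TT x a L
  F : Fn W a L
  eq : L ⊔ W = H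
  ot : orderOf t = 2
  ne : t ≠ a
  ta : t * a = a * t
  tx : t * x = x * t
  aK : a ∈ K0 W H
  tK : t ∈ K0 W H
  xM : x ∈ M0 W H
  S : Germ W H
  gd : ∀ u ∈ K0 W H, orderOf u = 2 → u * x = x * u → Gd x W H u

/-- **(6)** -/
def Six (W H : Subgroup G) (x a t : G) (L : Subgroup G) : Prop :=
  Dat67 x a t W H L → Fam W (orb W H) → (∃ X ∈ orb W H, X ≠ H) →
    (∀ X ∈ orb W H, X ≠ H → IntrinsicBasic.cj x X ≠ X) → False

/-- **(7)** -/
def Seven (W H : Subgroup G) (x a t : G) (L : Subgroup G) : Prop :=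
  Dat67 x a t W H L → (∀ m ∈ normalizer (W : Set G), IntrinsicBasic.cj m H = H) → False

variable {W L : Subgroup G} {x a t : G}

/-- **the single case** -/
theorem single (Wt : Typ G) (T3 : ThreeBal G) (ND : NoDbl W) (T : TT x a L) (F : Fn W a L)
    (ot : orderOf t = 2) (hne : t ≠ a) (hta : t * a = a * t) (htx : t * x = x * t) (htL : Fixes t L)
    (comm : ∀ m ∈ normalizer (W : Set G), cj m (L ⊔ W) = L ⊔ W ∨ ⁅L ⊔ W, cj m (L ⊔ W)⁆ ≤ W)
    (five : ∀ 𝓗, Many W 𝓗 → False) (six : Six W (L ⊔ W) x a t L) (seven : Seven W (L ⊔ W) x a t L) :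
    False := by
  obtain ⟨H, hH⟩ : ∃ H, H = L ⊔ W := ⟨_, rfl⟩
  have S : Germ W H := hH ▸ F.germ T3
  rw [← hH] at comm six seven
  have hgd : Gd x W H a := ⟨L, T, F, hH.symm⟩
  have D : Dat67 x a t W H L :=
    { T := T
      F := F
      eq := hH.symm
      ot := ot
      ne := hne
      ta := hta
      tx := htx
      aK := hgd.mem_K0 T3
      tK := mem_K0_of_fixes T3 F hH.symm hta htL
      xM := hgd.x_mem
      S := S
      gd := fun u hu ou hux => hgd.all Wt T3 ND hu ou hux }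
  by_cases h7 : ∀ m ∈ normalizer (W : Set G), IntrinsicBasic.cj m H = H
  · exact seven D h7
  push Not at h7
  obtain ⟨m, hm, hmH⟩ := h7
  have Fm := fam_orb S comm
  have h2 : ∃ X ∈ orb W H, X ≠ H := ⟨_, ⟨m, hm, rfl⟩, hmH⟩
  by_cases h6 : ∀ X ∈ orb W H, X ≠ H → IntrinsicBasic.cj x X ≠ X
  · exact six D Fm h2 h6
  push Not at h6
  obtain ⟨X, hX, hXH, hxX⟩ := h6
  obtain ⟨u, hu, ou, hux⟩ := exists_inv34 (Fm.germ X hX).l34 (sq_of_order T.invx)
    (mem_normalizer_iff_cj.mpr hxX)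
  have huK : u ∈ K0 W H := Fm.le_K0 mem_orb_self hX hXH hu
  have hfu : Fine W u := (D.gd u huK ou hux).fine
  refine five (orb W H) { toFam := Fm, two := ⟨X, hX, H, mem_orb_self, hXH⟩, fine := ?_ }
  intro Y hY s hs hss hs1
  obtain ⟨m₁, hm₁, h1⟩ := hX
  obtain ⟨m₂, hm₂, h3⟩ := hY
  -- `s ∈ Y`, `Y = X ^ (m₂ m₁⁻¹)`
  obtain ⟨g, hg⟩ : ∃ g, g = m₂ * m₁⁻¹ := ⟨_, rfl⟩
  have hgW : g ∈ normalizer (W : Set G) := by
    rw [hg]
    exact mul_mem hm₂ (inv_mem hm₁)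
  have hYX : Y = IntrinsicBasic.cj g X := by
    rw [h3, h1, hg, ← cj_mul]
    congr 1
    group
  have hgu : g * u * g⁻¹ ∈ Y := by
    rw [hYX]
    exact conj_mem_cj hu
  have hou : orderOf (g * u * g⁻¹) = 2 := by
    have := (MulAut.conj g).orderOf_eq u
    rw [MulAut.conj_apply] at this
    rw [this, ou]
  have hY' : Y ∈ orb W H := ⟨m₂, hm₂, h3⟩
  obtain ⟨l, hl, hls⟩ := inv_conj34 (Fm.germ Y hY').l34 hgu hs hou
    (orderOf_eq_prime (by rw [pow_two]; exact hss) hs1)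
  rw [← hls]
  exact (hfu.conj_mem hgW).conj_mem ((Fm.germ Y hY').nW hl)

end Cfsg.Agent.UGT.N2W.Entr
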