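import Cfsg.Agent.UGT.N2S.KF34
import Cfsg.Agent.UGT.LTF.Basics
import Cfsg.Agent.UGT.Res.KFacts

/-!
# UGT N2, cores: `O(C(x)) ∩ J` covers a `3²` of `J / O(J)`

`H ≤ G`, `x ∈ H` an involution, `J` a 2-component of `H` of type `L₃(4)`, some `d ∈ O(C(x)) ∩ H` does not centralize
`J / O(J)`.

* `inf_le_core_of`: `O(C(x)) ∩ H ≤ O(H ∩ C(x))`.
* `exists_lift_of`: `C_J(x)` covers `C_{J/O(J)}(x)`.
* `oddC_of`: the image of `O(C(x)) ∩ H` in `Aut(J / O(J))` is an `OddC`.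
* `mem_yim`: every `y ∈ J / O(J)` with `y³ = 1`, `y^x = y` is in the image of `J ∩ O(C(x))`.
* `nine_of`: `9 ≤ |image of J ∩ O(C(x))|`.
* `nine`: the same for a triple.
* `nine_up`: the image in `N / O(N)`, `J ≤ N`; `conj_mem_im`: it is contained in the `OddC` of `N`.
-/

set_option autoImplicit false
set_option linter.unusedSectionVars false

open Cfsg Subgroup
open Cfsg.Agent.SignalizersComponents Cfsg.Agent.Lib
open Cfsg.Agent.SignalizersComponents.IntrinsicBasic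
open Cfsg.Agent.SignalizersComponents.PLayerAut
open Cfsg.Agent.Intrinsic.Basic Cfsg.Agent.Intrinsic.Cen Cfsg.Agent.Intrinsic.Diag
open Cfsg.Agent.McLLyComp.Act
open Cfsg.Agent.UGT.Triple Cfsg.Agent.UGT.TriBase
open Cfsg.Agent.UGT.Iface (Bar IsL34)
open Cfsg.Agent.UGT.LTF.Defs
open scoped commutatorElement

namespace Cfsg.Agent.UGT.N2W.Nine

universe u

variable {G : Type u} [Group G] [Finite G]

/-- `O(C(x)) ∩ H ≤ O(H ∩ C(x))` -/
theorem inf_le_core_of {x d : G} {H : Subgroup G} (hd : d ∈ core (centralizer ({x} : Set G))) (hdH : d ∈ H) :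
    d ∈ core (H ⊓ centralizer ({x} : Set G)) := by
  have h1 : H ⊓ core (centralizer ({x} : Set G)) ≤ core (H ⊓ centralizer ({x} : Set G)) := by
    refine le_core (inf_le_inf_left H (core_le _)) ?_
      (Odd.of_dvd_nat (odd_card_core (centralizer ({x} : Set G))) (card_dvd_of_le inf_le_right))
    intro g hg
    have e1 : g ∈ normalizer (H : Set G) := le_normalizer hg.1
    have e2 : g ∈ normalizer (core (centralizer ({x} : Set G)) : Set G) := le_normalizer_core _ hg.2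
    rw [mem_normalizer_iff_cj] at e1 e2 ⊢
    rw [cj_inf, e1, e2]
  exact h1 ⟨hdH, hd⟩

/-- `O(C(x)) ∩ H` normalizes the 2-components of `H ∋ x` -/
theorem norm_of {x d : G} {H J : Subgroup G} (hJ : IsComp H J) (hx : orderOf x = 2) (hxH : x ∈ H)
    (hd : d ∈ core (centralizer ({x} : Set G))) (hdH : d ∈ H) : d ∈ normalizer (J : Set G) :=
  mem_normalizer hJ hxH hx (inf_le_core_of hd hdH)

/-- `x` normalizes `J` if `O(C(x)) ∩ H` moves it -/
theorem x_norm_of {x d : G} {H J : Subgroup G} (hJ : IsComp H J) (hx : orderOf x = 2) (hxH : x ∈ H)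
    (hd : d ∈ core (centralizer ({x} : Set G))) (hdH : d ∈ H) (hf : ¬ Fixes d J) :
    x ∈ normalizer (J : Set G) := (of_not_fixes hJ hxH hx (inf_le_core_of hd hdH) hf).1

/-- `C_J(x)` covers `C_{J/O(J)}(x)` -/
theorem exists_lift_of {x : G} {J : Subgroup G} (hx : orderOf x = 2) (hxJ : x ∈ normalizer (J : Set G)) {k : Bar J}
    (hk : act J ⟨x, hxJ⟩ k = k) : ∃ (c : G) (hc : c ∈ J), c * x = x * c ∧ QuotientGroup.mk ⟨c, hc⟩ = k := by
  obtain ⟨⟨c, hc⟩, rfl⟩ := QuotientGroup.mk_surjective k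
  rw [act_mk hxJ hc] at hk
  have h1 := (mk_eq_iff hc (conj_mem hxJ hc)).mp hk.symm
  obtain ⟨o, ho, hco⟩ := Intrinsic.Lifting.exists_commute (n := 1) (odd_card_core J)
    (by rw [pow_one, pow_two]; exact sq_of_order hx) (normalizer_le_normalizer_core J hxJ) h1
  have hoJ := core_le J ho
  refine ⟨c * o, mul_mem hc hoJ, hco.symm, ?_⟩
  rw [mk_eq_iff (mul_mem hc hoJ) hc]
  have : (c * o)⁻¹ * c = o⁻¹ := by group
  rw [this]
  exact inv_mem ho

/-- the image of `O(C(x)) ∩ H` in `Aut(J / O(J))` -/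
noncomputable def im (x : G) (H J : Subgroup G) : Subgroup (MulAut (Bar J)) :=
  ((core (centralizer ({x} : Set G)) ⊓ H).subgroupOf (normalizer (J : Set G))).map (act J)

theorem mem_im {x : G} {H J : Subgroup G} {e : MulAut (Bar J)} : e ∈ im x H J ↔
    ∃ d, ∃ hd : d ∈ normalizer (J : Set G), d ∈ core (centralizer ({x} : Set G)) ∧ d ∈ H ∧
      act J ⟨d, hd⟩ = e := by
  constructor
  · rintro ⟨⟨d, hd⟩, h, rfl⟩
    exact ⟨d, hd, h.1, h.2, rfl⟩
  · rintro ⟨d, hd, h1, h2, rfl⟩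
    exact ⟨⟨d, hd⟩, ⟨h1, h2⟩, rfl⟩

theorem act_sq' {x : G} {J : Subgroup G} (hx : orderOf x = 2) (hxJ : x ∈ normalizer (J : Set G)) :
    act J ⟨x, hxJ⟩ * act J ⟨x, hxJ⟩ = 1 := by
  rw [← act_mul hxJ hxJ, act_eq_one_iff]
  rw [sq_of_order hx]
  exact fixes_one J

theorem oddC_of {x : G} {H J : Subgroup G} (hJH : J ≤ H) (hx : orderOf x = 2) (hxJ : x ∈ normalizer (J : Set G)) :
    OddC (act J ⟨x, hxJ⟩) (im x H J) := by
  refine ⟨?_, ?_, ?_⟩
  · refine Odd.of_dvd_nat ?_ (card_map_dvd _ _)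
    refine Odd.of_dvd_nat (odd_card_core (centralizer ({x} : Set G))) ?_
    have h1 := card_comap_dvd_of_injective (core (centralizer ({x} : Set G)) ⊓ H)
      (normalizer (J : Set G)).subtype (subtype_injective _)
    exact h1.trans (card_dvd_of_le inf_le_left)
  · intro e he
    obtain ⟨d, hd, h1, h2, rfl⟩ := mem_im.mp he
    rw [← act_mul, ← act_mul]
    apply act_congr
    exact comm_c (core_le _ h1)
  · intro l hl e he
    obtain ⟨d, hd, h1, h2, rfl⟩ := mem_im.mp he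
    obtain ⟨m, hm, hmx, rfl⟩ := exists_lift_of hx hxJ hl
    rw [← act_of_mem hm, ← act_mul, ← act_inv, ← act_mul]
    refine mem_im.mpr ⟨m * d * m⁻¹, _, ?_, ?_, rfl⟩
    · exact conj_core (mem_c hmx) h1
    · exact mul_mem (mul_mem (hJH hm) h2) (inv_mem (hJH hm))

/-- the image of `J ∩ O(C(x))` in `J / O(J)` -/
noncomputable def yim (x : G) (J : Subgroup G) : Subgroup (Bar J) :=
  ((J ⊓ core (centralizer ({x} : Set G))).subgroupOf J).map (QuotientGroup.mk' (oddCore ↥J))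

theorem mem_yim {x : G} {J : Subgroup G} {k : Bar J} : k ∈ yim x J ↔
    ∃ y, ∃ hy : y ∈ J, y ∈ core (centralizer ({x} : Set G)) ∧ QuotientGroup.mk ⟨y, hy⟩ = k := by
  constructor
  · rintro ⟨⟨d, hd⟩, h, rfl⟩
    exact ⟨d, hd, h.2, rfl⟩
  · rintro ⟨d, hd, h, rfl⟩
    exact ⟨⟨d, hd⟩, ⟨hd, h⟩, rfl⟩

theorem yim_conj {x : G} {J : Subgroup G} (hx : orderOf x = 2) (hxJ : x ∈ normalizer (J : Set G)) {k r : Bar J}
    (hr : act J ⟨x, hxJ⟩ r = r) (hk : k ∈ yim x J) : r * k * r⁻¹ ∈ yim x J := by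
  obtain ⟨y, hy, hyc, rfl⟩ := mem_yim.mp hk
  obtain ⟨m, hm, hmx, rfl⟩ := exists_lift_of hx hxJ hr
  refine mem_yim.mpr ⟨m * y * m⁻¹, mul_mem (mul_mem hm hy) (inv_mem hm), conj_core (mem_c hmx) hyc, rfl⟩

section main

variable {x d : G} {H J : Subgroup G}

/-- every `y` of order 3 centralized by `x` is in the image of `J ∩ O(C(x))` -/
theorem mem_yim_of (hJ : IsComp H J) (hx : orderOf x = 2) (hxH : x ∈ H) (h34 : IsL34 (Bar J))
    (hd : d ∈ core (centralizer ({x} : Set G))) (hdH : d ∈ H) (hf : ¬ Fixes d J) (hxJ : x ∈ normalizer (J : Set G)) :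
    FT (act J ⟨x, hxJ⟩) ∧ ∀ z : Bar J, z ^ 3 = 1 → act J ⟨x, hxJ⟩ z = z → z ∈ yim x J := by
  obtain ⟨ξ, hξ⟩ : ∃ ξ, ξ = act J ⟨x, hxJ⟩ := ⟨_, rfl⟩
  have hdJ := norm_of hJ hx hxH hd hdH
  have hO := oddC_of (H := H) hJ.le hx hxJ
  have he : act J ⟨d, hdJ⟩ ∈ im x H J := mem_im.mpr ⟨d, hdJ, hd, hdH, rfl⟩
  have hne : im x H J ≠ ⊥ := by
    intro h
    rw [h, mem_bot, act_eq_one_iff] at he
    exact hf he
  obtain ⟨F, F3⟩ := N2S.k34 _ h34 _ (act_sq' hx hxJ) _ hO hne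
  refine ⟨F, ?_⟩
  obtain ⟨y, hy, hy3, hyx⟩ := F.core _ hO _ he
  have hy1 : y ≠ 1 := by
    rintro rfl
    rw [map_one, act_eq_one_iff] at hy
    exact hf hy
  obtain ⟨s, hs1, hs2, hs3⟩ := F3.exs
  have hinv := F.inv s y hs1 hs2 hs3 hy3 hyx
  -- `y² ∈ yim`
  have hy2 : y * y ∈ yim x J := by
    obtain ⟨b, hb, hbx, rfl⟩ := exists_lift_of hx hxJ hs3
    have h1 : d * b * d⁻¹ ∈ J := conj_mem hdJ hb
    refine mem_yim.mpr ⟨d * b * d⁻¹ * b⁻¹, mul_mem h1 (inv_mem hb), ?_, ?_⟩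
    · have e : d * b * d⁻¹ * b⁻¹ = d * (b * d⁻¹ * b⁻¹) := by group
      rw [e]
      exact mul_mem hd (conj_core (mem_c hbx) (inv_mem hd))
    · obtain ⟨β, hβ⟩ : ∃ β : Bar J, β = QuotientGroup.mk ⟨b, hb⟩ := ⟨_, rfl⟩
      have h2 : (QuotientGroup.mk (⟨d * b * d⁻¹ * b⁻¹, mul_mem h1 (inv_mem hb)⟩ : ↥J) : Bar J) =
          act J ⟨d, hdJ⟩ (QuotientGroup.mk ⟨b, hb⟩) * (QuotientGroup.mk ⟨b, hb⟩)⁻¹ := by
        rw [act_mk hdJ hb]
        rfl
      rw [h2, hy, MulAut.conj_apply, ← hβ]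
      rw [← hβ] at hinv
      calc y * β * y⁻¹ * β⁻¹ = y * (β * y * β⁻¹)⁻¹ := by group
        _ = y * y := by rw [hinv, inv_inv]
  have hyy : y ∈ yim x J := by
    have h1 := mul_mem hy2 hy2
    have h2 : y * y * (y * y) = y := by
      calc y * y * (y * y) = y ^ 3 * y := by simp only [pow_succ, pow_zero, one_mul, mul_assoc]
        _ = y := by rw [hy3, one_mul]
    rwa [h2] at h1
  intro z hz3 hzx
  have h1 := F.irr y z hy3 hy1 hyx hz3 hzx
  have h2 : closure {w : Bar J | ∃ r, act J ⟨x, hxJ⟩ r = r ∧ w = r * y * r⁻¹} ≤ yim x J := by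
    rw [closure_le]
    rintro _ ⟨r, hr, rfl⟩
    exact yim_conj hx hxJ hr hyy
  exact h2 h1

/-- **`9 ≤ |image of J ∩ O(C(x))|`** -/
theorem nine_of (hJ : IsComp H J) (hx : orderOf x = 2) (hxH : x ∈ H) (h34 : IsL34 (Bar J))
    (hd : d ∈ core (centralizer ({x} : Set G))) (hdH : d ∈ H) (hf : ¬ Fixes d J) : 9 ≤ Nat.card ↥(yim x J) := by
  have hxJ := x_norm_of hJ hx hxH hd hdH hf
  obtain ⟨F, h⟩ := mem_yim_of hJ hx hxH h34 hd hdH hf hxJ
  obtain ⟨Y, hY, hYm⟩ := F.nine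
  rw [← hY]
  exact Subgroup.card_le_of_le fun y hy => h y ((hYm y).mp hy).1 ((hYm y).mp hy).2

/-- the image of `E` in `J / O(J)` -/
noncomputable def imE (E J : Subgroup G) : Subgroup (Bar J) :=
  (E.subgroupOf J).map (QuotientGroup.mk' (oddCore ↥J))

theorem exists_of (hJ : IsComp H J) (hx : orderOf x = 2) (hxH : x ∈ H) (h34 : IsL34 (Bar J))
    (hd : d ∈ core (centralizer ({x} : Set G))) (hdH : d ∈ H) (hf : ¬ Fixes d J) :
    ∃ E ≤ J, E ≤ core (centralizer ({x} : Set G)) ∧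
      9 ≤ Nat.card ↥((E.subgroupOf J).map (QuotientGroup.mk' (oddCore ↥J))) :=
  ⟨J ⊓ core (centralizer ({x} : Set G)), inf_le_left, inf_le_right, nine_of hJ hx hxH h34 hd hdH hf⟩

end main

/-- **(nine)** `O(C(x)) ∩ L` covers a `3²` of `L / O(L)` for a triple `(x, a, L)` of type `L₃(4)` -/
theorem nine {x a : G} {L : Subgroup G} (T : IsTriple x a L) (h : IsL34 (Bar L)) :
    ∃ E ≤ L, E ≤ core (centralizer ({x} : Set G)) ∧
      9 ≤ Nat.card ↥((E.subgroupOf L).map (QuotientGroup.mk' (oddCore ↥L))) := by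
  obtain ⟨d, hd, hda, hf⟩ := T.bad
  exact exists_of T.comp T.invx (mem_c T.comm.symm) h hd hda hf

/-! ### the image in `N / O(N)` -/

section up

variable {E J N : Subgroup G}

/-- the image of `E ≤ J ≤ N` in `N / O(N)` is at least as large as the image in `J / O(J)` -/
theorem card_up (hE : E ≤ J) (hJN : J ≤ N) :
    Nat.card ↥((E.subgroupOf J).map (QuotientGroup.mk' (oddCore ↥J))) ∣
      Nat.card ↥((E.subgroupOf N).map (QuotientGroup.mk' (oddCore ↥N))) := by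
  obtain ⟨f, hf⟩ : ∃ f : ↥E →* Bar J, f = (QuotientGroup.mk' (oddCore ↥J)).comp (inclusion hE) := ⟨_, rfl⟩
  obtain ⟨g, hg⟩ : ∃ g : ↥E →* Bar N, g = (QuotientGroup.mk' (oddCore ↥N)).comp (inclusion (hE.trans hJN)) :=
    ⟨_, rfl⟩
  have hfr : (E.subgroupOf J).map (QuotientGroup.mk' (oddCore ↥J)) = f.range := by
    ext k
    constructor
    · rintro ⟨⟨d, hd⟩, h, rfl⟩
      exact ⟨⟨d, h⟩, by rw [hf]; rfl⟩
    · rintro ⟨⟨d, hd⟩, rfl⟩
      exact ⟨⟨d, hE hd⟩, hd, by rw [hf]; rfl⟩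
  have hgr : (E.subgroupOf N).map (QuotientGroup.mk' (oddCore ↥N)) = g.range := by
    ext k
    constructor
    · rintro ⟨⟨d, hd⟩, h, rfl⟩
      exact ⟨⟨d, h⟩, by rw [hg]; rfl⟩
    · rintro ⟨⟨d, hd⟩, rfl⟩
      exact ⟨⟨d, hJN (hE hd)⟩, hd, by rw [hg]; rfl⟩
  have hcore : J ⊓ core N ≤ core J := by
    refine le_core inf_le_left ?_ (Odd.of_dvd_nat (odd_card_core N) (card_dvd_of_le inf_le_right))
    intro k hk
    have e1 : k ∈ normalizer (core N : Set G) := le_normalizer_core _ (hJN hk)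
    have e2 := le_normalizer (H := J) hk
    rw [mem_normalizer_iff_cj] at e1 e2 ⊢
    rw [cj_inf, e1, e2]
  have hker : g.ker ≤ f.ker := by
    rintro ⟨d, hd⟩ h
    rw [MonoidHom.mem_ker, hg] at h
    rw [MonoidHom.mem_ker, hf]
    have h1 : (QuotientGroup.mk (⟨d, hJN (hE hd)⟩ : ↥N) : Bar N) = 1 := h
    change (QuotientGroup.mk (⟨d, hE hd⟩ : ↥J) : Bar J) = 1
    rw [mk_eq_one_iff] at h1 ⊢
    exact hcore ⟨hE hd, h1⟩
  rw [hfr, hgr, ← Subgroup.index_ker, ← Subgroup.index_ker]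
  exact Subgroup.index_dvd_of_le hker

theorem nine_up (hE : E ≤ J) (hJN : J ≤ N)
    (h9 : 9 ≤ Nat.card ↥((E.subgroupOf J).map (QuotientGroup.mk' (oddCore ↥J)))) :
    9 ≤ Nat.card ↥((E.subgroupOf N).map (QuotientGroup.mk' (oddCore ↥N))) :=
  h9.trans (Nat.le_of_dvd Nat.card_pos (card_up hE hJN))

/-- the image of `E ≤ N ∩ O(C(x))` consists of elements of the `OddC` of `N`, `N` a 2-component of `M` -/
theorem conj_mem_im {x : G} {M : Subgroup G} (hNM : N ≤ M) (hEx : E ≤ core (centralizer ({x} : Set G)))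
    {k : Bar N} (hk : k ∈ (E.subgroupOf N).map (QuotientGroup.mk' (oddCore ↥N))) :
    MulAut.conj k ∈ im x M N := by
  obtain ⟨⟨d, hd⟩, h, rfl⟩ := hk
  refine mem_im.mpr ⟨d, le_normalizer hd, hEx h, hNM hd, ?_⟩
  rw [act_of_mem hd]
  rfl

end up

end Cfsg.Agent.UGT.N2W.Nine
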