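import Cfsg.Agent.UGT.N2W.Germ
import Cfsg.Agent.UGT.N2W.LU
import Cfsg.Agent.UGT.N2W.Nine
import Cfsg.Agent.UGT.Res.WEnd
import Cfsg.Agent.UGT.Res.WMany.Fam

/-!
# UGT N2, cores: `x` does not move all members but `H` (#17697 (6))

`Fam W (orb W H)`, at least two members, `x ∈ M0 W H` an involution acting on `H / O(H)` with sign `-1`.

* `exists_U`: if `x` moves the member `Y`, then `x` lies in an elementary abelian subgroup of order 64 of `M0 W H`.
* `false_of_sign`: `x` normalizes a member `≠ H`.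
* `false_of_triple`: the same for a triple `(x, a, L)` of type `L₃(4)`, `L ⊔ W = H`.
-/

set_option autoImplicit false
set_option linter.unusedSectionVars false

open Cfsg Subgroup
open Cfsg.Agent.SignalizersComponents Cfsg.Agent.Lib
open Cfsg.Agent.SignalizersComponents.IntrinsicBasic
open Cfsg.Agent.SignalizersComponents.PLayerAut
open Cfsg.Agent.Intrinsic.Basic Cfsg.Agent.Intrinsic.Cen Cfsg.Agent.Intrinsic.Diag
open Cfsg.Agent.McLLyComp.Act
open Cfsg.Agent.UGT.Triple Cfsg.Agent.UGT.PumpGen Cfsg.Agent.UGT.TriBase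
open Cfsg.Agent.UGT.Iface (IsL34)
open Cfsg.Agent.UGT.Res.Base Cfsg.Agent.UGT.Res.Abel Cfsg.Agent.UGT.Res.CoreFree
open Cfsg.Agent.UGT.Res.WFun (el_of_sq el_mono el_sup el_cj el_zpowers mem_zpowers_of_sq mem_zpowers_sup
  two_mul_card_le card_mul_le_sup exists_commuting)
open Cfsg.Agent.UGT.Res.WPair (M0 K0 mem_M0 mem_K0 K0_le M0_le_normalizer cj_M0 cj_K0 cj_normalizer cj_sup
  cj_commutator cj_le_iff fixes_of_mem_core comm_sup_le mem_sup_left_iff card_sup_mul)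
open Cfsg.Agent.UGT.Res.WMany (eq_one_of_two_odd eq_one_of_sq_odd card_sup_zpowers sq_sup_zpowers comm_of_K0)
open Cfsg.Agent.UGT.LTF.Defs
open scoped commutatorElement

namespace Cfsg.Agent.UGT.N2W.Moved

open Fun

universe u

variable {G : Type u} [Group G] [Finite G] {W H : Subgroup G}

/-- different members act trivially on each other -/
theorem le_K0 {𝓗 : Set (Subgroup G)} (F : Fam W 𝓗) {X Y : Subgroup G} (hX : X ∈ 𝓗) (hY : Y ∈ 𝓗) (hne : Y ≠ X) :
    Y ≤ K0 W X := by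
  have h1 := F.comm Y hY X hX hne
  have hWX : W ≤ X := (F.germ X hX).W_le
  have key : ∀ y ∈ Y, ∀ x ∈ X, ⁅y, x⁆ ∈ W := fun y hy x hx => h1 (commutator_mem_commutator hy hx)
  have hn : ∀ y ∈ Y, ∀ x ∈ X, y * x * y⁻¹ ∈ X := by
    intro y hy x hx
    have h2 : y * x * y⁻¹ = ⁅y, x⁆ * x := by
      rw [commutatorElement_def]
      group
    rw [h2]
    exact mul_mem (hWX (key y hy x hx)) hx
  have hN : Y ≤ normalizer (X : Set G) := by
    intro y hy
    rw [mem_normalizer_iff]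
    refine fun x => ⟨hn y hy x, fun h => ?_⟩
    have h2 := hn _ (inv_mem hy) _ h
    have h3 : y⁻¹ * (y * x * y⁻¹) * y⁻¹⁻¹ = x := by group
    rwa [h3] at h2
  intro y hy
  exact ⟨⟨(F.germ Y hY).nW hy, hN hy⟩, hN hy, fun x hx => (F.germ X hX).Wc (key y hy x hx)⟩

theorem le_norm {𝓗 : Set (Subgroup G)} (F : Fam W 𝓗) {X Y : Subgroup G} (hX : X ∈ 𝓗) (hY : Y ∈ 𝓗) :
    Y ≤ normalizer (X : Set G) := by
  by_cases h : Y = X
  · rw [h]
    exact Subgroup.le_normalizer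
  · exact fun y hy => (le_K0 F hX hY h hy).1.2

/-- an elementary abelian group of order 16 in a Sylow subgroup -/
theorem exists_e16 {P : Subgroup G} (h34 : IsL34 (Iface.Bar H)) (hP : IsSyl H P) :
    ∃ A ≤ P, Nat.card ↥A = 16 ∧ ∀ a ∈ A, a * a = 1 := by
  obtain ⟨A, hA, h16, hsq, -⟩ := LU.exists_lu (H := H) (U := ⊥) h34 (fun u hu => by
    rw [mem_bot.mp hu, mul_one]) bot_le
  obtain ⟨g, hg, h4⟩ := hP.conj (isPGroup_of_el (el_of_sq hsq)) hA
  exact ⟨cj g⁻¹ A, cj_le_iff.mp h4, (card_cj _ A).trans h16, fun v hv => sq_of_el (el_cj (el_of_sq hsq) _) hv⟩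

/-- **a subgroup of order 64** -/
theorem exists_U {𝓗 : Set (Subgroup G)} (F : Fam W 𝓗) {Y : Subgroup G} (hH : H ∈ 𝓗) (hY : Y ∈ 𝓗) {x : G}
    (xx : x * x = 1) (hx : x ∈ M0 W H) (hm : cj x Y ≠ Y) :
    ∃ U ≤ M0 W H, (∀ u ∈ U, u * u = 1) ∧ 64 ≤ Nat.card ↥U ∧ x ∈ U := by
  have hxH : cj x H = H := mem_normalizer_iff_cj.mp hx.2
  have hYH : Y ≠ H := by
    rintro rfl
    exact hm hxH
  obtain ⟨Z, hZ⟩ : ∃ Z, Z = cj x Y := ⟨_, rfl⟩
  have hZm : Z ∈ 𝓗 := hZ ▸ F.conj x hx.1 Y hY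
  have hZY : Z ≠ Y := hZ ▸ hm
  have hxZ : cj x Z = Y := by
    rw [hZ, ← cj_mul, xx, cj_one]
  have hZH : Z ≠ H := by
    rintro rfl
    apply hYH
    rw [← hxZ, hxH]
  obtain ⟨S, hS⟩ : ∃ S, S = H ⊔ Y ⊔ Z := ⟨_, rfl⟩
  have hHS : H ≤ S := hS ▸ le_sup_left.trans le_sup_left
  have hYS : Y ≤ S := hS ▸ le_sup_right.trans le_sup_left
  have hZS : Z ≤ S := hS ▸ le_sup_right
  have hSH : S ≤ normalizer (H : Set G) := by
    rw [hS]
    exact sup_le (sup_le (le_norm F hH hH) (le_norm F hH hY)) (le_norm F hH hZm)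
  have hSY : S ≤ normalizer (Y : Set G) := by
    rw [hS]
    exact sup_le (sup_le (le_norm F hY hH) (le_norm F hY hY)) (le_norm F hY hZm)
  have hxS : x ∈ normalizer (S : Set G) := by
    rw [mem_normalizer_iff_cj, hS, cj_sup, cj_sup, hxH, hxZ, ← hZ, sup_assoc, sup_assoc, sup_comm Z Y]
  obtain ⟨R, hR, hxR'⟩ := exists_isSyl (E := S ⊔ zpowers x) (isPGroup_of_el (el_zpowers xx)) le_sup_right
  have hxR : x ∈ R := hxR' (mem_zpowers x)
  have hEH : S ⊔ zpowers x ≤ normalizer (H : Set G) := sup_le hSH (zpowers_le.mpr hx.2)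
  have hES : S ⊔ zpowers x ≤ normalizer (S : Set G) := sup_le le_normalizer (zpowers_le.mpr hxS)
  have hPH : IsSyl H (R ⊓ H) := hR.inf (hHS.trans le_sup_left) hEH
  have hPY : IsSyl Y (R ⊓ Y) := by
    have h1 := (hR.inf le_sup_left hES).inf hYS hSY
    rwa [inf_assoc, inf_of_le_right hYS] at h1
  -- the involution `b`
  obtain ⟨A', hA', hA'16, -⟩ := exists_e16 (F.germ H hH).l34 hPH
  have hne : R ⊓ H ≠ ⊥ := by
    intro h
    rw [h, le_bot_iff] at hA'
    rw [hA', card_bot] at hA'16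
    omega
  have hRn : R ≤ normalizer ((R ⊓ H : Subgroup G) : Set G) := by
    intro r hr
    rw [mem_normalizer_iff_cj, cj_inf, cj_eq_self_of_mem hr, mem_normalizer_iff_cj.mp (hEH (hR.le hr))]
  obtain ⟨b, hb, hbo, hbc⟩ := exists_central hR.two inf_le_left hRn hne
  have hbb := sq_of_order hbo
  have hb1 := ne_one_of_order hbo
  -- the diagonal
  obtain ⟨A, hA, hA16, hA2⟩ := exists_e16 (F.germ Y hY).l34 hPY
  have hAR : ∀ a ∈ A, a ∈ R := fun a ha => (hA ha).1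
  have hAY : ∀ a ∈ A, a ∈ Y := fun a ha => (hA ha).2
  have hcR : ∀ a ∈ A, x * a * x⁻¹ ∈ R := fun a ha => mul_mem (mul_mem hxR (hAR a ha)) (inv_mem hxR)
  have hcZ : ∀ a ∈ A, x * a * x⁻¹ ∈ Z := fun a ha => by
    rw [hZ]
    exact conj_mem_cj (hAY a ha)
  have hcom : ∀ a ∈ A, ∀ c ∈ A, (x * a * x⁻¹) * c = c * (x * a * x⁻¹) := fun a ha c hc =>
    comm_of_K0 hR.two (hcR a ha) (le_K0 F hY hZm hZY (hcZ a ha)) (hAR c hc) (hAY c hc)
  let δ : ↥A →* G :=
    { toFun := fun a => a * (x * a * x⁻¹)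
      map_one' := by simp
      map_mul' := fun a c => by
        change (a : G) * c * (x * (a * c) * x⁻¹) = a * (x * a * x⁻¹) * (c * (x * c * x⁻¹))
        calc (a : G) * c * (x * (a * c) * x⁻¹) = a * (c * (x * a * x⁻¹)) * (x * c * x⁻¹) := by group
          _ = a * ((x * a * x⁻¹) * c) * (x * c * x⁻¹) := by rw [hcom a a.2 c c.2]
          _ = _ := by group }
  have hδ : ∀ a : ↥A, δ a = a * (x * a * x⁻¹) := fun a => rfl
  have hinj : Function.Injective δ := by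
    rw [injective_iff_map_eq_one]
    rintro ⟨a, ha⟩ h
    rw [hδ] at h
    have h1 : a = (x * a * x⁻¹)⁻¹ := eq_inv_of_mul_eq_one_left h
    have h2 : a ∈ K0 W Y := by
      rw [h1]
      exact inv_mem (le_K0 F hY hZm hZY (hcZ a ha))
    exact Subtype.ext ((F.germ Y hY).eq_one_of (hAY a ha) (hA2 a ha) h2)
  obtain ⟨D, hD⟩ : ∃ D, D = δ.range := ⟨_, rfl⟩
  have hDmem : ∀ d ∈ D, ∃ a ∈ A, d = a * (x * a * x⁻¹) := by
    intro d hd
    rw [hD] at hd
    obtain ⟨a, rfl⟩ := hd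
    exact ⟨a, a.2, rfl⟩
  have hD16 : Nat.card ↥D = 16 := by
    rw [hD, ← Nat.card_congr (MonoidHom.ofInjective hinj).toEquiv, hA16]
  have hDR : D ≤ R := by
    intro d hd
    obtain ⟨a, ha, rfl⟩ := hDmem d hd
    exact mul_mem (hAR a ha) (hcR a ha)
  have hD2 : ∀ d ∈ D, d * d = 1 := by
    intro d hd
    obtain ⟨a, ha, rfl⟩ := hDmem d hd
    have h1 := hcom a ha a ha
    calc a * (x * a * x⁻¹) * (a * (x * a * x⁻¹)) = a * ((x * a * x⁻¹) * a) * (x * a * x⁻¹) := by group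
      _ = (a * a) * (x * (a * a) * x⁻¹) := by rw [h1]; group
      _ = 1 := by rw [hA2 a ha]; group
  have hDx : ∀ d ∈ D, d * x = x * d := by
    intro d hd
    obtain ⟨a, ha, rfl⟩ := hDmem d hd
    have hxi : x⁻¹ = x := inv_eq_of_mul_eq_one_right xx
    have h1 := hcom a ha a ha
    calc a * (x * a * x⁻¹) * x = a * (x * a * x⁻¹) * x := rfl
      _ = (x * a * x⁻¹) * a * x := by rw [h1]
      _ = x * (a * (x * a * x)) := by rw [hxi]; group
      _ = x * (a * (x * a * x⁻¹)) := by rw [hxi]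
  have hDK : D ≤ K0 W H := by
    intro d hd
    obtain ⟨a, ha, rfl⟩ := hDmem d hd
    exact mul_mem (le_K0 F hH hY hYH (hAY a ha)) (le_K0 F hH hZm hZH (hcZ a ha))
  have hDS : D ≤ S := by
    intro d hd
    obtain ⟨a, ha, rfl⟩ := hDmem d hd
    exact mul_mem (hYS (hAY a ha)) (hZS (hcZ a ha))
  have hbD : b ∉ D := fun h => hb1 ((F.germ H hH).eq_one_of hb.2 hbb (hDK h))
  have hxD : x ∉ D ⊔ zpowers b := by
    intro h
    have h1 : D ⊔ zpowers b ≤ normalizer (Y : Set G) :=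
      (sup_le hDS (zpowers_le.mpr (hHS hb.2))).trans hSY
    exact hm (mem_normalizer_iff_cj.mp (h1 h))
  have hV2 := sq_sup_zpowers hD2 hbb fun d hd => hbc d (hDR hd)
  have hVx : ∀ v ∈ D ⊔ zpowers b, v * x = x * v := by
    intro v hv
    have h1 : D ⊔ zpowers b ≤ centralizer ({x} : Set G) := by
      refine sup_le (fun d hd => mem_centralizer_singleton_iff.mpr (hDx d hd)) (zpowers_le.mpr ?_)
      exact mem_centralizer_singleton_iff.mpr (hbc x hxR).symm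
    exact mem_centralizer_singleton_iff.mp (h1 hv)
  refine ⟨D ⊔ zpowers b ⊔ zpowers x, ?_, sq_sup_zpowers hV2 xx hVx, ?_, mem_sup_right (mem_zpowers x)⟩
  · exact sup_le (sup_le (hDK.trans K0_le) (zpowers_le.mpr ((F.germ H hH).le_M0 hb.2))) (zpowers_le.mpr hx)
  · have h1 := card_sup_zpowers hbD
    have h2 := card_sup_zpowers hxD
    omega

/-- **(6)** -/
theorem false_of_sign (T : ThreeBal G) (hG : Parity.NoSign G) (F : Fam W (orb W H))
    (two : ∃ X ∈ orb W H, X ≠ H) {x : G} (xx : x * x = 1) (hx : x ∈ M0 W H)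
    (hmv : ∀ X ∈ orb W H, X ≠ H → cj x X ≠ X) (χ : MulAut (Iface.Bar H) →* ℤˣ)
    (hχ : χ (act H ⟨x, hx.2⟩) = -1) : False := by
  have hH : H ∈ orb W H := mem_orb_self
  obtain ⟨Y, hY, hYH⟩ := two
  obtain ⟨U, hU, hU2, h64, hxU⟩ := exists_U F hH hY xx hx (hmv Y hY hYH)
  have hUe := el_of_sq hU2
  have hWU : Wd U = W := LU.lu' T (F.germ H hH).wa (F.germ H hH).l34 hUe (fun u hu => (hU hu).2) h64
  let lam : ↥(M0 W H) →* ℤˣ := χ.comp ((act H).comp (inclusion inf_le_right))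
  refine Res.WEnd.false_of hG (M0 W H) lam U hx xx hχ (isPGroup_of_el hUe) ?_ hU ?_
  · intro u hu
    exact mem_centralizer_singleton_iff.mpr (comm_of_el hUe hu hxU)
  · intro g hg _ _
    have hV : cj g⁻¹ U ≤ M0 W H := by
      intro v hv
      rw [mem_cj] at hv
      have h1 := hg _ hv
      have h2 : g⁻¹ * (g⁻¹⁻¹ * v * g⁻¹) * g⁻¹⁻¹ = v := by group
      have h3 : g⁻¹ * (g⁻¹⁻¹ * v * g⁻¹) * g = v := by group
      rwa [h3] at h1
    have hWV : Wd (cj g⁻¹ U) = W := LU.lu' T (F.germ H hH).wa (F.germ H hH).l34 (el_cj hUe _)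
      (fun u hu => (hV hu).2) (by rw [show Nat.card ↥(cj g⁻¹ U) = _ from card_cj _ U]; exact h64)
    have hgW : g ∈ normalizer (W : Set G) := by
      have h1 : cj g⁻¹ W = W := by rw [← hWU, cj_Wd, hWV, hWU]
      have h2 := mem_normalizer_iff_cj.mpr h1
      have h3 := inv_mem h2
      rwa [inv_inv] at h3
    refine ⟨hgW, ?_⟩
    have h1 : cj g H ∈ orb W H := ⟨g, hgW, rfl⟩
    have h2 : cj x (cj g H) = cj g H := by
      have h3 : g⁻¹ * x * g ∈ normalizer (H : Set G) := (hg x hxU).2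
      have h4 := congrArg (cj g) (mem_normalizer_iff_cj.mp h3)
      rw [← cj_mul] at h4 ⊢
      have h5 : g * (g⁻¹ * x * g) = x * g := by group
      rw [h5] at h4
      exact h4
    by_contra hne
    exact hmv _ h1 (fun h => hne (mem_normalizer_iff_cj.mpr h)) h2

/-- the action of `x` on `H / O(H)` is a unitary polarity -/
theorem exists_ft (h34 : IsL34 (Iface.Bar H)) {x a : G} {L : Subgroup G} (S : IsTriple x a L)
    (hL : IsL34 (Iface.Bar L)) (hLH : L ≤ H) (hx : x ∈ normalizer (H : Set G)) : FT (act H ⟨x, hx⟩) := by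
  obtain ⟨Dd⟩ := LSup.exists_dat h34
  obtain ⟨E, hEL, hEx, h9⟩ := Nine.nine S hL
  have h10 := Nine.nine_up hEL hLH h9
  refine (N2S.k34 _ h34 _ (Nine.act_sq' S.invx hx) _ (Nine.oddC_of (H := H) le_rfl S.invx hx) ?_).1
  intro hbot
  have h11 : (E.subgroupOf H).map (QuotientGroup.mk' (oddCore ↥H)) = ⊥ := by
    rw [eq_bot_iff]
    intro k hk
    have h1 := Nine.conj_mem_im (x := x) (M := H) le_rfl hEx hk
    rw [hbot, mem_bot] at h1
    rw [mem_bot]
    apply Dd.conj_injective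
    rw [h1, map_one]
  rw [h11, card_bot] at h10
  omega

/-- **(6)**, for a triple -/
theorem false_of_triple (T : ThreeBal G) (hG : Parity.NoSign G) (F : Fam W (orb W H))
    (two : ∃ X ∈ orb W H, X ≠ H) {x a : G} {L : Subgroup G} (S : IsTriple x a L) (hL : IsL34 (Iface.Bar L))
    (hLH : L ≤ H) (hx : x ∈ M0 W H) (hmv : ∀ X ∈ orb W H, X ≠ H → cj x X ≠ X) : False := by
  obtain ⟨χ, hχ⟩ := (exists_ft (F.germ H mem_orb_self).l34 S hL hLH hx.2).chi0
  exact false_of_sign T hG F two (sq_of_order S.invx) hx hmv χ hχ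

end Cfsg.Agent.UGT.N2W.Moved
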