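import Cfsg.Agent.UGT.N2W.Cover
import Cfsg.Agent.UGT.N2S.Base
import Cfsg.Agent.UGT.LTF.Basics
import Cfsg.Agent.UGT.Res.KFacts
import Cfsg.Agent.UGT.Res.WEnd

/-!
# One germ of type `L₃(4)` (N2, cores, bb #17697 (7))

* `sF_sup`, `sF_cj`: transport of the field character.
* `sF_triple`: `x` has field character `-1` on `L` for a triple `(x, a, L)` of type `L₃(4)`.
* `sF_germ`: the same on the germ `L ⊔ W`.
* `false_of`: **(7)** `G` has no subgroup of index 2, `H` normal in `N(W)`, `x ∈ N(W)` an involution of field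
  character `-1` on `H`, a four-group of `K0 W H` commuting with `x`, all its involutions fine ⟹ `False`.
-/

set_option autoImplicit false
set_option linter.unusedSectionVars false

open Cfsg Subgroup
open Cfsg.Agent.SignalizersComponents Cfsg.Agent.Lib
open Cfsg.Agent.SignalizersComponents.IntrinsicBasic
open Cfsg.Agent.Intrinsic.Basic Cfsg.Agent.Intrinsic.Cen Cfsg.Agent.Intrinsic.Diag
open Cfsg.Agent.McLLyComp.Act
open Cfsg.Agent.UGT.Triple Cfsg.Agent.UGT.PumpGen Cfsg.Agent.UGT.TriBase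
open Cfsg.Agent.UGT.Iface (IsL34)
open Cfsg.Agent.UGT.Res.Base Cfsg.Agent.UGT.Res.Abel Cfsg.Agent.UGT.Res.CoreFree
open Cfsg.Agent.UGT.Res.WPair (M0 K0 mem_M0 mem_K0 K0_le M0_le_normalizer)
open Cfsg.Agent.UGT.FL34.Seven (sF sG)
open Cfsg.Agent.UGT.Parity (NoSign noSign_of_perfect)
open scoped commutatorElement

namespace Cfsg.Agent.UGT.N2W.One7

open Fun

universe u

variable {G : Type u} [Group G]

/-! ### the field character -/

/-- the field character and conjugation -/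
theorem sF_cj {H : Subgroup G} (h : IsL34 (Iface.Bar H)) (g : G) (h' : IsL34 (Iface.Bar (cj g H))) {a : G}
    (ha : a ∈ normalizer (H : Set G)) (ha' : g * a * g⁻¹ ∈ normalizer (cj g H : Set G)) :
    sF h' (act (cj g H) ⟨g * a * g⁻¹, ha'⟩) = sF h (act H ⟨a, ha⟩) := by
  rw [← FL34.Seven.sF_tr h h' (cjQuot g H)]
  congr 1
  apply MulEquiv.ext
  intro y
  obtain ⟨y, rfl⟩ := (cjQuot g H).surjective y
  obtain ⟨⟨k, hk⟩, rfl⟩ := QuotientGroup.mk_surjective y
  have e : ∀ {b : G} (hb : b ∈ H), cjQuot g H (QuotientGroup.mk ⟨b, hb⟩) =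
      QuotientGroup.mk ⟨g * b * g⁻¹, conj_mem_cj hb⟩ := fun _ => rfl
  rw [FL34.tr_e, act_mk ha hk, e, e, act_mk ha' (conj_mem_cj hk)]
  congr 1
  apply Subtype.ext
  change g * a * g⁻¹ * (g * k * g⁻¹) * (g * a * g⁻¹)⁻¹ = g * (a * k * a⁻¹) * g⁻¹
  group

variable [Finite G]

/-- the field character and coverings -/
theorem sF_sup {J X : Subgroup G} (hs : J ⊔ core X = X) (h : IsL34 (Iface.Bar J))
    (h' : IsL34 (Iface.Bar X)) {a : G} (haJ : a ∈ normalizer (J : Set G))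
    (haX : a ∈ normalizer (X : Set G)) : sF h' (act X ⟨a, haX⟩) = sF h (act J ⟨a, haJ⟩) := by
  obtain ⟨e, he⟩ := exists_quotEquiv hs
  have hJ : J ≤ X := by rw [← hs]; exact le_sup_left
  rw [← FL34.Seven.sF_tr h h' e]
  congr 1
  apply MulEquiv.ext
  intro y
  obtain ⟨y, rfl⟩ := e.surjective y
  obtain ⟨⟨k, hk⟩, rfl⟩ := QuotientGroup.mk_surjective y
  rw [FL34.tr_e, act_mk haJ hk, he k hk (hJ hk), he _ _ (hJ (conj_mem haJ hk)), act_mk haX (hJ hk)]

/-- the field character of a triple -/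
theorem sF_triple {x a : G} {L : Subgroup G} (T : IsTriple x a L) (h : IsL34 (Iface.Bar L)) :
    sF h (act L ⟨x, T.x_mem⟩) = -1 := by
  obtain ⟨e0⟩ := FL34.Seven.exists_e h
  rw [FL34.Seven.sF_eq h e0,
    FL34.KF.bits_of_oddC e0 (Res.KFacts.act_sq T) (N2S.oddC' T) (LTF.Basics.img_ne T)]
  rfl

variable {W H : Subgroup G}

/-- the field character of `x` on the germ -/
theorem sF_germ (S : Germ W H) {x a : G} {L : Subgroup G} (T : IsTriple x a L)
    (h : IsL34 (Iface.Bar L)) (hL : L ⊔ core H = H) (hx : x ∈ normalizer (H : Set G)) :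
    sF S.l34 (act H ⟨x, hx⟩) = -1 :=
  (sF_sup hL h S.l34 T.x_mem hx).trans (sF_triple T h)

/-- a group with a germ and only trivial proper normal subgroups has no sign -/
theorem noSign_of_simple (hG : IsSimpleGroup G) (S : Germ W H) : NoSign G := by
  apply noSign_of_perfect
  rcases hG.eq_bot_or_eq_top_of_normal (commutator G) inferInstance with h | h
  · exfalso
    apply S.even
    have h1 : ⁅H, H⁆ = ⊥ := by
      rw [eq_bot_iff]
      calc ⁅H, H⁆ ≤ ⁅(⊤ : Subgroup G), ⊤⁆ := commutator_mono le_top le_top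
        _ = ⊥ := by rw [← commutator_def, h]
    have h2 := S.perf
    rwa [h1, bot_sup_eq] at h2
  · exact h

/-- **(7)** -/
theorem false_of_sign (hG : NoSign G) (T : ThreeBal G) (S : Germ W H)
    (hn : ∀ m ∈ normalizer (W : Set G), cj m H = H) {x f₁ f₂ : G}
    (hx : x ∈ normalizer (W : Set G)) (hx' : x ∈ normalizer (H : Set G)) (xx : x * x = 1)
    (hs : sF S.l34 (act H ⟨x, hx'⟩) = -1)
    (k1 : f₁ ∈ K0 W H) (k2 : f₂ ∈ K0 W H) (f11 : f₁ * f₁ = 1) (f22 : f₂ * f₂ = 1)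
    (f12 : f₁ * f₂ = f₂ * f₁)
    (fine1 : Fine W f₁) (fine2 : Fine W f₂) (fine3 : Fine W (f₁ * f₂))
    (x1 : x * f₁ = f₁ * x) (x2 : x * f₂ = f₂ * x) : False := by
  have hNn : normalizer (W : Set G) ≤ normalizer (H : Set G) := fun m hm =>
    mem_normalizer_iff_cj.mpr (hn m hm)
  let lam : ↥(normalizer (W : Set G)) →* ℤˣ := ((sF S.l34).comp (act H)).comp (inclusion hNn)
  have hlam : ∀ {y : G} (hy : y ∈ normalizer (W : Set G)),
      lam ⟨y, hy⟩ = sF S.l34 (act H ⟨y, hNn hy⟩) := fun _ => rfl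
  obtain ⟨F, hF⟩ : ∃ F : Subgroup G, F = zpowers f₁ ⊔ zpowers f₂ := ⟨_, rfl⟩
  have g1 : f₁ ∈ F := by rw [hF]; exact mem_sup_left (mem_zpowers f₁)
  have g2 : f₂ ∈ F := by rw [hF]; exact mem_sup_right (mem_zpowers f₂)
  have hF2 : IsElementaryAbelian 2 F := by
    rw [hF]
    refine Res.WFun.el_sup (Res.WFun.el_zpowers f11) (Res.WFun.el_zpowers f22) ?_
    intro u hu v hv
    obtain ⟨i, rfl⟩ := hu
    obtain ⟨j, rfl⟩ := hv
    exact ((show Commute f₁ f₂ from f12).zpow_zpow i j).eq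
  have hFx : F ≤ centralizer ({x} : Set G) := by
    rw [hF, sup_le_iff, zpowers_le, zpowers_le]
    exact ⟨mem_c x1.symm, mem_c x2.symm⟩
  have hFW : F ≤ normalizer (W : Set G) := by
    rw [hF, sup_le_iff, zpowers_le, zpowers_le]
    exact ⟨k1.1.1, k2.1.1⟩
  refine Res.WEnd.false_of hG (normalizer (W : Set G)) lam F hx xx ((hlam hx).trans hs)
    (isPGroup_of_el hF2) hFx hFW ?_
  intro g hgF hgx hgs
  have S₁ := S.conj g
  have nn : ∀ {y : G}, g⁻¹ * y * g ∈ normalizer (W : Set G) → y ∈ normalizer (cj g H : Set G) := by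
    intro y hy
    have h1 := mem_normalizer_iff_cj.mp (hNn hy)
    rw [mem_normalizer_iff_cj, ← cj_mul]
    have e : y * g = g * (g⁻¹ * y * g) := by group
    rw [e, cj_mul, h1]
  have h1 := Cover.cover T S S₁ hNn k1 k2 f11 f22 f12 fine1 fine2 fine3 (nn (hgF _ g1)) (nn (hgF _ g2))
    (nn hgx) xx x1 x2 (by
      rw [← hgs, hlam hgx, ← sF_cj S.l34 g S₁.l34 (hNn hgx) (by
        have e : g * (g⁻¹ * x * g) * g⁻¹ = x := by group
        rw [e]; exact nn hgx)]
      congr 2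
      exact Subtype.ext (by group))
  exact mem_normalizer_iff_cj.mpr h1

/-- **(7)**, the form of bb #18369 -/
theorem false_of (hG : IsSimpleGroup G) (T : ThreeBal G) (S : Germ W H)
    (hn : ∀ m ∈ normalizer (W : Set G), cj m H = H) {x a : G} {L F : Subgroup G}
    (hx : x ∈ M0 W H) (Tr : IsTriple x a L) (h34 : IsL34 (Iface.Bar L)) (hL : L ⊔ W = H)
    (hF : F ≤ K0 W H) (hFx : ∀ f ∈ F, f * x = x * f) (hF2 : ∀ f ∈ F, f * f = 1)
    (hF4 : 4 ≤ Nat.card ↥F)
    (fine : ∀ f ∈ K0 W H, f * f = 1 → f ≠ 1 → f * x = x * f → Fine W f) : False := by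
  have hs := sF_germ S Tr h34 (le_antisymm (sup_le (by rw [← hL]; exact le_sup_left) (core_le H)) (by
    calc H = L ⊔ W := hL.symm
      _ ≤ L ⊔ core H := sup_le_sup_left S.Wc L)) hx.2
  -- a four-group
  have hF1 : F ≠ ⊥ := by
    rintro rfl
    rw [Subgroup.card_bot] at hF4
    omega
  obtain ⟨f₁, h1, h1'⟩ := F.bot_or_exists_ne_one.resolve_left hF1
  have hF3 : ¬ F ≤ zpowers f₁ := by
    intro hle
    have h3 := card_le_of_le hle
    rw [Nat.card_zpowers, orderOf_eq_prime (by rw [pow_two]; exact hF2 _ h1) h1'] at h3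
    omega
  obtain ⟨f₂, h2, h2'⟩ := SetLike.not_le_iff_exists.mp hF3
  have h2'' : f₂ ≠ 1 := fun h => h2' (by rw [h]; exact one_mem _)
  have h3' : f₁ * f₂ ≠ 1 := by
    intro h
    apply h2'
    have e : f₂ = f₁ := by
      calc f₂ = f₁ * f₁ * f₂ := by rw [hF2 _ h1, one_mul]
        _ = f₁ * (f₁ * f₂) := mul_assoc _ _ _
        _ = f₁ := by rw [h, mul_one]
    rw [e]; exact mem_zpowers _
  have h12 : f₁ * f₂ = f₂ * f₁ := by
    have h4 := hF2 _ (mul_mem h1 h2)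
    calc f₁ * f₂ = (f₁ * f₂)⁻¹ := (inv_eq_of_mul_eq_one_left h4).symm
      _ = f₂⁻¹ * f₁⁻¹ := mul_inv_rev _ _
      _ = f₂ * f₁ := by
        rw [inv_eq_of_mul_eq_one_left (hF2 _ h1), inv_eq_of_mul_eq_one_left (hF2 _ h2)]
  have h3 := mul_mem h1 h2
  exact false_of_sign (noSign_of_simple hG S) T S hn hx.1 hx.2 (sq_of_order Tr.invx) hs (hF h1) (hF h2)
    (hF2 _ h1) (hF2 _ h2) h12 (fine _ (hF h1) (hF2 _ h1) h1' (hFx _ h1))
    (fine _ (hF h2) (hF2 _ h2) h2'' (hFx _ h2)) (fine _ (hF h3) (hF2 _ h3) h3' (hFx _ h3))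
    (hFx _ h1).symm (hFx _ h2).symm

end Cfsg.Agent.UGT.N2W.One7
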