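import Cfsg.Agent.UGT.N2W.Asm
import Cfsg.Agent.UGT.N2W.Moved
import Cfsg.Agent.UGT.N2W.One7

/-!
# The single case (N2, cores, bb #17697 (8)): (6) and (7) plugged in

* `six_of`, `seven_of`.
* `single'`: the single case from STEP 1 and (5).
-/

set_option autoImplicit false
set_option linter.unusedSectionVars false

open Cfsg Subgroup
open Cfsg.Agent.SignalizersComponents Cfsg.Agent.Lib
open Cfsg.Agent.SignalizersComponents.IntrinsicBasic
open Cfsg.Agent.Intrinsic.Basic Cfsg.Agent.Intrinsic.Cen Cfsg.Agent.Intrinsic.Diag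
open Cfsg.Agent.UGT.Triple Cfsg.Agent.UGT.PumpGen Cfsg.Agent.UGT.TriBase
open Cfsg.Agent.UGT.Iface (Bar IsL34)
open Cfsg.Agent.UGT.Res.CoreFree
open Cfsg.Agent.UGT.Res.WFun (el_of_sq el_mono el_sup el_cj el_zpowers mem_zpowers_of_sq)
open Cfsg.Agent.UGT.Res.WPair (M0 K0)
open Cfsg.Agent.UGT.N2S (TT Typ)
open scoped commutatorElement

namespace Cfsg.Agent.UGT.N2W.Entr

open Fun

universe u

variable {G : Type u} [Group G] [Finite G] {W H L : Subgroup G} {x a t : G}

/-- **(6)** -/
theorem six_of (hG : IsSimpleGroup G) (T3 : ThreeBal G) : Six W H x a t L := by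
  intro D F two hmv
  exact Moved.false_of_triple T3 (One7.noSign_of_simple hG D.S) F two D.T.toIsTriple D.T.l34
    (by rw [← D.eq]; exact le_sup_left) D.xM hmv

/-- **(7)** -/
theorem seven_of (hG : IsSimpleGroup G) (T3 : ThreeBal G) : Seven W H x a t L := by
  intro D hn
  have haa := sq_of_order D.T.inva
  have htt := sq_of_order D.ot
  have hcomm : ∀ r ∈ zpowers a ⊔ zpowers t, ∀ g : G, a * g = g * a → t * g = g * t → r * g = g * r := by
    intro r hr g h1 h2
    have h3 : zpowers a ⊔ zpowers t ≤ centralizer ({g} : Set G) :=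
      sup_le (zpowers_le.mpr (mem_c h1)) (zpowers_le.mpr (mem_c h2))
    exact comm_c (h3 hr)
  have hel : IsElementaryAbelian 2 (zpowers a ⊔ zpowers t : Subgroup G) :=
    el_sup (el_zpowers haa) (el_zpowers htt) fun e he f hf => by
      rcases (mem_zpowers_of_sq haa).mp he with rfl | rfl
      · rw [one_mul, mul_one]
      · rcases (mem_zpowers_of_sq htt).mp hf with rfl | rfl
        · rw [one_mul, mul_one]
        · exact D.ta.symm
  exact One7.false_of hG T3 D.S hn D.xM D.T.toIsTriple D.T.l34 D.eq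
    (F := zpowers a ⊔ zpowers t) (sup_le (zpowers_le.mpr D.aK) (zpowers_le.mpr D.tK))
    (fun f hf => hcomm f hf x D.T.comm D.tx) (fun f hf => sq_of_el hel hf)
    (card_four D.T.inva D.ot D.ne.symm D.ta.symm).ge
    fun f hf hff hf1 hfx => (D.gd f hf (orderOf_eq_prime (by rw [pow_two]; exact hff) hf1) hfx).fine

/-- **the single case** from STEP 1 and (5) -/
theorem single' (hG : IsSimpleGroup G) (Wt : Typ G) (T3 : ThreeBal G) (ND : NoDbl W) (T : TT x a L)
    (F : Fn W a L) (ot : orderOf t = 2) (hne : t ≠ a) (hta : t * a = a * t) (htx : t * x = x * t)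
    (htL : Fixes t L)
    (comm : ∀ m ∈ normalizer (W : Set G), cj m (L ⊔ W) = L ⊔ W ∨ ⁅L ⊔ W, cj m (L ⊔ W)⁆ ≤ W)
    (five : ∀ 𝓗, Many W 𝓗 → False) : False :=
  single Wt T3 ND T F ot hne hta htx htL comm five (six_of hG T3) (seven_of hG T3)

end Cfsg.Agent.UGT.N2W.Entr
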