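import Cfsg.Agent.UGT.N2W.Fun
import Cfsg.Agent.UGT.Res.WPair
import Cfsg.Agent.UGT.Iface
import Cfsg.Agent.S0249

/-!
# Germs of type `L₃(4)` (N2, cores, bb #17697)

* `Germ W H`: `H / O(H) ≅ L₃(4)`, `H ≤ N(W)`, `Wd A = W` for all `A ≤ H` elementary abelian of order 16.
* `Fine W t`: `C(t) ≤ N(W)`.
* `Fam W 𝓗`: a set of germs over `W`, invariant under `N(W)`, different members commute modulo `W`.
* `Many W 𝓗`: at least two members, all involutions of the members fine.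
-/

set_option autoImplicit false
set_option linter.unusedSectionVars false

open Cfsg Subgroup
open Cfsg.Agent.SignalizersComponents Cfsg.Agent.Lib
open Cfsg.Agent.SignalizersComponents.IntrinsicBasic
open Cfsg.Agent.Intrinsic.Basic Cfsg.Agent.Intrinsic.Cen Cfsg.Agent.Intrinsic.Diag
open Cfsg.Agent.McLLyComp.Act
open Cfsg.Agent.UGT.Triple Cfsg.Agent.UGT.PumpGen Cfsg.Agent.UGT.TriBase
open Cfsg.Agent.UGT.Iface (IsL34)
open Cfsg.Agent.UGT.Res.Base Cfsg.Agent.UGT.Res.Abel Cfsg.Agent.UGT.Res.CoreFree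
open Cfsg.Agent.UGT.Res.WFun (el_of_sq el_mono el_sup el_cj el_zpowers mem_zpowers_of_sq mem_zpowers_sup
  two_mul_card_le card_mul_le_sup exists_commuting)
open Cfsg.Agent.UGT.Res.WPair (M0 K0 mem_M0 mem_K0 K0_le M0_le_normalizer cj_M0 cj_K0 cj_normalizer cj_sup
  cj_commutator cj_le_iff fixes_of_mem_core comm_sup_le mem_sup_left_iff card_sup_mul)
open scoped commutatorElement

namespace Cfsg.Agent.UGT.N2W

open Fun

variable {G : Type*} [Group G]

/-- a germ of type `L₃(4)` -/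
structure Germ (W H : Subgroup G) : Prop where
  Wc : W ≤ core H
  nW : H ≤ normalizer (W : Set G)
  l34 : IsL34 (Iface.Bar H)
  perf : ⁅H, H⁆ ⊔ core H = H
  quasi : ∀ D : Subgroup G, D ≤ H → D ⊔ core H = H → D ⊔ W = H
  wa : ∀ A : Subgroup G, A ≤ H → (∀ a ∈ A, a * a = 1) → Nat.card ↥A = 16 → Wd A = W
  exk : ∃ k ∈ K0 W H, k * k = 1 ∧ k ≠ 1

/-- fine involutions -/
def Fine (W : Subgroup G) (t : G) : Prop := centralizer ({t} : Set G) ≤ normalizer (W : Set G)

/-- germs over `W` -/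
structure Fam (W : Subgroup G) (𝓗 : Set (Subgroup G)) : Prop where
  germ : ∀ X ∈ 𝓗, Germ W X
  conj : ∀ m ∈ normalizer (W : Set G), ∀ X ∈ 𝓗, cj m X ∈ 𝓗
  comm : ∀ X ∈ 𝓗, ∀ Y ∈ 𝓗, X ≠ Y → ⁅X, Y⁆ ≤ W

/-- at least two germs over `W`, all involutions fine -/
structure Many (W : Subgroup G) (𝓗 : Set (Subgroup G)) : Prop extends Fam W 𝓗 where
  two : ∃ X ∈ 𝓗, ∃ Y ∈ 𝓗, X ≠ Y
  fine : ∀ X ∈ 𝓗, ∀ t ∈ X, t * t = 1 → t ≠ 1 → Fine W t

/-- the conjugates of `H` under `N(W)` -/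
def orb (W H : Subgroup G) : Set (Subgroup G) := {X | ∃ m ∈ normalizer (W : Set G), X = cj m H}

theorem mem_orb_self {W H : Subgroup G} : H ∈ orb W H := ⟨1, one_mem _, (cj_one H).symm⟩

theorem isL34_congr {A B : Type*} [Group A] [Group B] (e : A ≃* B) (h : IsL34 A) : IsL34 B := by
  obtain ⟨F, i, j, hF, ⟨f⟩⟩ := h
  exact ⟨F, i, j, hF, ⟨e.symm.trans f⟩⟩

theorem isSimple_of_l34 {A : Type*} [Group A] (h : IsL34 A) : IsSimpleGroup A := by
  obtain ⟨F, i, j, hF, ⟨f⟩⟩ := h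
  have h1 : IsSimpleGroup (Matrix.ProjectiveSpecialLinearGroup (Fin 3) F) := S0249.result 3 le_rfl
  exact f.isSimpleGroup

variable {W H : Subgroup G}

theorem Fine.conj {t : G} (h : Fine W t) (g : G) : Fine (cj g W) (g * t * g⁻¹) := by
  unfold Fine at h ⊢
  intro c hc
  rw [← cj_normalizer, mem_cj]
  apply h
  rw [mem_centralizer_singleton_iff] at hc ⊢
  calc g⁻¹ * c * g * t = g⁻¹ * (c * (g * t * g⁻¹)) * g := by group
    _ = g⁻¹ * (g * t * g⁻¹ * c) * g := by rw [hc]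
    _ = t * (g⁻¹ * c * g) := by group

theorem Fine.conj_mem {t : G} (h : Fine W t) {m : G} (hm : m ∈ normalizer (W : Set G)) :
    Fine W (m * t * m⁻¹) := by
  have := h.conj m
  rwa [mem_normalizer_iff_cj.mp hm] at this

theorem Germ.W_le (S : Germ W H) : W ≤ H := S.Wc.trans (core_le H)

theorem Germ.le_M0 (S : Germ W H) : H ≤ M0 W H := le_inf S.nW le_normalizer

section fin

variable [Finite G]

theorem Germ.odd_W (S : Germ W H) : Odd (Nat.card ↥W) :=
  Odd.of_dvd_nat (odd_card_core H) (card_dvd_of_le S.Wc)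

theorem Germ.core_le_K0 (S : Germ W H) : core H ≤ K0 W H := fun _ ha =>
  ⟨S.le_M0 (core_le H ha), fixes_of_mem_core ha⟩

theorem Germ.even (S : Germ W H) : core H ≠ H := by
  intro h
  have h1 := isSimple_of_l34 S.l34
  have h2 : Subsingleton (Iface.Bar H) := by
    constructor
    intro a b
    obtain ⟨⟨a, ha⟩, rfl⟩ := QuotientGroup.mk_surjective a
    obtain ⟨⟨b, hb⟩, rfl⟩ := QuotientGroup.mk_surjective b
    rw [(mk_eq_one_iff ha).mpr (h.symm ▸ ha), (mk_eq_one_iff hb).mpr (h.symm ▸ hb)]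
  exact not_subsingleton _ h2

theorem Germ.simp (S : Germ W H) (N : Subgroup G) (hN : N ≤ H) (hn : H ≤ normalizer (N : Set G)) :
    N ≤ core H ∨ N ⊔ core H = H := by
  have h1 := isSimple_of_l34 S.l34
  have hnor : (N.subgroupOf H).Normal := normal_subgroupOf_of_le_normalizer hn
  have hnor' : ((N.subgroupOf H).map (QuotientGroup.mk' (oddCore ↥H))).Normal :=
    hnor.map _ (QuotientGroup.mk'_surjective _)
  rcases hnor'.eq_bot_or_eq_top with h | h
  · left
    intro n hn'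
    have h2 : (QuotientGroup.mk ⟨n, hN hn'⟩ : Iface.Bar H) ∈
        (N.subgroupOf H).map (QuotientGroup.mk' (oddCore ↥H)) := ⟨⟨n, hN hn'⟩, hn', rfl⟩
    rw [h, mem_bot] at h2
    exact (mk_eq_one_iff (hN hn')).mp h2
  · right
    refine le_antisymm (sup_le hN (core_le H)) fun k hk => ?_
    have h2 : (QuotientGroup.mk ⟨k, hk⟩ : Iface.Bar H) ∈
        (N.subgroupOf H).map (QuotientGroup.mk' (oddCore ↥H)) := by rw [h]; exact mem_top _
    obtain ⟨⟨n, hnH⟩, hn', he⟩ := h2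
    have h3 := (mk_eq_iff hnH hk).mp he
    have h4 : k = n * (n⁻¹ * k) := by group
    rw [h4]
    exact mul_mem (mem_sup_left hn') (mem_sup_right h3)

/-- `H ∩ K0 = O(H)` -/
theorem Germ.inf_K0 (S : Germ W H) : H ⊓ K0 W H = core H := by
  apply le_antisymm
  · have hn : H ≤ normalizer ((H ⊓ K0 W H : Subgroup G) : Set G) := by
      intro h hh
      rw [mem_normalizer_iff_cj, cj_inf, cj_eq_self_of_mem hh,
        mem_normalizer_iff_cj.mp (M0_le_normalizer (S.le_M0 hh))]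
    rcases S.simp _ inf_le_left hn with h | h
    · exact h
    · exfalso
      have h1 : core H ≤ H ⊓ K0 W H := le_inf (core_le H) S.core_le_K0
      rw [sup_of_le_left h1] at h
      have h2 : H ≤ K0 W H := inf_eq_left.mp h
      have h3 : ⁅H, H⁆ ≤ core H := by
        rw [commutator_le]
        intro a ha b hb
        exact (h2 ha).2.2 b hb
      apply S.even
      have h4 := S.perf
      rwa [sup_of_le_right h3] at h4
  · exact le_inf (core_le H) S.core_le_K0

/-- an involution of `H` acts nontrivially on `H / O(H)` -/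
theorem Germ.eq_one_of (S : Germ W H) {a : G} (ha : a ∈ H) (haa : a * a = 1) (haK : a ∈ K0 W H) :
    a = 1 := by
  have h1 : a ∈ core H := by
    rw [← S.inf_K0]
    exact ⟨ha, haK⟩
  exact eq_one_of_mem_core_sq h1 haa

theorem Germ.inf_bot (S : Germ W H) {D A : Subgroup G} (hD : D ≤ K0 W H) (hA : A ≤ H)
    (hA2 : ∀ a ∈ A, a * a = 1) : D ⊓ A = ⊥ := by
  rw [eq_bot_iff]
  intro c hc
  exact S.eq_one_of (hA hc.2) (hA2 c hc.2) (hD hc.1)

theorem Germ.conj (S : Germ W H) (g : G) : Germ (cj g W) (cj g H) where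
  Wc := by
    rw [core_cj]
    exact cj_mono S.Wc
  nW := by
    rw [← cj_normalizer]
    exact cj_mono S.nW
  l34 := isL34_congr (cjQuot g H) S.l34
  perf := by
    rw [core_cj, ← cj_commutator, ← cj_sup, S.perf]
  quasi := by
    intro D hD hs
    have h1 : IntrinsicBasic.cj g⁻¹ D ≤ H := cj_le_iff.mp hD
    have h2 : IntrinsicBasic.cj g⁻¹ D ⊔ core H = H := by
      have h := congrArg (cj g⁻¹) hs
      rw [cj_sup, core_cj, cj_inv_cj, cj_inv_cj] at h
      exact h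
    have h3 := congrArg (cj g) (S.quasi _ h1 h2)
    rwa [cj_sup, cj_cj_inv] at h3
  wa := by
    intro A hA hA2 hA16
    have h1 := S.wa (IntrinsicBasic.cj g⁻¹ A) (cj_le_iff.mp hA)
      (fun a ha => sq_of_el (el_cj (el_of_sq hA2) _) ha) ((card_cj _ A).trans hA16)
    rw [← h1, cj_Wd, cj_cj_inv]
  exk := by
    obtain ⟨k, hk, h1, h2⟩ := S.exk
    refine ⟨g * k * g⁻¹, ?_, ?_, ?_⟩
    · rw [← cj_K0]
      exact conj_mem_cj hk
    · calc g * k * g⁻¹ * (g * k * g⁻¹) = g * (k * k) * g⁻¹ := by group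
        _ = 1 := by rw [h1]; group
    · intro h
      apply h2
      have : k = g⁻¹ * (g * k * g⁻¹) * g := by group
      rw [this, h]
      group

/-- **(AU)** -/
theorem Germ.Wd_of_le (T : ThreeBal G) (S : Germ W H) {A U : Subgroup G} (hA : A ≤ H)
    (hA16 : Nat.card ↥A = 16) (hU : IsElementaryAbelian 2 U) (hU32 : 32 ≤ Nat.card ↥U)
    (hAU : A ≤ U) : Wd U = W := by
  rw [← Wd_eq T hU hU32 hAU hA16.ge]
  exact S.wa A hA (fun a ha => sq_of_el hU (hAU ha)) hA16

/-- an elementary abelian group centralizing `A` -/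
theorem Germ.Wd_of_comm (T : ThreeBal G) (S : Germ W H) {A U : Subgroup G} (hA : A ≤ H)
    (hA16 : Nat.card ↥A = 16) (hA2 : ∀ a ∈ A, a * a = 1) (hU : IsElementaryAbelian 2 U)
    (hU32 : 32 ≤ Nat.card ↥U) (h16 : ∃ V ≤ U, 16 ≤ Nat.card ↥V ∧ ∀ v ∈ V, ∀ a ∈ A, v * a = a * v) :
    Wd U = W := by
  obtain ⟨V, hV, hV16, hc⟩ := h16
  by_cases hle : V ≤ A
  · have h1 : V = A := Subgroup.eq_of_le_of_card_ge hle (by rw [hA16]; exact hV16)
    exact S.Wd_of_le T hA hA16 hU hU32 (h1 ▸ hV)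
  have hel : IsElementaryAbelian 2 (V ⊔ A : Subgroup G) := el_sup (el_mono hU hV) (el_of_sq hA2) hc
  have hne : A ≠ V ⊔ A := fun h => hle (by rw [h]; exact le_sup_left)
  have h32 : 32 ≤ Nat.card ↥(V ⊔ A : Subgroup G) := by
    have := two_mul_card_le le_sup_right hne
    omega
  rw [← Wd_eq T hU hU32 hV hV16, Wd_eq T hel h32 le_sup_left hV16]
  exact S.Wd_of_le T hA hA16 hel h32 le_sup_right

/-- the family of the conjugates -/
theorem fam_orb (S : Germ W H)
    (comm : ∀ m ∈ normalizer (W : Set G), cj m H = H ∨ ⁅H, cj m H⁆ ≤ W) : Fam W (orb W H) where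
  germ := by
    rintro _ ⟨m, hm, rfl⟩
    have h1 := S.conj m
    rwa [mem_normalizer_iff_cj.mp hm] at h1
  conj := by
    rintro g hg _ ⟨m, hm, rfl⟩
    exact ⟨g * m, mul_mem hg hm, (cj_mul g m H).symm⟩
  comm := by
    rintro _ ⟨a, ha, rfl⟩ _ ⟨b, hb, rfl⟩ hne
    rcases comm (a⁻¹ * b) (mul_mem (inv_mem ha) hb) with h | h
    · exfalso
      apply hne
      have h1 := congrArg (cj a) h
      rw [← cj_mul, mul_inv_cancel_left] at h1
      exact h1.symm
    · have h1 := cj_mono (g := a) h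
      rwa [cj_commutator, ← cj_mul, mul_inv_cancel_left, mem_normalizer_iff_cj.mp ha] at h1

end fin

end Cfsg.Agent.UGT.N2W
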