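import Cfsg.Agent.UGT.N2W.Nine
import Cfsg.Agent.UGT.N2W.Germ
import Cfsg.Agent.UGT.N2S.OneGlue

/-!
# UGT N2, cores (bb #17697 (3)): `N = J O(N)`

* `sup_of_l34`: `J ≤ N`, `J / O(J)` and `N / O(N)` of type `L₃(4)` ⟹ `N = J O(N)`.
* `cover34`: `J ≤ N`, `J / O(J)` of type `L₃(4)`, `x` moves `J` badly, `N / O(N)` of type `L₂`, `Aₙ`, `L₃(4)` ⟹
  `N = J O(N)`.
-/

set_option autoImplicit false
set_option linter.unusedSectionVars false

open Cfsg Subgroup
open Cfsg.Agent.SignalizersComponents Cfsg.Agent.Lib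
open Cfsg.Agent.SignalizersComponents.IntrinsicBasic
open Cfsg.Agent.SignalizersComponents.PLayerAut
open Cfsg.Agent.Intrinsic.Basic Cfsg.Agent.Intrinsic.Cen Cfsg.Agent.Intrinsic.Diag
open Cfsg.Agent.McLLyComp.Act
open Cfsg.Agent.UGT.Triple Cfsg.Agent.UGT.TriBase Cfsg.Agent.UGT.LemG
open Cfsg.Agent.UGT.Iface (Bar IsL2 IsL34 IsAltOdd)
open Cfsg.Agent.UGT.LTF.Defs
open Cfsg.Agent.UGT.N2S (card_l34 card_img)
open scoped commutatorElement

namespace Cfsg.Agent.UGT.N2W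

universe u

variable {G : Type u} [Group G] [Finite G] {x d : G} {H J M N E : Subgroup G}

theorem inf_core_le (hJN : J ≤ N) : J ⊓ core N ≤ core J := by
  refine le_core inf_le_left ?_ (Odd.of_dvd_nat (odd_card_core N) (card_dvd_of_le inf_le_right))
  intro m hm
  have h5 : m ∈ normalizer (core N : Set G) := le_normalizer_core N (hJN hm)
  have h6 : m ∈ normalizer (J : Set G) := le_normalizer hm
  rw [mem_normalizer_iff_cj] at h5 h6 ⊢
  rw [cj_inf, h5, h6]

/-- `N = J O(N)` by counting -/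
theorem sup_of_l34 (hJN : J ≤ N) (hJ : IsL34 (Bar J)) (hN : IsL34 (Bar N)) : J ⊔ core N = N := by
  apply sup_of_exists hJN
  have hinf := inf_core_le hJN
  let f : ↥J →* Bar N := (QuotientGroup.mk' (oddCore ↥N)).comp (inclusion hJN)
  have hker : f.ker ≤ oddCore ↥J := by
    intro m hm
    have h5 : (QuotientGroup.mk ⟨(m : G), hJN m.2⟩ : Bar N) = 1 := hm
    have h6 := hinf ⟨m.2, (mk_eq_one_iff _).mp h5⟩
    obtain ⟨m', hm', h7⟩ := h6
    rwa [← Subtype.ext h7]
  have hidx : Nat.card (Bar J) ≤ Nat.card f.range := by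
    have h5 : (oddCore ↥J).index ≤ f.ker.index :=
      Nat.le_of_dvd (Nat.pos_of_ne_zero Subgroup.index_ne_zero_of_finite) (Subgroup.index_dvd_of_le hker)
    rw [Subgroup.index_ker] at h5
    exact h5
  have htop : f.range = ⊤ := by
    apply Subgroup.eq_top_of_le_card
    rw [card_l34 hN hJ]
    exact hidx
  intro y hy
  have h5 : (QuotientGroup.mk ⟨y, hy⟩ : Bar N) ∈ f.range := by rw [htop]; trivial
  obtain ⟨m, hm⟩ := h5
  have h6 : (QuotientGroup.mk ⟨(m : G), hJN m.2⟩ : Bar N) = QuotientGroup.mk ⟨y, hy⟩ := hm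
  exact ⟨m, m.2, (mk_eq_iff _ _).mp h6⟩

/-- **`N = J O(N)`**, if the type of `N` is known -/
theorem cover34 (hN : IsComp M N) (hJN : J ≤ N) (hJ : IsL34 (Bar J)) (hx : orderOf x = 2) (hxM : x ∈ M)
    (hxN : x ∈ normalizer (N : Set G)) (hE : E ≤ J) (hEx : E ≤ core (centralizer ({x} : Set G)))
    (h9 : 9 ≤ Nat.card ↥((E.subgroupOf J).map (QuotientGroup.mk' (oddCore ↥J))))
    (hty : IsL2 (Bar N) ∨ IsAltOdd (Bar N) ∨ IsL34 (Bar N)) : J ⊔ core N = N := by
  have K := Cfsg.Agent.UGT.N2S.OneGlue.kfs.{u}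
  rcases hty with h | h | h
  · -- `L₂(q)`
    exfalso
    obtain ⟨S, hS, hS8, hSq⟩ := K.exists_elem hJ
    have h5 := K.k2.rank _ h ((S.subgroupOf N).map (QuotientGroup.mk' (oddCore ↥N))) (by
      rintro _ ⟨s, hs, rfl⟩
      rw [← map_mul]
      have : s * s = 1 := Subtype.ext (hSq s hs)
      rw [this, map_one])
    rw [card_img (hS.trans hJN) hSq, hS8] at h5
    omega
  · -- `Aₙ`
    exfalso
    have hO := Nine.oddC_of (H := M) hN.le hx hxN
    obtain ⟨Y, hY⟩ : ∃ Y, Y = (E.subgroupOf N).map (QuotientGroup.mk' (oddCore ↥N)) := ⟨_, rfl⟩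
    have h9' : 9 ≤ Nat.card ↥Y := hY ▸ Nine.nine_up hE hJN h9
    have hmem : ∀ k ∈ Y, MulAut.conj k ∈ Nine.im x M N := fun k hk =>
      Nine.conj_mem_im hN.le hEx (hY ▸ hk)
    have hinj : Function.Injective fun k : ↥Y => (⟨MulAut.conj (k : Bar N), hmem k k.2⟩ : ↥(Nine.im x M N)) := by
      intro k l hkl
      have h1 : MulAut.conj (k : Bar N) = MulAut.conj (l : Bar N) := congrArg Subtype.val hkl
      apply Subtype.ext
      have h2 : (k : Bar N) * (l : Bar N)⁻¹ = 1 := by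
        refine K.kC _ h _ fun g => ?_
        have h3 : MulAut.conj ((k : Bar N) * (l : Bar N)⁻¹) = 1 := by
          rw [map_mul, map_inv, h1, mul_inv_cancel]
        have h4 := congrArg (fun φ : MulAut (Bar N) => φ g) h3
        change (k : Bar N) * (l : Bar N)⁻¹ * g * ((k : Bar N) * (l : Bar N)⁻¹)⁻¹ = g at h4
        exact mul_inv_eq_iff_eq_mul.mp h4
      exact mul_inv_eq_one.mp h2
    have hle := Nat.card_le_card_of_injective _ hinj
    have hne : Nine.im x M N ≠ ⊥ := by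
      intro hb
      rw [hb, card_bot] at hle
      omega
    obtain ⟨h3, -⟩ := K.kA _ h _ (Nine.act_sq' hx hxN) _ hO hne
    omega
  · exact sup_of_l34 hJN hJ h

end Cfsg.Agent.UGT.N2W
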