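import Cfsg.Agent.UGT.N2W.LieHe34
import Cfsg.Agent.UGT.U2.World
import Cfsg.Agent.UGT.U2.Ree
import Cfsg.Agent.UGT.U2.FOne.All

/-!
# The type of a 2-component `N` of an arbitrary `M` moved by `N ∩ O(C(x))`

* `simple34`: `N / O(N)` is simple.
* `type34`: in a minimal counterexample `N / O(N)` is `L₂(q)`, `Aₙ` or `L₃(4)`.
-/

set_option autoImplicit false
set_option linter.unusedSectionVars false

open Cfsg Subgroup
open Cfsg.Agent.SignalizersComponents Cfsg.Agent.Lib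
open Cfsg.Agent.SignalizersComponents.IntrinsicBasic
open Cfsg.Agent.Intrinsic.Basic Cfsg.Agent.Intrinsic.Cen Cfsg.Agent.Intrinsic.Diag
open Cfsg.Agent.McLLyComp.Act
open Cfsg.Agent.FixBN.BTheorem Cfsg.Agent.FixBN.BRelative
open Cfsg.Agent.UGT.Triple Cfsg.Agent.UGT.Iface
open Cfsg.Agent.UGT.Nodes (WorldL34)
open Cfsg.Agent.UGT.NodeHeG (HF)
open Cfsg.Agent.UGT.Res.KFacts
open Cfsg.Agent.UGT.Res.W1.LieHe (exists_image)
open scoped commutatorElement

namespace Cfsg.Agent.UGT.N2W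

universe u

local notation "Fs" => generalizedFittingSubgroup

section

variable {G : Type u} [Group G] [Finite G] {x y : G} {M N : Subgroup G}

/-- **`N / O(N)` is centreless** -/
theorem center34 (hL : LiftG G) (hN : IsComp M N) (hx : orderOf x = 2) (hxM : x ∈ M)
    (hxN : x ∈ normalizer (N : Set G)) (hy : y ∈ N) (hyc : y ∈ core (centralizer ({x} : Set G)))
    (hf : ¬ Fixes y N) : center (Bar N) = ⊥ := by
  have hx2 := sq_of_order hx
  by_contra hZ
  obtain ⟨ξ, hξ⟩ : ∃ ξ, ξ = act N ⟨x, hxN⟩ := ⟨_, rfl⟩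
  have hξ2 : ∀ g, ξ (ξ g) = g := by
    intro g
    have h1 : ξ * ξ = 1 := by
      rw [hξ, ← act_mul, act_congr (mul_mem hxN hxN) hx2]
      exact map_one _
    rw [← MulAut.mul_apply, h1, MulAut.one_apply]
  have hξZ : ∀ g ∈ center (Bar N), ξ g ∈ center (Bar N) := by
    intro g hg
    rw [mem_center_iff] at hg ⊢
    intro k
    have h1 := congrArg ξ (hg (ξ k))
    rw [map_mul, map_mul, hξ2] at h1
    exact h1
  -- an involution of the centre
  obtain ⟨⟨z, hz⟩, hz1⟩ := (center (Bar N)).ne_bot_iff_exists_ne_one.mp hZ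
  obtain ⟨w, hw, hww, hw1⟩ : ∃ w ∈ center (Bar N), w * w = 1 ∧ w ≠ 1 := by
    obtain ⟨n, hn⟩ := U2.TypeOf.center_two N ⟨z, hz⟩
    have hn' : orderOf z ∣ 2 ^ n := orderOf_dvd_of_pow_eq_one (congrArg Subtype.val hn)
    obtain ⟨k, hk, hk'⟩ := (Nat.dvd_prime_pow Nat.prime_two).mp hn'
    have hk0 : k ≠ 0 := by
      rintro rfl
      rw [pow_zero, orderOf_eq_one_iff] at hk'
      exact hz1 (Subtype.ext hk')
    obtain ⟨m, rfl⟩ := Nat.exists_eq_succ_of_ne_zero hk0
    refine ⟨z ^ 2 ^ m, pow_mem hz _, ?_, ?_⟩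
    · rw [← pow_add, ← two_mul, ← pow_succ', ← hk', pow_orderOf_eq_one]
    · intro h1
      have h2 := orderOf_dvd_of_pow_eq_one h1
      rw [hk'] at h2
      have h3 := (Nat.pow_dvd_pow_iff_le_right (by norm_num)).mp h2
      omega
  -- an involution of the centre fixed by `x`
  obtain ⟨v, hv, hvv, hv1, hξv⟩ : ∃ v ∈ center (Bar N), v * v = 1 ∧ v ≠ 1 ∧ ξ v = v := by
    by_cases h : ξ w = w
    · exact ⟨w, hw, hww, hw1, h⟩
    · have hc : w * ξ w = ξ w * w := mem_center_iff.mp (hξZ w hw) w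
      have hww' : ξ w * ξ w = 1 := by rw [← map_mul, hww, map_one]
      refine ⟨w * ξ w, mul_mem hw (hξZ w hw), ?_, ?_, ?_⟩
      · calc w * ξ w * (w * ξ w) = w * (ξ w * w) * ξ w := by group
          _ = w * (w * ξ w) * ξ w := by rw [hc]
          _ = (w * w) * (ξ w * ξ w) := by group
          _ = 1 := by rw [hww, hww', one_mul]
      · intro h1
        apply h
        rw [eq_inv_of_mul_eq_one_right h1]
        exact inv_eq_of_mul_eq_one_left hww
      · rw [map_mul, hξ2, hc]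
  have hq := U2.TypeOf.quasisimple hN
  have e : ↥(⊤ : Subgroup (Bar N)) ≃* Bar N := Subgroup.topEquiv
  refine kill34 hL hN hx hxM hxN (δ := act N ⟨y, le_normalizer hy⟩) ⟨y, le_normalizer hy, hyc, hN.le hy, rfl⟩
    (z := v) (J := ⊤) hvv hv1 (hξ ▸ hξv) ?_ ?_ (mem_top v) (Components.isQuasisimple_of_mulEquiv e.symm hq)
    (Or.inl ⟨?_, ?_⟩)
  · rw [act_of_mem hy, MulAut.conj_apply, mem_center_iff.mp hv, mul_inv_cancel_right]
  · intro g _
    rw [mem_centralizer_singleton_iff]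
    exact mem_center_iff.mp hv g
  · rw [← MonoidHom.range_eq_map, MonoidHom.range_eq_top]
    exact (act N ⟨y, le_normalizer hy⟩).surjective
  · by_contra h
    push Not at h
    apply hf
    rw [← act_eq_one_iff (le_normalizer hy)]
    apply MulEquiv.ext
    intro g
    exact h g (mem_top g)

/-- **`N / O(N)` is simple** -/
theorem simple34' (hL : LiftG G) (hN : IsComp M N) (hx : orderOf x = 2) (hxM : x ∈ M)
    (hxN : x ∈ normalizer (N : Set G)) (hy : y ∈ N) (hyc : y ∈ core (centralizer ({x} : Set G)))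
    (hf : ¬ Fixes y N) : IsSimpleGroup (Bar N) := by
  have hs := (U2.TypeOf.quasisimple hN).2
  have hZ := center34 hL hN hx hxM hxN hy hyc hf
  have e : Bar N ⧸ center (Bar N) ≃* Bar N :=
    (QuotientGroup.quotientMulEquivOfEq hZ).trans QuotientGroup.quotientBot
  exact e.symm.isSimpleGroup

/-- `N / O(N)` is unbalanced -/
theorem not_balanced34 (hL : LiftG G) (hN : IsComp M N) (hx : orderOf x = 2) (hxM : x ∈ M)
    (hxN : x ∈ normalizer (N : Set G)) (hy : y ∈ N) (hyc : y ∈ core (centralizer ({x} : Set G)))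
    (hf : ¬ Fixes y N) : ¬ IsLocallyBalanced (Bar N ⧸ center (Bar N)) := by
  have hZ := center34 hL hN hx hxM hxN hy hyc hf
  obtain ⟨D, h1, h2, h3, h4, h5, h6, -⟩ := exists_image hN hx hxM hxN hy hyc hf
  exact U2.AutBar.not_balanced (U2.TypeOf.quasisimple hN) h1 h2 h3 h4 h5 h6 (by
    intro z hz δ _
    rw [hZ, mem_bot] at hz
    rw [hz, map_one])

/-- **the type of `N / O(N)`** -/
theorem type34' (FA : U2.FOne.All.FAll.{u})
    (heK : ∀ (K : Type u) [Group K] [Finite K], Spor.IsoHe K → HF K) (hL : LiftG G) (h : MinCex G)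
    (hN : IsComp M N) (hx : orderOf x = 2) (hxM : x ∈ M)
    (hxN : x ∈ normalizer (N : Set G)) (hy : y ∈ N) (hyc : y ∈ core (centralizer ({x} : Set G)))
    (hf : ¬ Fixes y N) (hlt : Nat.card ↥N < Nat.card ↥(Fs G)) :
    IsL2 (Bar N) ∨ (∃ n, Odd n ∧ 7 ≤ n ∧ IsAlt n (Bar N)) ∨ IsL34 (Bar N) := by
  have hZ := center34 hL hN hx hxM hxN hy hyc hf
  have hsim := simple34' hL hN hx hxM hxN hy hyc hf
  have hnb := not_balanced34 hL hN hx hxM hxN hy hyc hf
  have e : Bar N ⧸ center (Bar N) ≃* Bar N :=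
    (QuotientGroup.quotientMulEquivOfEq hZ).trans QuotientGroup.quotientBot
  have hq := U2.TypeOf.quasisimple hN
  have hs := hq.2
  have hna := U2.TypeOf.not_comm_of_quasisimple hq
  have hcard : Nat.card (Bar N ⧸ center (Bar N)) < Nat.card ↥(Fs G) := by
    refine lt_of_le_of_lt ?_ hlt
    refine le_trans (Nat.le_of_dvd Nat.card_pos (Subgroup.card_quotient_dvd_card _)) ?_
    exact Nat.le_of_dvd Nat.card_pos (Subgroup.card_quotient_dvd_card _)
  have hU : InU (Bar N) := by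
    rcases inU_or_locallyBalanced h.small hna hcard with h1 | h1
    · exact h1.congr e
    · exact absurd h1 hnb
  rcases hU with h1 | h1 | h1 | h1
  · by_cases h2 : IsL2 (Bar N)
    · exact Or.inl h2
    · exfalso
      have hree : ¬ Lie.IsoRee (Bar N) := by
        rintro ⟨F, i1, i2, m, h3, h4, ⟨f⟩⟩
        exact hnb (U2.Ree.locallyBalanced_ree ⟨F, i1, i2, m, h3, h4, ⟨e.trans f⟩⟩)
      obtain ⟨q, hq, -⟩ := FA (Bar N) hsim h1 h2 hree
      exact f1d34 hL hN hx hxM hxN hy hyc hf hZ hq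
  · exact Or.inr (Or.inl h1)
  · exact Or.inr (Or.inr h1)
  · exact (hf34 hL hN hx hxM hxN hy hyc hf (heK (Bar N) h1)).elim

/-- **`N / O(N)` is simple** in the world `L₂(q)`, `A₇`, `A₉`, `L₃(4)` -/
theorem simple34 (hT : WorldL34 G) (hN : IsComp M N) (hx : orderOf x = 2) (hxM : x ∈ M)
    (hxN : x ∈ normalizer (N : Set G)) (hy : y ∈ N) (hyc : y ∈ core (centralizer ({x} : Set G)))
    (hf : ¬ Fixes y N) : IsSimpleGroup (Bar N) := simple34' (lift34 hT) hN hx hxM hxN hy hyc hf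

/-- **the type of `N / O(N)`** in the world `L₂(q)`, `A₇`, `A₉`, `L₃(4)` -/
theorem type34 (FA : U2.FOne.All.FAll.{u})
    (heK : ∀ (K : Type u) [Group K] [Finite K], Spor.IsoHe K → HF K) (hT : WorldL34 G) (h : MinCex G)
    (hN : IsComp M N) (hx : orderOf x = 2) (hxM : x ∈ M)
    (hxN : x ∈ normalizer (N : Set G)) (hy : y ∈ N) (hyc : y ∈ core (centralizer ({x} : Set G)))
    (hf : ¬ Fixes y N) (hlt : Nat.card ↥N < Nat.card ↥(Fs G)) :
    IsL2 (Bar N) ∨ (∃ n, Odd n ∧ 7 ≤ n ∧ IsAlt n (Bar N)) ∨ IsL34 (Bar N) :=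
  type34' FA heK (lift34 hT) h hN hx hxM hxN hy hyc hf hlt

end

end Cfsg.Agent.UGT.N2W
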