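import Cfsg.Agent.UGT.N2W.Asm
import Cfsg.Agent.UGT.N2W.Cover34
import Cfsg.Agent.UGT.N2W.Type34
import Cfsg.Agent.UGT.Res.W1.Fix
import Cfsg.Agent.UGT.Res.W1.Step1

/-!
# The double case (N2, cores, bb #17697): two triples `(x, a, L)`, `(x, a, N)`, `L ≠ N`, of type `L₃(4)`

* `Pt W L r`: `C(r) ≤ N(W)`, `[cen L r, O(C(r))] ≤ W`.
* `pump_w`: the pump-ups of a triple with `Fn W a L` have the same `W`; `pt_of`: `Pt W L c`.
* `Dbl x a W L N`; `dbl_of`; `Dbl.pt`: `Pt W L r` for the involutions `r` of `N`.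
* `Dbl.le_cw`: `[L, O(N(W))] ≤ W`.
* `Pc W L K`: `K = L O(K)` a 2-component of `N(W)`, `[L, O(N(W))] ≤ W`; `Pc.comm`.
* `exists_nd`: both 2-components in 2-components of `N(W)`.
* `many_of_dbl`: `∃ 𝓗, Many W 𝓗`; `noDbl`.
-/

set_option autoImplicit false
set_option linter.unusedSectionVars false

open Cfsg Subgroup
open Cfsg.Agent.SignalizersComponents Cfsg.Agent.Lib
open Cfsg.Agent.SignalizersComponents.IntrinsicBasic
open Cfsg.Agent.Intrinsic.Basic Cfsg.Agent.Intrinsic.Cen Cfsg.Agent.Intrinsic.Diag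
open Cfsg.Agent.McLLyComp.Act
open Cfsg.Agent.UGT.Triple Cfsg.Agent.UGT.PumpGen Cfsg.Agent.UGT.TriBase
open Cfsg.Agent.UGT.A9.Marker
open Cfsg.Agent.UGT.Iface (Bar IsL34 MinCex)
open Cfsg.Agent.UGT.Nodes (WorldL34)
open Cfsg.Agent.UGT.NodeHeG (HF)
open Cfsg.Agent.UGT.Res.Base Cfsg.Agent.UGT.Res.Abel Cfsg.Agent.UGT.Res.CoreFree
open Cfsg.Agent.UGT.Res.WFun (el_of_sq el_mono el_sup el_cj el_zpowers mem_zpowers_of_sq mem_zpowers_sup
  two_mul_card_le card_mul_le_sup exists_commuting isSyl_of_sup)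
open Cfsg.Agent.UGT.Res.WPair (cj_normalizer cj_sup cj_commutator cj_le_iff mem_sup_left_iff)
open Cfsg.Agent.UGT.Res.W1 (cw mem_cw comm_symm le_cw_self le_normalizer_of_cj_le two_mem mem_of_conj)
open Cfsg.Agent.UGT.N2S (TT Typ)
open scoped commutatorElement

namespace Cfsg.Agent.UGT.N2W.CaseA

open Fun Entr

universe u

variable {G : Type u} [Group G] [Finite G] {W L N K K' L' A J : Subgroup G} {x a c r g : G}

/-! ### commuting modulo `W` -/

omit [Finite G] in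
theorem cj_cw_le (g : G) : cj g (cw W A) ≤ cw (cj g W) (cj g A) := by
  intro y hy
  rw [mem_cj] at hy
  obtain ⟨h1, h2⟩ := mem_cw.mp hy
  refine mem_cw.mpr ⟨?_, fun b hb => ?_⟩
  · rw [← cj_normalizer, mem_cj]
    exact h1
  · rw [mem_cj] at hb ⊢
    have h3 := h2 _ hb
    convert h3 using 1
    simp only [commutatorElement_def]
    group

theorem mem_normalizer_cw {g : G} (hg : g ∈ normalizer (W : Set G)) (hA : g ∈ normalizer (A : Set G)) :
    g ∈ normalizer (cw W A : Set G) := by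
  rw [mem_normalizer_iff_cj]
  have h1 := cj_cw_le (W := W) (A := A) g
  rw [mem_normalizer_iff_cj.mp hg, mem_normalizer_iff_cj.mp hA] at h1
  exact Subgroup.eq_of_le_of_card_ge h1 (by rw [card_cj])

/-- `C(r) ≤ N(W)`, `[cen L r, O(C(r))] ≤ W` -/
structure Pt (W L : Subgroup G) (r : G) : Prop where
  fine : Fine W r
  ck : cen L r ≤ cw W (core (centralizer ({r} : Set G)))

theorem Pt.conj (h : Pt W L r) (hg : g ∈ normalizer (W : Set G)) (hgL : g ∈ normalizer (L : Set G)) :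
    Pt W L (g * r * g⁻¹) := by
  refine ⟨h.fine.conj_mem hg, ?_⟩
  have h1 := (cj_mono (g := g) h.ck).trans (cj_cw_le g)
  rwa [cj_cen, mem_normalizer_iff_cj.mp hgL, mem_normalizer_iff_cj.mp hg, ← core_cj, cj_centralizer] at h1

/-! ### pump-ups -/

/-- the pump-ups have the same `W` -/
theorem pump_w (Wt : Typ G) (T3 : ThreeBal G) (T : TT x a L) (F : Fn W a L)
    (oc : orderOf c = 2) (hne : c ≠ a) (hca : c * a = a * c) (hcx : c * x = x * c) (hcL : Fixes c L) :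
    ∃ N, TT x c N ∧ Fn W c N ∧ ((a ∈ normalizer (N : Set G) ∧ cen L c ≤ N) ∨
      (IntrinsicBasic.cj a N ≠ N ∧ cen L c = diag (centralizer ({c} : Set G)) N a)) := by
  have haa := sq_of_order T.inva
  obtain ⟨hJ, hs⟩ := isComp_cen T.comp (mem_c hca) (sq_of_order oc) hcL
  have hJ34 : IsL34 (Bar (cen L c)) := by
    obtain ⟨e, -⟩ := exists_quotEquiv hs
    exact isL34_congr e.symm T.l34
  obtain ⟨N, S, hN34, hor⟩ := N2S.pump34 N2S.OneGlue.kfs Wt T.toIsTriple T.l34 oc hca hcx hcL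
  rcases hor with ⟨haN, hle, hsup⟩ | ⟨hneN, hd⟩
  · have haf : Fixes a N := by
      have h1 : Fixes a (cen L c) := fixes_self' ((cen_le L c).trans T.comp.le)
      exact (fixes_iff_of_sup hsup h1.1 haN).mp h1
    obtain ⟨W', F'⟩ := fn_of Wt T3 oc S.comp hN34 T.inva hne.symm hca.symm haf
    have hWW : W = W' := F.eq_of_cover F' (cen_le L c) hle hJ34
    exact ⟨N, ⟨S, hN34⟩, hWW ▸ F', Or.inl ⟨haN, hle⟩⟩
  · have S' : TT x c (cj a N) := by
      have h1 := (⟨S, hN34⟩ : TT x c N).cj a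
      rwa [T.comm, mul_inv_cancel_right, ← hca, mul_inv_cancel_right] at h1
    -- an involution of `N^a`
    obtain ⟨A, hA, hA2, hA16⟩ := exists_A S'.l34
    obtain ⟨u, hu, hu1, -⟩ := exists_ne (B := A) (by rw [hA16]; norm_num) 1
    have hou : orderOf u = 2 := orderOf_eq_prime (by rw [pow_two]; exact hA2 u hu) hu1
    have huf : Fixes u N := S.comp.fixes_of_mem S'.comp (Ne.symm hneN) (hA hu)
    have huc : u ≠ c := by
      rintro rfl
      exact hu1 (eq_one_of_l34 S'.l34 (hA hu) (hA2 u hu) (fixes_self' S'.comp.le))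
    obtain ⟨W', F'⟩ := fn_of Wt T3 oc S.comp hN34 hou huc (comm_c (S'.comp.le (hA hu))) huf
    have hWW := link_diag T3 F F' hca hneN hd
    exact ⟨N, ⟨S, hN34⟩, hWW ▸ F', Or.inr ⟨hneN, hd⟩⟩

theorem le_cw_of_fn (F : Fn W c N) : N ≤ cw W (core (centralizer ({c} : Set G))) := fun l hl =>
  mem_cw.mpr ⟨F.le_norm hl, fun w hw => F.ck w hw l hl⟩

/-- **`Pt` at the second involutions** -/
theorem pt_of (Wt : Typ G) (T3 : ThreeBal G) (T : TT x a L) (F : Fn W a L)
    (oc : orderOf c = 2) (hne : c ≠ a) (hca : c * a = a * c) (hcx : c * x = x * c) (hcL : Fixes c L) :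
    Pt W L c := by
  have haa := sq_of_order T.inva
  obtain ⟨hJ, hs⟩ := isComp_cen T.comp (mem_c hca) (sq_of_order oc) hcL
  obtain ⟨N, S, F', hor⟩ := pump_w Wt T3 T F oc hne hca hcx hcL
  refine ⟨F'.cent, ?_⟩
  rcases hor with ⟨-, hle⟩ | ⟨hneN, hd⟩
  · exact hle.trans (le_cw_of_fn F')
  · have haC : a ∈ centralizer ({c} : Set G) := mem_c hca.symm
    have haW := F.cent (mem_c rfl : a ∈ centralizer ({a} : Set G))
    obtain ⟨C, hC⟩ : ∃ C, C = cw W (core (centralizer ({c} : Set G))) := ⟨_, rfl⟩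
    have hCn : centralizer ({c} : Set G) ≤ normalizer (C : Set G) := by
      intro y hy
      rw [hC]
      exact mem_normalizer_cw (F'.cent hy) (le_normalizer_core _ hy)
    have hNC : N ≤ C := hC ▸ le_cw_of_fn F'
    have hNC' : cj a N ≤ C := by
      have h1 := cj_mono (g := a) hNC
      rwa [mem_normalizer_iff_cj.mp (hCn haC)] at h1
    rw [← hC]
    refine hJ.le_of_two fun m hm n hn => ?_
    rw [hd] at hm
    obtain ⟨h1, h2, -, -⟩ := exists_diag F'.comp haC haa hneN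
    obtain ⟨k, hk, hmk⟩ := h2 m hm
    have hmC : m ∈ centralizer ({c} : Set G) := (h1.le hm).1
    have hk' : a * k * a⁻¹ ∈ cj a N := conj_mem_cj hk
    have hkC : k * (a * k * a⁻¹) ∈ C := mul_mem (hNC hk) (hNC' hk')
    obtain ⟨o, ho⟩ : ∃ o, o = m⁻¹ * (k * (a * k * a⁻¹)) := ⟨_, rfl⟩
    rw [← ho] at hmk
    have hoC := core_le _ hmk
    -- `m = (k k^a) o⁻¹`
    refine mem_of_pow (m := k * (a * k * a⁻¹)) (c := o⁻¹) (by rw [ho]; group) hkC (hCn (inv_mem hoC)) ?_ hn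
    exact odd_order_of_core (inv_mem hmk)

/-! ### the double configuration -/

/-- two 2-components -/
structure Dbl (x a : G) (W L N : Subgroup G) : Prop where
  T : TT x a L
  S : TT x a N
  F : Fn W a L
  F' : Fn W a N
  ne : L ≠ N

theorem Dbl.symm (D : Dbl x a W L N) : Dbl x a W N L := ⟨D.S, D.T, D.F', D.F, D.ne.symm⟩

theorem dbl_of (Wt : Typ G) (T3 : ThreeBal G) (T : TT x a L) (S : TT x a N) (F : Fn W a L)
    (ne : L ≠ N) : Dbl x a W L N := by
  have haa := sq_of_order T.inva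
  -- an involution of `L`
  obtain ⟨A, hA, hA2, hA16⟩ := exists_A T.l34
  obtain ⟨u, hu, hu1, -⟩ := exists_ne (B := A) (by rw [hA16]; norm_num) 1
  have hou : orderOf u = 2 := orderOf_eq_prime (by rw [pow_two]; exact hA2 u hu) hu1
  have huf : Fixes u N := S.comp.fixes_of_mem T.comp ne.symm (hA hu)
  have hua : u ≠ a := by
    rintro rfl
    exact hu1 (eq_one_of_l34 T.l34 (hA hu) (hA2 u hu) (fixes_self' T.comp.le))
  obtain ⟨W', F'⟩ := fn_of Wt T3 T.inva S.comp S.l34 hou hua (comm_c (T.comp.le (hA hu))) huf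
  obtain ⟨B, hB, hB2, hB16⟩ := exists_A S.l34
  have hAC : A ≤ centralizer ({a} : Set G) := hA.trans T.comp.le
  have hBC : B ≤ centralizer ({a} : Set G) := hB.trans S.comp.le
  obtain ⟨o, ho, hc⟩ := exists_commuting (odd_card_core (centralizer ({a} : Set G)))
    (isPGroup_of_el (el_of_sq hA2)) (isPGroup_of_el (el_of_sq hB2))
    (hAC.trans (le_normalizer_core _)) (hBC.trans (le_normalizer_core _)) fun b hb b' hb' =>
      T.comp.core_le_core (T.comp.comm_le_core S.comp ne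
        (commutator_mem_commutator (hA hb) (hB hb'))).1
  have h1 : Wd A = Wd (cj o B) := A34.Wd_of_comm T3 hA2
    (fun b hb => sq_of_el (el_cj (el_of_sq hB2) _) hb) hA16 ((card_cj _ B).trans hB16) hc
  have h2 : W = W' := by
    rw [← F.wa A hA hA2 hA16, h1, ← cj_Wd, F'.wa B hB hB2 hB16]
    exact mem_normalizer_iff_cj.mp (F'.cent (core_le _ ho))
  exact ⟨T, S, F, h2 ▸ F', ne⟩

/-- `N` fixes `L` -/
theorem Dbl.fix (D : Dbl x a W L N) (hc : c ∈ N) : Fixes c L := D.T.comp.fixes_of_mem D.S.comp D.ne hc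

theorem Dbl.comm (D : Dbl x a W L N) (hc : c ∈ N) : c * a = a * c := comm_c (D.S.comp.le hc)

theorem Dbl.ne_a (D : Dbl x a W L N) (hc : c ∈ N) (oc : orderOf c = 2) : c ≠ a := by
  rintro rfl
  exact ne_one_of_order oc (eq_one_of_l34 D.S.l34 hc (sq_of_order oc) (fixes_self' D.S.comp.le))

/-- an involution of `N ∩ C(x)` -/
theorem Dbl.exists_e (D : Dbl x a W L N) : ∃ e ∈ N, orderOf e = 2 ∧ e * x = x * e :=
  exists_inv34 D.S.l34 (sq_of_order D.S.invx) D.S.x_mem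

/-- **`Pt` at the involutions of `N`** -/
theorem Dbl.pt (Wt : Typ G) (T3 : ThreeBal G) (D : Dbl x a W L N) (hr : r ∈ N) (or : orderOf r = 2) :
    Pt W L r := by
  obtain ⟨e, he, oe, hex⟩ := D.exists_e
  have h1 := pt_of Wt T3 D.T D.F oe (D.ne_a he oe) (D.comm he) hex (D.fix he)
  obtain ⟨l, hl, rfl⟩ := inv_conj34 D.S.l34 he hr oe or
  exact h1.conj (D.F'.le_norm hl) (D.fix hl).1

/-- **`[L, O(M)] ≤ W`** -/
theorem Dbl.le_cw (Wt : Typ G) (T3 : ThreeBal G) (D : Dbl x a W L N) :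
    L ≤ cw W (core (normalizer (W : Set G))) := by
  have hp : Fact (Nat.Prime 2) := ⟨Nat.prime_two⟩
  obtain ⟨M, hM⟩ : ∃ M, M = normalizer (W : Set G) := ⟨_, rfl⟩
  rw [← hM]
  -- a four-group of `N`
  obtain ⟨A, hA, hA2, hA16⟩ := exists_A D.S.l34
  obtain ⟨r, hr, hr1, -⟩ := exists_ne (B := A) (by rw [hA16]; norm_num) 1
  obtain ⟨s, hs, hs1, hsr⟩ := exists_ne (B := A) (by rw [hA16]; norm_num) r
  have hAe := el_of_sq hA2
  have or : orderOf r = 2 := orderOf_eq_prime (by rw [pow_two]; exact hA2 r hr) hr1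
  have os : orderOf s = 2 := orderOf_eq_prime (by rw [pow_two]; exact hA2 s hs) hs1
  have hrs : r * s = s * r := comm_of_el hAe hr hs
  obtain ⟨R, hR⟩ : ∃ R, R = zpowers r ⊔ zpowers s := ⟨_, rfl⟩
  have hR4 : Nat.card ↥R = 4 := hR ▸ card_four or os hsr.symm hrs
  have hRA : R ≤ A := by
    rw [hR]
    exact sup_le (zpowers_le.mpr hr) (zpowers_le.mpr hs)
  -- `J`
  have hrC : r ∈ centralizer ({a} : Set G) := D.S.comp.le (hA hr)
  have hsC : s ∈ centralizer ({a} : Set G) := D.S.comp.le (hA hs)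
  obtain ⟨h1, h2⟩ := isComp_cen D.T.comp hrC (sq_of_order or) (D.fix (hA hr))
  have hfs := D.fix (hA hs)
  have hsn : s ∈ normalizer (cen L r : Set G) := mem_normalizer_cen hfs.1 hrs.symm
  have hfs' : Fixes s (cen L r) := (fixes_iff_of_sup h2 hsn hfs.1).mpr hfs
  obtain ⟨h3, h4⟩ := isComp_cen h1 (Subgroup.mem_inf.mpr ⟨hsC, mem_c hrs.symm⟩) (sq_of_order os) hfs'
  obtain ⟨J, hJ⟩ : ∃ J, J = cen (cen L r) s := ⟨_, rfl⟩
  rw [← hJ] at h3 h4
  have hcov : J ⊔ core L = L := Res.W1.NSt.sup_of_core h4 h2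
  have hJL : J ≤ L := by
    rw [← hcov]
    exact le_sup_left
  have hJr : ∀ j ∈ J, j * r = r * j := fun j hj => comm_of_mem_cen (cen_le _ s (hJ ▸ hj))
  have hJs : ∀ j ∈ J, j * s = s * j := fun j hj => comm_of_mem_cen (hJ ▸ hj)
  have hJR : ∀ t ∈ R, J ≤ cen L t := by
    intro t ht
    rw [← h3.pElem_eq]
    refine PComponents.pElem_mono (le_inf hJL fun j hj => ?_)
    have h5 : R ≤ centralizer ({j} : Set G) := by
      rw [hR]
      exact sup_le (zpowers_le.mpr (mem_c (hJr j hj).symm)) (zpowers_le.mpr (mem_c (hJs j hj).symm))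
    exact mem_c (comm_c (h5 ht)).symm
  have hLM : L ≤ M := hM ▸ D.F.le_norm
  have hNM : N ≤ M := hM ▸ D.F'.le_norm
  -- `O(M) ≤ cw W J`
  have h5 : core M ≤ cw W J := by
    have hE := el_mono hAe hRA
    have hE1 : R ≠ ⊥ := by
      rintro h
      rw [h, card_bot] at hR4
      omega
    have hN2 : ¬ 2 ∣ Nat.card ↥(core M) := by
      rw [← even_iff_two_dvd, Nat.not_even_iff_odd]
      exact odd_card_core M
    have hn : R ≤ normalizer (core M : Set G) := fun t ht => le_normalizer_core _ (hNM (hA (hRA ht)))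
    rw [← Lib.CoprimeHyperplane.iSup_centralizer_hyperplane hE hE1 hN2 hn]
    refine iSup_le fun B => ?_
    have h2 : Nat.card ↥B.1 = 2 := by
      have := relIndex_mul_relIndex ⊥ B.1 R bot_le B.2.1
      rw [relIndex_bot_left, relIndex_bot_left, B.2.2, hR4] at this
      omega
    have h3 : B.1 ≠ ⊥ := by
      rintro h
      rw [h, card_bot] at h2
      omega
    obtain ⟨⟨t, ht⟩, ht1'⟩ := Subgroup.ne_bot_iff_exists_ne_one.mp h3
    have ht1 : t ≠ 1 := fun h => ht1' (Subtype.ext h)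
    have htR := B.2.1 ht
    have htN : t ∈ N := hA (hRA htR)
    have ot : orderOf t = 2 := orderOf_eq_prime (by rw [pow_two]; exact hA2 t (hRA htR)) ht1
    have hP := D.pt Wt T3 htN ot
    rintro o ⟨ho, hoB⟩
    have hoc : o ∈ centralizer ({t} : Set G) := mem_c (mem_centralizer_iff.mp hoB t ht).symm
    have h4 : core M ⊓ centralizer ({t} : Set G) ≤ core (centralizer ({t} : Set G)) := by
      refine le_core inf_le_right ?_ ?_
      · intro g hg
        have e1 : g ∈ normalizer (core M : Set G) := le_normalizer_core _ (hM ▸ hP.fine hg)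
        have e2 := le_normalizer (H := centralizer ({t} : Set G)) hg
        rw [mem_normalizer_iff_cj] at e1 e2 ⊢
        rw [cj_inf, e1, e2]
      · exact Odd.of_dvd_nat (odd_card_core _) (card_dvd_of_le inf_le_left)
    refine mem_cw.mpr ⟨hM ▸ core_le M ho, fun j hj => comm_symm ?_⟩
    exact (mem_cw.mp (hP.ck (hJR t htR hj))).2 o (h4 (Subgroup.mem_inf.mpr ⟨ho, hoc⟩))
  have h6 : J ≤ cw W (core M) := fun j hj =>
    mem_cw.mpr ⟨hM ▸ hLM (hJL hj), fun o ho => comm_symm ((mem_cw.mp (h5 ho)).2 j hj)⟩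
  refine D.T.comp.le_of_two fun g hg n hn => ?_
  obtain ⟨j, hj, hc⟩ := exists_mul_of_sup hcov hg
  refine mem_of_pow (c := j⁻¹ * g) (by group) (h6 hj) ?_ (odd_order_of_core hc) hn
  have hcM := hLM (core_le L hc)
  exact mem_normalizer_cw (hM ▸ hcM) (le_normalizer_core _ hcM)

/-! ### the 2-components of `N(W)` -/

/-- `K = L O(K)` a 2-component of `N(W)`, `[L, O(N(W))] ≤ W` -/
structure Pc (W L K : Subgroup G) : Prop where
  gen : ∃ C, IsComp C L
  comp : IsComp (normalizer (W : Set G)) K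
  cov : L ⊔ core K = K
  ck : L ≤ cw W (core (normalizer (W : Set G)))

theorem Pc.le (P : Pc W L K) : L ≤ K := by
  rw [← P.cov]
  exact le_sup_left

theorem Pc.leM (P : Pc W L K) : L ≤ normalizer (W : Set G) := P.le.trans P.comp.le

theorem Pc.cj (P : Pc W L K) {m : G} (hm : m ∈ normalizer (W : Set G)) :
    Pc W (IntrinsicBasic.cj m L) (IntrinsicBasic.cj m K) where
  gen := by
    obtain ⟨C, hC⟩ := P.gen
    exact ⟨_, hC.cj m⟩
  comp := isComp_cj_of_mem P.comp hm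
  cov := by
    rw [core_cj, ← cj_sup, P.cov]
  ck := by
    have h1 := cj_mono (g := m) P.ck
    rwa [mem_normalizer_iff_cj.mp (mem_normalizer_cw hm (le_normalizer_core _ hm))] at h1

theorem Pc.norm (P : Pc W L K) : core (normalizer (W : Set G)) ≤ normalizer ((L ⊔ W : Subgroup G) : Set G) := by
  refine le_normalizer_of_cj_le fun o ho => ?_
  have e1 : IntrinsicBasic.cj o W = W := mem_normalizer_iff_cj.mp (core_le _ ho)
  rw [cj_sup, e1]
  refine sup_le ?_ le_sup_right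
  rintro _ ⟨j, hj, rfl⟩
  change o * j * o⁻¹ ∈ L ⊔ W
  have e3 : o * j * o⁻¹ = ⁅j, o⁆⁻¹ * j := by rw [commutatorElement_def]; group
  rw [e3]
  exact mul_mem (mem_sup_right (inv_mem ((mem_cw.mp (P.ck hj)).2 o ho))) (mem_sup_left hj)

theorem Pc.le_sup (P : Pc W L K) (P' : Pc W L' K) : L' ≤ L ⊔ W := by
  obtain ⟨C, hC⟩ := P'.gen
  refine hC.le_of_two fun k hk n hn => ?_
  obtain ⟨j, hj, hc⟩ := exists_mul_of_sup P.cov (P'.le hk)
  have hc' := P.comp.core_le_core hc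
  exact mem_of_pow (c := j⁻¹ * k) (by group) (mem_sup_left hj) (P.norm hc') (odd_order_of_core hc) hn

theorem Pc.sup_eq (P : Pc W L K) (P' : Pc W L' K) : L ⊔ W = L' ⊔ W :=
  le_antisymm (sup_le (P'.le_sup P) le_sup_right) (sup_le (P.le_sup P') le_sup_right)

/-- **different germs commute** -/
theorem Pc.comm (P : Pc W L K) (P' : Pc W L' K') (hne : K ≠ K') : ⁅L ⊔ W, L' ⊔ W⁆ ≤ W := by
  refine Res.W1.comm_sup_le P.leM P'.leM ?_
  obtain ⟨C, hC⟩ := P.gen
  have h3 : L ≤ cw W L' := by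
    refine hC.le_of_two fun j hj n hn => ?_
    refine mem_cw.mpr ⟨P.leM hj, fun k hk => comm_symm ?_⟩
    have h2 : ⁅k, j⁆ ∈ core (normalizer (W : Set G)) :=
      P'.comp.core_le_core (P'.comp.comm_le_core P.comp hne.symm
        (commutator_mem_commutator (P'.le hk) (P.le hj))).1
    refine mem_of_conj (odd_card_core _) (core_le _) (fun j hj o ho => (mem_cw.mp (P.ck hj)).2 o ho) h2 hj
      ?_ hn (k := k)
    rw [commutatorElement_def]
    group
  exact fun j hj k hk => (mem_cw.mp (h3 hj)).2 k hk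

theorem Pc.eq_or (P : Pc W L K) (P' : Pc W L' K') (hne : L ⊔ W ≠ L' ⊔ W) : ⁅L ⊔ W, L' ⊔ W⁆ ≤ W := by
  refine P.comm P' ?_
  rintro rfl
  exact hne (P.sup_eq P')

/-! ### `K = L O(K)` -/

theorem cover (FA : U2.FOne.All.FAll.{u})
    (heK : ∀ (K : Type u) [Group K] [Finite K], Spor.IsoHe K → HF K) (hT : WorldL34 G) (h : MinCex G)
    (T3 : ThreeBal G) (hW1 : W ≠ ⊥) (T : TT x a L) (F : Fn W a L)
    (hK : IsComp (normalizer (W : Set G)) K) (hLK : L ≤ K) : L ⊔ core K = K := by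
  obtain ⟨E, hE, hEx, h9⟩ := Nine.nine T.toIsTriple T.l34
  have hxM : x ∈ normalizer (W : Set G) := F.cent (mem_c T.comm.symm)
  have hxK : x ∈ normalizer (K : Set G) := Res.W1.norm_of_le T.comp hK hLK hxM T.x_mem
  have Wt : Typ G := fun T => hT.types _ _ _ T
  -- some `y ∈ E` does not fix `K`
  obtain ⟨y, hy, hf⟩ : ∃ y ∈ E, ¬ Fixes y K := by
    by_contra hcon
    push Not at hcon
    have hbot : (E.subgroupOf L).map (QuotientGroup.mk' (oddCore ↥L)) = ⊥ := by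
      rw [eq_bot_iff]
      rintro _ ⟨⟨y, hyL⟩, hyE, rfl⟩
      rw [mem_bot]
      refine N2S.OneGlue.kfs.center Wt T.toIsTriple _ fun d => ?_
      obtain ⟨⟨l, hl⟩, rfl⟩ := QuotientGroup.mk_surjective d
      have h1 : ⁅y, l⁆ ∈ core L := by
        refine inf_core_le hLK (Subgroup.mem_inf.mpr ⟨?_, (hcon y hyE).2 l (hLK hl)⟩)
        rw [commutatorElement_def]
        exact mul_mem (mul_mem (mul_mem hyL hl) (inv_mem hyL)) (inv_mem hl)
      exact (commutator_mem_core_iff hyL hl).mp h1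
    rw [hbot, card_bot] at h9
    omega
  have hty := type34 FA heK hT h hK T.invx hxM hxK (hLK (hE hy)) (hEx hy) hf
    (Res.W1.NSt.card_lt h le_rfl le_normalizer (F.odd T3) hW1 hK)
  exact cover34 hK hLK T.l34 T.invx hxM hxK hE hEx h9 hty

/-! ### the reduction to the non-diagonal case -/

section nd

/-- the diagonal case -/
theorem of_diag (Wt : Typ G) (T3 : ThreeBal G) (D : Dbl x a W L N)
    (hK : IsComp (normalizer (W : Set G)) K) (hne : cj a K ≠ K) (hd : L = diag (normalizer (W : Set G)) K a) :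
    ∃ a' L' N' K₁ K₂, Dbl x a' W L' N' ∧ IsComp (normalizer (W : Set G)) K₁ ∧
      IsComp (normalizer (W : Set G)) K₂ ∧ L' ≤ K₁ ∧ N' ≤ K₂ := by
  obtain ⟨M, hM⟩ : ∃ M, M = normalizer (W : Set G) := ⟨_, rfl⟩
  have haa := sq_of_order D.T.inva
  have haW : a ∈ normalizer (W : Set G) := D.F.cent (mem_c rfl)
  have haM : a ∈ M := hM ▸ haW
  have hCM : centralizer ({a} : Set G) ≤ M := hM ▸ D.F.cent
  rw [← hM] at hK hd ⊢
  have hK' := isComp_cj_of_mem hK haM
  have hKaa : cj a (cj a K) = K := by rw [← cj_mul, haa, cj_one]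
  obtain ⟨e, he, oe, hex⟩ := D.exists_e
  have hee := sq_of_order oe
  have hea := D.comm he
  have heM : e ∈ M := hCM (D.S.comp.le he)
  -- `e` fixes `K`
  have hfK : Fixes e K := by
    have hN : IsComp (M ⊓ centralizer ({a} : Set G)) N := by
      rw [inf_eq_right.mpr hCM]
      exact D.S.comp
    obtain ⟨K₂, hK₂, -, h⟩ := McLLyComp.PumpT.exists_pump haM haa hN
    rcases h with ⟨h1, h2⟩ | ⟨h1, h2⟩
    · refine hK.fixes_of_mem hK₂ ?_ (h2 he)
      rintro rfl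
      exact hne (mem_normalizer_iff_cj.mp h1)
    · by_contra hf
      have hmk : IsMark M N K := ⟨hK, fun h => hf (h e he)⟩
      rcases eq_or_of_diag hK₂ haM haa h1 (le_of_eq h2) hmk with rfl | rfl
      · exact D.ne (hd.trans h2.symm)
      · apply D.ne
        have h3 := congrArg (cj a) h2
        rw [cj_diag, cj_eq_self_of_mem haM, mul_inv_cancel_right] at h3
        rw [hd, ← h3]
        exact mem_normalizer_iff_cj.mp (fixes_self' D.S.comp.le).1
  have hfK' : Fixes e (cj a K) := fixes_cj hea hfK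
  -- the marker
  obtain ⟨hJc, hJs⟩ := isComp_cen D.T.comp (mem_c hea) hee (D.fix he)
  have hJ : Mkr (cen L e) := Mkr.of_comp hJc
  have hJd : cen L e ≤ diag M K a := hd ▸ cen_le L e
  obtain ⟨N', S', F', hor⟩ := pump_w Wt T3 D.T D.F oe (D.ne_a he oe) hea hex (D.fix he)
  have hCeM : centralizer ({e} : Set G) ≤ M := hM ▸ F'.cent
  have haC : a ∈ centralizer ({e} : Set G) := mem_c hea.symm
  have hmk : IsMark (M ⊓ centralizer ({e} : Set G)) (cen L e) N' := by
    rw [inf_eq_right.mpr hCeM]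
    rcases hor with ⟨-, hle⟩ | ⟨hneN, hdN⟩
    · exact mark_of_le hJ F'.comp hle
    · exact mark_diag hJ F'.comp haC haa hneN (le_of_eq hdN)
  have hJM : cen L e ≤ M ⊓ centralizer ({e} : Set G) :=
    le_inf ((cen_le L e).trans (D.T.comp.le.trans hCM)) (cen_le_centralizer L e)
  obtain ⟨J', hJ', hor'⟩ := hmk.pump heM hee hJM
  have hJK : J' = K ∨ J' = cj a K := eq_or_of_diag hK haM haa hne hJd hJ'
  have heJ : cj e J' = J' := by
    rcases hJK with rfl | rfl
    · exact mem_normalizer_iff_cj.mp hfK.1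
    · exact mem_normalizer_iff_cj.mp hfK'.1
  have haJ : cj a J' ≠ J' := by
    rcases hJK with rfl | rfl
    · exact hne
    · rw [hKaa]
      exact hne.symm
  have hle : N' ≤ J' := by
    rcases hor' with ⟨-, h, -⟩ | ⟨h, -⟩
    · exact h
    · exact absurd heJ h
  have hle' : cj a N' ≤ cj a J' := cj_mono hle
  rcases hor with ⟨haN, -⟩ | ⟨hneN, -⟩
  · exfalso
    rw [mem_normalizer_iff_cj.mp haN] at hle'
    exact haJ (F'.comp.unique (isComp_cj_of_mem hJ'.comp haM) hJ'.comp hle' hle)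
  · have S'' : TT x e (cj a N') := by
      have h1 := S'.cj a
      rwa [D.T.comm, mul_inv_cancel_right, ← hea, mul_inv_cancel_right] at h1
    have F'' : Fn W e (cj a N') := by
      have h1 := F'.cj a
      rwa [mem_normalizer_iff_cj.mp haW, ← hea, mul_inv_cancel_right] at h1
    exact ⟨e, N', cj a N', J', cj a J', ⟨S', S'', F', F'', hneN.symm⟩, hJ'.comp,
      isComp_cj_of_mem hJ'.comp haM, hle, hle'⟩

/-- both 2-components in 2-components of `M` -/
theorem exists_nd (Wt : Typ G) (T3 : ThreeBal G) (D : Dbl x a W L N) :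
    ∃ a' L' N' K₁ K₂, Dbl x a' W L' N' ∧ IsComp (normalizer (W : Set G)) K₁ ∧
      IsComp (normalizer (W : Set G)) K₂ ∧ L' ≤ K₁ ∧ N' ≤ K₂ := by
  have haa := sq_of_order D.T.inva
  have haM : a ∈ normalizer (W : Set G) := D.F.cent (mem_c rfl)
  have hL : IsComp (normalizer (W : Set G) ⊓ centralizer ({a} : Set G)) L := by
    rw [inf_eq_right.mpr D.F.cent]
    exact D.T.comp
  have hN : IsComp (normalizer (W : Set G) ⊓ centralizer ({a} : Set G)) N := by
    rw [inf_eq_right.mpr D.F.cent]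
    exact D.S.comp
  obtain ⟨K₁, hK₁, -, h1⟩ := McLLyComp.PumpT.exists_pump haM haa hL
  obtain ⟨K₂, hK₂, -, h2⟩ := McLLyComp.PumpT.exists_pump haM haa hN
  rcases h1 with ⟨-, h1⟩ | ⟨h1, h1'⟩
  · rcases h2 with ⟨-, h2⟩ | ⟨h2, h2'⟩
    · exact ⟨a, L, N, K₁, K₂, D, hK₁, hK₂, h1, h2⟩
    · exact of_diag Wt T3 D.symm hK₂ h2 h2'
  · exact of_diag Wt T3 D hK₁ h1 h1'

end nd

/-! ### the family -/

/-- the germs are different -/
theorem Dbl.ne_sup (T3 : ThreeBal G) (D : Dbl x a W L N) : L ⊔ W ≠ N ⊔ W := by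
  intro h
  have hNH : N ≤ L ⊔ W := h ▸ le_sup_left
  have h1 : ⁅N, N⁆ ≤ core (L ⊔ W) := by
    rw [Subgroup.commutator_le]
    intro n hn n' hn'
    have hf := D.fix hn
    exact ((fixes_iff_of_sup (D.F.sup_core T3) hf.1 (le_normalizer (hNH hn))).mp hf).2 n' (hNH hn')
  rw [D.S.comp.perfect] at h1
  exact D.S.comp.not_odd (odd_card_core _) h1

theorem Dbl.many (Wt : Typ G) (T3 : ThreeBal G) (D : Dbl x a W L N) {K₁ K₂ : Subgroup G} (P₁ : Pc W L K₁)
    (P₂ : Pc W N K₂) : Many W (orb W (L ⊔ W) ∪ orb W (N ⊔ W)) := by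
  have hrep : ∀ X ∈ orb W (L ⊔ W) ∪ orb W (N ⊔ W), ∃ L' K', Pc W L' K' ∧ X = L' ⊔ W := by
    rintro X (⟨m, hm, rfl⟩ | ⟨m, hm, rfl⟩)
    · exact ⟨_, _, P₁.cj hm, by rw [cj_sup, mem_normalizer_iff_cj.mp hm]⟩
    · exact ⟨_, _, P₂.cj hm, by rw [cj_sup, mem_normalizer_iff_cj.mp hm]⟩
  have hgerm : ∀ X ∈ orb W (L ⊔ W) ∪ orb W (N ⊔ W), Germ W X := by
    rintro X (⟨m, hm, rfl⟩ | ⟨m, hm, rfl⟩)
    · have h1 := (D.F.germ T3).conj m
      rwa [mem_normalizer_iff_cj.mp hm] at h1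
    · have h1 := (D.F'.germ T3).conj m
      rwa [mem_normalizer_iff_cj.mp hm] at h1
  have hfine : ∀ X ∈ orb W (L ⊔ W) ∪ orb W (N ⊔ W), ∃ u ∈ X, orderOf u = 2 ∧ Fine W u := by
    have key : ∀ {u m : G} {H : Subgroup G}, u ∈ H → orderOf u = 2 → Fine W u →
        m ∈ normalizer (W : Set G) → ∃ u ∈ cj m H, orderOf u = 2 ∧ Fine W u := by
      intro u m H hu ou hf hm
      refine ⟨m * u * m⁻¹, conj_mem_cj hu, ?_, hf.conj_mem hm⟩
      have := (MulAut.conj m).orderOf_eq u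
      rw [MulAut.conj_apply] at this
      rw [this, ou]
    rintro X (⟨m, hm, rfl⟩ | ⟨m, hm, rfl⟩)
    · obtain ⟨e, he, oe, -⟩ := D.symm.exists_e
      exact key (mem_sup_left he) oe (D.symm.pt Wt T3 he oe).fine hm
    · obtain ⟨e, he, oe, -⟩ := D.exists_e
      exact key (mem_sup_left he) oe (D.pt Wt T3 he oe).fine hm
  refine { germ := hgerm, conj := ?_, comm := ?_, two := ?_, fine := ?_ }
  · rintro g hg X (⟨m, hm, rfl⟩ | ⟨m, hm, rfl⟩)
    · exact Or.inl ⟨g * m, mul_mem hg hm, (cj_mul g m _).symm⟩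
    · exact Or.inr ⟨g * m, mul_mem hg hm, (cj_mul g m _).symm⟩
  · intro X hX Y hY hne
    obtain ⟨L₁, K₁', Q₁, rfl⟩ := hrep X hX
    obtain ⟨L₂, K₂', Q₂, rfl⟩ := hrep Y hY
    exact Q₁.eq_or Q₂ hne
  · exact ⟨_, Or.inl mem_orb_self, _, Or.inr mem_orb_self, D.ne_sup T3⟩
  · intro X hX t ht htt ht1
    obtain ⟨u, hu, ou, hf⟩ := hfine X hX
    have S := hgerm X hX
    obtain ⟨l, hl, rfl⟩ := inv_conj34 S.l34 hu ht ou (orderOf_eq_prime (by rw [pow_two]; exact htt) ht1)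
    exact hf.conj_mem (S.nW hl)

variable (FA : U2.FOne.All.FAll.{u})
    (heK : ∀ (K : Type u) [Group K] [Finite K], Spor.IsoHe K → HF K) (hT : WorldL34 G) (h : MinCex G)
    (T3 : ThreeBal G) (hW1 : W ≠ ⊥)

include FA heK hT h T3 hW1

/-- **two triples**: at least two germs over `W` -/
theorem many_of_dbl (T : TT x a L) (S : TT x a N) (F : Fn W a L) (ne : L ≠ N) : ∃ 𝓗, Many W 𝓗 := by
  have Wt : Typ G := fun T => hT.types _ _ _ T
  obtain ⟨a', L', N', K₁, K₂, D, hK₁, hK₂, h1, h2⟩ := exists_nd Wt T3 (dbl_of Wt T3 T S F ne)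
  refine ⟨_, D.many Wt T3 (K₁ := K₁) (K₂ := K₂) ?_ ?_⟩
  · exact ⟨⟨_, D.T.comp⟩, hK₁, cover FA heK hT h T3 hW1 D.T D.F hK₁ h1, D.le_cw Wt T3⟩
  · exact ⟨⟨_, D.S.comp⟩, hK₂, cover FA heK hT h T3 hW1 D.S D.F' hK₂ h2, D.symm.le_cw Wt T3⟩

/-- **no two triples** -/
theorem noDbl (five : ∀ 𝓗, Many W 𝓗 → False) : NoDbl W := by
  intro x z L N T S F
  by_contra ne
  obtain ⟨𝓗, hM⟩ := many_of_dbl FA heK hT h T3 hW1 T S F ne
  exact five 𝓗 hM

end Cfsg.Agent.UGT.N2W.CaseA
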