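import Cfsg.Agent.UGT.N2W.Germ
import Cfsg.Agent.UGT.FL34.SevenB

/-!
# Two germs of type `L₃(4)` (N2, cores, bb #17697 (7))

* `lift16`: lifting of subgroups of order 16 and exponent 2 from `H / O(H)`.
* `cen_lift`: lifting of fixed points of involutions.
* `Germ.Wd_of_inner`: `U` elementary abelian of order at least 16, inner on `H / O(H)`: `Wd U = W`.
* `eq_of_cover`: **(0'')** `H₁ ∩ M0 W H` covers `H₁ / O(H₁)` ⟹ `W₁ = W`.
* `cover`: a four-group `F ≤ K0 W H` of fine involutions, normalizing `H₁`, commuting with an involution `x` of type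
  `u` or `f` on `H₁ / O(H₁)`: `W₁ = W`.
-/

set_option autoImplicit false
set_option linter.unusedSectionVars false

open Cfsg Subgroup
open Cfsg.Agent.SignalizersComponents Cfsg.Agent.Lib
open Cfsg.Agent.SignalizersComponents.IntrinsicBasic
open Cfsg.Agent.Intrinsic.Basic Cfsg.Agent.Intrinsic.Cen Cfsg.Agent.Intrinsic.Diag
open Cfsg.Agent.McLLyComp.Act
open Cfsg.Agent.UGT.Triple Cfsg.Agent.UGT.PumpGen Cfsg.Agent.UGT.TriBase
open Cfsg.Agent.UGT.Iface (IsL34)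
open Cfsg.Agent.UGT.Res.Base Cfsg.Agent.UGT.Res.Abel Cfsg.Agent.UGT.Res.CoreFree
open Cfsg.Agent.UGT.Res.WFun (el_of_sq el_mono el_sup el_cj el_zpowers mem_zpowers_of_sq mem_zpowers_sup
  two_mul_card_le card_mul_le_sup exists_commuting)
open Cfsg.Agent.UGT.Res.WPair (M0 K0 mem_M0 mem_K0 K0_le M0_le_normalizer cover_cen)
open Cfsg.Agent.UGT.FL34.Seven (sF sG)
open Cfsg.Agent.UGT.ThEL34 (fx mem_fx)
open scoped commutatorElement

namespace Cfsg.Agent.UGT.N2W.Cover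

open Fun

universe u

variable {G : Type u} [Group G] [Finite G]

/-! ### lifting -/

/-- lifting of elementary abelian subgroups of order 16 -/
theorem lift16 {H X : Subgroup G} (_ : X ≤ H) {E : Subgroup (Iface.Bar H)} (h16 : Nat.card E = 16)
    (h2 : ∀ y ∈ E, y * y = 1)
    (hE : ∀ y ∈ E, ∃ (g : G) (hg : g ∈ H), g ∈ X ∧ (QuotientGroup.mk ⟨g, hg⟩ : Iface.Bar H) = y) :
    ∃ A : Subgroup G, A ≤ X ∧ Nat.card A = 16 ∧ (∀ a ∈ A, a * a = 1) ∧
      ∀ (a : G) (ha : a ∈ H), a ∈ A → (QuotientGroup.mk ⟨a, ha⟩ : Iface.Bar H) ∈ E := by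
  have hp : Fact (Nat.Prime 2) := ⟨Nat.prime_two⟩
  -- the preimage
  obtain ⟨Y, hY⟩ : ∃ Y : Subgroup ↥H, Y = X.subgroupOf H ⊓ E.comap (QuotientGroup.mk' (oddCore ↥H)) :=
    ⟨_, rfl⟩
  have hYm : ∀ y : ↥H, y ∈ Y ↔ (y : G) ∈ X ∧ (QuotientGroup.mk y : Iface.Bar H) ∈ E := by
    intro y
    rw [hY, mem_inf, mem_subgroupOf, mem_comap]
    rfl
  let φ : ↥Y →* ↥E := ((QuotientGroup.mk' (oddCore ↥H)).comp Y.subtype).codRestrict E
    (fun y => ((hYm y).mp y.2).2)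
  have hφ : Function.Surjective φ := by
    rintro ⟨y, hy⟩
    obtain ⟨g, hg, hgX, he⟩ := hE y hy
    exact ⟨⟨⟨g, hg⟩, (hYm _).mpr ⟨hgX, by rw [he]; exact hy⟩⟩, Subtype.ext he⟩
  have hker : ∀ y : ↥Y, φ y = 1 → ((y : ↥H) : G) ∈ core H := by
    intro y hy
    have h1 : (QuotientGroup.mk (y : ↥H) : Iface.Bar H) = 1 := congrArg Subtype.val hy
    exact (mk_eq_one_iff (y : ↥H).2).mp h1
  obtain ⟨P⟩ : Nonempty (Sylow 2 ↥Y) := inferInstance
  have hE2 : IsPGroup 2 ↥E := IsPGroup.of_card (n := 4) (by rw [h16]; norm_num)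
  have hPtop : (P : Subgroup ↥Y).map φ = ⊤ := by
    have h1 := (P.mapSurjective hφ).3 (Q := ⊤) (hE2.of_equiv Subgroup.topEquiv.symm) le_top
    rw [← Sylow.coe_mapSurjective hφ P]
    exact h1.symm
  have hPinj : ∀ y ∈ (P : Subgroup ↥Y), φ y = 1 → y = 1 := by
    intro y hy h1
    have h3 : ((y : ↥H) : G) ∈ core H := hker y h1
    obtain ⟨k, hk⟩ := P.isPGroup' ⟨y, hy⟩
    have h4 : ((y : ↥H) : G) ^ 2 ^ k = 1 := by
      have := congrArg (fun z => (((z : ↥(P : Subgroup ↥Y)) : ↥Y) : ↥H)) hk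
      have h5 := congrArg Subtype.val this
      simpa using h5
    have h6 : orderOf ((y : ↥H) : G) ∣ 2 ^ k := orderOf_dvd_of_pow_eq_one h4
    have h7 : orderOf ((y : ↥H) : G) ∣ Nat.card (core H) := by
      have := orderOf_dvd_natCard (⟨_, h3⟩ : core H)
      rwa [Subgroup.orderOf_mk] at this
    have h8 : orderOf ((y : ↥H) : G) = 1 := by
      have h9 : Nat.Coprime (orderOf ((y : ↥H) : G)) (2 ^ k) :=
        (Nat.coprime_two_right.2 (Odd.of_dvd_nat (odd_card_core H) h7)).pow_right k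
      exact Nat.Coprime.eq_one_of_dvd h9 h6
    exact Subtype.ext (Subtype.ext (orderOf_eq_one_iff.mp h8))
  -- `A`
  obtain ⟨A, hA⟩ : ∃ A : Subgroup G, A = ((P : Subgroup ↥Y).map Y.subtype).map H.subtype := ⟨_, rfl⟩
  have hAm : ∀ a ∈ A, ∃ y ∈ (P : Subgroup ↥Y), ((y : ↥H) : G) = a := by
    intro a ha
    rw [hA] at ha
    obtain ⟨_, ⟨y, hy, rfl⟩, rfl⟩ := ha
    exact ⟨y, hy, rfl⟩
  refine ⟨A, ?_, ?_, ?_, ?_⟩
  · intro a ha
    obtain ⟨y, _, rfl⟩ := hAm a ha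
    exact ((hYm y).mp y.2).1
  · rw [hA, card_map_of_injective H.subtype_injective, card_map_of_injective Y.subtype_injective,
      ← h16]
    have h1 : Nat.card ↥((P : Subgroup ↥Y).map φ) = Nat.card ↥E := by
      rw [hPtop]; exact Subgroup.card_top
    rw [← h1]
    refine Nat.card_congr (Equiv.ofBijective (fun y => (⟨φ y.1, y.1, y.2, rfl⟩ :
      ↥((P : Subgroup ↥Y).map φ))) ⟨?_, ?_⟩)
    · intro y z hyz
      have h2 : φ y.1 = φ z.1 := congrArg Subtype.val hyz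
      have h3 := hPinj (y.1 * z.1⁻¹) (mul_mem y.2 (inv_mem z.2)) (by
        rw [map_mul, map_inv, h2, mul_inv_cancel])
      exact Subtype.ext (mul_inv_eq_one.mp h3)
    · rintro ⟨_, y, hy, rfl⟩
      exact ⟨⟨y, hy⟩, rfl⟩
  · intro a ha
    obtain ⟨y, hy, rfl⟩ := hAm a ha
    have h1 : φ (y * y) = 1 := by
      rw [map_mul]
      exact Subtype.ext (h2 _ (φ y).2)
    have h3 := hPinj _ (mul_mem hy hy) h1
    exact congrArg (fun z : ↥Y => ((z : ↥H) : G)) h3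
  · intro a ha haA
    obtain ⟨y, _, rfl⟩ := hAm a haA
    exact ((hYm y).mp y.2).2

/-- lifting of fixed points -/
theorem cen_lift {H : Subgroup G} {w : G} (hw : w ∈ normalizer (H : Set G)) (hww : w * w = 1)
    {y : Iface.Bar H} (hy : act H ⟨w, hw⟩ y = y) :
    ∃ (c : G) (hc : c ∈ H), c * w = w * c ∧ (QuotientGroup.mk ⟨c, hc⟩ : Iface.Bar H) = y := by
  obtain ⟨⟨m, hm⟩, rfl⟩ := QuotientGroup.mk_surjective y
  rw [act_mk hw hm] at hy
  have h1 := (mk_eq_iff (conj_mem hw hm) hm).mp hy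
  have h2 : m⁻¹ * (w * m * w⁻¹) ∈ core H := by
    have := inv_mem h1
    have e : (((w * m * w⁻¹)⁻¹ * m)⁻¹) = m⁻¹ * (w * m * w⁻¹) := by group
    rwa [e] at this
  obtain ⟨o, ho, hc⟩ := Intrinsic.Lifting.exists_commute (n := 1) (odd_card_core H)
    (by rw [pow_one, pow_two, hww]) (normalizer_le_normalizer_core H hw) h2
  refine ⟨m * o, mul_mem hm (core_le H ho), hc.symm, ?_⟩
  rw [mk_eq_iff (mul_mem hm (core_le H ho)) hm]
  have e : (m * o)⁻¹ * m = o⁻¹ := by group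
  rw [e]
  exact inv_mem ho

/-! ### inner elementary abelian subgroups -/

/-- an elementary abelian subgroup acting on `H / O(H)` by inner automorphisms centralizes a subgroup of `H` of order
16 and exponent 2 -/
theorem exists_comm {H : Subgroup G} (h34 : IsL34 (Iface.Bar H)) {U : Subgroup G}
    (hU : U ≤ normalizer (H : Set G)) (hU2 : ∀ u ∈ U, u * u = 1)
    (inn : ∀ (u : G) (hu : u ∈ U), ∃ l, act H ⟨u, hU hu⟩ = MulAut.conj l) :
    ∃ A : Subgroup G, A ≤ H ∧ Nat.card A = 16 ∧ (∀ a ∈ A, a * a = 1) ∧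
      ∀ u ∈ U, ∀ a ∈ A, u * a = a * u := by
  have hinj : ∀ l : Iface.Bar H, MulAut.conj l = 1 → l = 1 := by
    obtain ⟨e⟩ := FL34.Seven.exists_e h34
    intro l hl
    exact (FL34.D e).conj_eq_one hl
  -- the image of `U` in `H / O(H)`
  let V : Subgroup (Iface.Bar H) :=
    { carrier := {l | ∃ (u : G) (hu : u ∈ U), act H ⟨u, hU hu⟩ = MulAut.conj l}
      mul_mem' := by
        rintro l m ⟨u, hu, h1⟩ ⟨v, hv, h2⟩
        exact ⟨u * v, mul_mem hu hv, by rw [act_mul (hU hu) (hU hv), h1, h2, map_mul]⟩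
      one_mem' := ⟨1, one_mem _, by rw [map_one]; exact map_one (act H)⟩
      inv_mem' := by
        rintro l ⟨u, hu, h1⟩
        exact ⟨u⁻¹, inv_mem hu, by rw [act_inv (hU hu), h1, map_inv]⟩ }
  have hV : ∀ v ∈ V, v * v = 1 := by
    rintro v ⟨u, hu, h1⟩
    apply hinj
    rw [map_mul, ← h1, ← act_mul (hU hu) (hU hu), act_eq_one_iff, hU2 u hu]
    exact fixes_one H
  obtain ⟨E, h16, h2, hc⟩ := FL34.Seven.exists_e16 h34 hV
  obtain ⟨B, hBH, hB16, hB2, hBE⟩ := lift16 le_rfl h16 h2 (by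
    intro y _
    obtain ⟨⟨g, hg⟩, rfl⟩ := QuotientGroup.mk_surjective y
    exact ⟨g, hg, hg, rfl⟩)
  have hB2g : IsPGroup 2 ↥B := isPGroup_of_el (el_of_sq hB2)
  have hU2g : IsPGroup 2 ↥U := isPGroup_of_el (el_of_sq hU2)
  obtain ⟨o, ho, hcc⟩ := exists_commuting (odd_card_core H) hU2g hB2g
    (hU.trans (normalizer_le_normalizer_core H)) (hBH.trans (le_normalizer_core H)) (by
      intro u hu b hb
      obtain ⟨l, hl⟩ := inn u hu
      have hlV : l ∈ V := ⟨u, hu, hl⟩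
      have h3 := hBE b (hBH hb) hb
      have h4 : act H ⟨u, hU hu⟩ (QuotientGroup.mk ⟨b, hBH hb⟩) = QuotientGroup.mk ⟨b, hBH hb⟩ := by
        rw [hl, MulAut.conj_apply, hc l hlV _ h3, mul_inv_cancel_right]
      rw [act_mk (hU hu) (hBH hb)] at h4
      have h5 := (mk_eq_iff (conj_mem (hU hu) (hBH hb)) (hBH hb)).mp h4
      have h6 : b * ((u * b * u⁻¹)⁻¹ * b)⁻¹ * b⁻¹ ∈ core H :=
        conj_mem_core (le_normalizer (hBH hb)) (inv_mem h5)
      have e : b * ((u * b * u⁻¹)⁻¹ * b)⁻¹ * b⁻¹ = ⁅u, b⁆ := by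
        rw [commutatorElement_def]; group
      rwa [e] at h6)
  refine ⟨cj o B, ?_, (card_cj o B).trans hB16, ?_, hcc⟩
  · have h3 := cj_mono (g := o) hBH
    rwa [cj_eq_self_of_mem (core_le H ho)] at h3
  · intro a ha
    exact sq_of_el (el_cj (el_of_sq hB2) _) ha

variable {W H W₁ H₁ : Subgroup G}

/-- **`Wd U = W`** -/
theorem wd_of_inner (T : ThreeBal G) (S : Germ W H) {U : Subgroup G}
    (hU : U ≤ normalizer (H : Set G)) (hU2 : ∀ u ∈ U, u * u = 1) (h16 : 16 ≤ Nat.card U)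
    (inn : ∀ (u : G) (hu : u ∈ U), ∃ l, act H ⟨u, hU hu⟩ = MulAut.conj l) : Wd U = W := by
  obtain ⟨A, hAH, hA16, hA2, hc⟩ := exists_comm S.l34 hU hU2 inn
  by_cases hle : U ≤ A
  · have h1 : U = A := Subgroup.eq_of_le_of_card_ge hle (by rw [hA16]; exact h16)
    rw [h1]
    exact S.wa A hAH hA2 hA16
  have hel : IsElementaryAbelian 2 (U ⊔ A : Subgroup G) := el_sup (el_of_sq hU2) (el_of_sq hA2) hc
  have hne : A ≠ U ⊔ A := fun h => hle (by rw [h]; exact le_sup_left)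
  have h32 : 32 ≤ Nat.card ↥(U ⊔ A : Subgroup G) := by
    have := two_mul_card_le le_sup_right hne
    omega
  rw [Wd_eq T hel h32 le_sup_left h16]
  exact S.Wd_of_le T hAH hA16 hel h32 le_sup_right

/-- the germs have an `E₁₆` in every subgroup covering `H / O(H)` -/
theorem exists_e16_of_cover (S : Germ W H) {B : Subgroup G} (hB : B ≤ H) (hs : B ⊔ core H = H) :
    ∃ A : Subgroup G, A ≤ B ∧ Nat.card A = 16 ∧ (∀ a ∈ A, a * a = 1) := by
  obtain ⟨E, h16, h2, -⟩ := FL34.Seven.exists_e16 S.l34 (V := ⊥) (by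
    intro v hv
    rw [mem_bot] at hv
    rw [hv, one_mul])
  obtain ⟨A, h3, h4, h5, -⟩ := lift16 hB h16 h2 (by
    intro y _
    obtain ⟨⟨g, hg⟩, rfl⟩ := QuotientGroup.mk_surjective y
    have h6 : g ∈ B ⊔ core H := by rw [hs]; exact hg
    obtain ⟨b, hb, o, ho, rfl⟩ := (Res.WPair.mem_sup_left_iff (hB.trans (le_normalizer_core H))).mp h6
    refine ⟨b, hB hb, hb, ?_⟩
    rw [mk_eq_iff (hB hb) hg]
    have e : b⁻¹ * (b * o) = o := by group
    rw [e]; exact ho)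
  exact ⟨A, h3, h4, h5⟩

/-- a sign character of `B` is trivial on the involutions of `B` if `B` covers `H / O(H)` -/
theorem sign_one (S : Germ W H) {B : Subgroup G} (hB : B ≤ H) (hs : B ⊔ core H = H) (χ : ↥B →* ℤˣ)
    {a : G} (ha : a ∈ B) (haa : a * a = 1) : χ ⟨a, ha⟩ = 1 := by
  obtain ⟨r, hr⟩ := FL34.Seven.exists_sqrt S.l34 (s := (QuotientGroup.mk ⟨a, hB ha⟩ : Iface.Bar H)) (by
    have : (QuotientGroup.mk (⟨a, hB ha⟩ * ⟨a, hB ha⟩ : ↥H) : Iface.Bar H) = 1 := by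
      have e : (⟨a, hB ha⟩ * ⟨a, hB ha⟩ : ↥H) = 1 := Subtype.ext haa
      rw [e]; rfl
    exact this)
  obtain ⟨⟨g, hg⟩, rfl⟩ := QuotientGroup.mk_surjective r
  have h6 : g ∈ B ⊔ core H := by rw [hs]; exact hg
  obtain ⟨b, hb, o, ho, rfl⟩ := (Res.WPair.mem_sup_left_iff (hB.trans (le_normalizer_core H))).mp h6
  have h7 : (QuotientGroup.mk ⟨b * o, hg⟩ : Iface.Bar H) = QuotientGroup.mk ⟨b, hB hb⟩ := by
    rw [mk_eq_iff hg (hB hb)]
    have e : (b * o)⁻¹ * b = o⁻¹ := by group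
    rw [e]; exact inv_mem ho
  rw [h7] at hr
  have h8 : (QuotientGroup.mk ⟨b * b, mul_mem (hB hb) (hB hb)⟩ : Iface.Bar H) =
      QuotientGroup.mk ⟨a, hB ha⟩ := hr
  have h9 : (b * b)⁻¹ * a ∈ core H := (mk_eq_iff _ _).mp h8
  have h10 : (b * b)⁻¹ * a ∈ B := mul_mem (inv_mem (mul_mem hb hb)) ha
  have hodd : Odd (orderOf ((b * b)⁻¹ * a)) := by
    refine Odd.of_dvd_nat (odd_card_core H) ?_
    have := orderOf_dvd_natCard (⟨_, h9⟩ : core H)
    rwa [Subgroup.orderOf_mk] at this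
  have h11 : χ ⟨(b * b)⁻¹ * a, h10⟩ = 1 := by
    obtain ⟨k, hk⟩ := hodd
    have h12 : (⟨(b * b)⁻¹ * a, h10⟩ : ↥B) ^ (2 * k + 1) = 1 := by
      apply Subtype.ext
      show ((b * b)⁻¹ * a) ^ (2 * k + 1) = 1
      rw [← hk, pow_orderOf_eq_one]
    have h13 := congrArg χ h12
    rw [map_pow, map_one, pow_succ, pow_mul, Int.units_sq, one_pow, one_mul] at h13
    exact h13
  have h14 : (⟨a, ha⟩ : ↥B) = ⟨b, hb⟩ * ⟨b, hb⟩ * ⟨(b * b)⁻¹ * a, h10⟩ := by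
    apply Subtype.ext
    show a = b * b * ((b * b)⁻¹ * a)
    group
  rw [h14, map_mul, map_mul, h11, mul_one]
  rcases Int.units_eq_one_or (χ ⟨b, hb⟩) with h | h <;> rw [h] <;> rfl

/-- **(0'')** -/
theorem eq_of_cover (T : ThreeBal G) (S : Germ W H) (S₁ : Germ W₁ H₁)
    (hs : (H₁ ⊓ M0 W H) ⊔ core H₁ = H₁) : W₁ = W := by
  obtain ⟨A, hAB, h16, h2⟩ := exists_e16_of_cover S₁ inf_le_left hs
  have hAN : A ≤ normalizer (H : Set G) := fun a ha => (hAB ha).2.2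
  rw [← S₁.wa A (hAB.trans inf_le_left) h2 h16]
  refine wd_of_inner T S hAN h2 h16.ge ?_
  intro a ha
  -- the characters
  let ι : ↥(H₁ ⊓ M0 W H : Subgroup G) →* ↥(normalizer (H : Set G)) := inclusion (fun b hb => hb.2.2)
  have h3 := sign_one S₁ inf_le_left hs (((sF S.l34).comp (act H)).comp ι) (hAB ha) (h2 a ha)
  have h4 := sign_one S₁ inf_le_left hs (((sG S.l34).comp (act H)).comp ι) (hAB ha) (h2 a ha)
  refine FL34.Seven.inner S.l34 ?_ h3 h4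
  rw [← act_mul (hAN ha) (hAN ha), act_eq_one_iff, h2 a ha]
  exact fixes_one H

/-! ### four-groups -/

/-- the subgroup of `H₁ / O(H₁)` covered by a subgroup `X` of `G` -/
def im (X H : Subgroup G) : Subgroup (Iface.Bar H) :=
  (X.subgroupOf H).map (QuotientGroup.mk' (oddCore ↥H))

theorem mem_im {X H : Subgroup G} {y : Iface.Bar H} :
    y ∈ im X H ↔ ∃ (g : G) (hg : g ∈ H), g ∈ X ∧ (QuotientGroup.mk ⟨g, hg⟩ : Iface.Bar H) = y := by
  constructor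
  · rintro ⟨⟨g, hg⟩, h, rfl⟩
    exact ⟨g, hg, h, rfl⟩
  · rintro ⟨g, hg, h, rfl⟩
    exact ⟨⟨g, hg⟩, h, rfl⟩

theorem sup_of_im_top {X H : Subgroup G} (h : im X H = ⊤) : (H ⊓ X) ⊔ core H = H := by
  refine le_antisymm (sup_le inf_le_left (core_le H)) fun k hk => ?_
  have h2 : (QuotientGroup.mk ⟨k, hk⟩ : Iface.Bar H) ∈ im X H := by rw [h]; exact mem_top _
  obtain ⟨g, hg, hgX, he⟩ := mem_im.mp h2
  have h3 := (mk_eq_iff hg hk).mp he
  have h4 : k = g * (g⁻¹ * k) := by group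
  rw [h4]
  exact mul_mem (mem_sup_left ⟨hg, hgX⟩) (mem_sup_right h3)

theorem act_sq {w : G} (hw : w ∈ normalizer (H : Set G)) (hww : w * w = 1) :
    act H ⟨w, hw⟩ * act H ⟨w, hw⟩ = 1 := by
  rw [← act_mul hw hw, act_eq_one_iff, hww]
  exact fixes_one H

theorem act_comm {v w : G} (hv : v ∈ normalizer (H : Set G)) (hw : w ∈ normalizer (H : Set G))
    (h : v * w = w * v) : act H ⟨v, hv⟩ * act H ⟨w, hw⟩ = act H ⟨w, hw⟩ * act H ⟨v, hv⟩ := by
  rw [← map_mul, ← map_mul]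
  congr 1
  exact Subtype.ext h

/-- fixed points of fine involutions -/
theorem fx_le {w : G} (hw : w ∈ normalizer (H₁ : Set G)) (hww : w * w = 1)
    (hf : centralizer ({w} : Set G) ≤ M0 W H) : fx (act H₁ ⟨w, hw⟩) ≤ im (M0 W H) H₁ := by
  intro y hy
  obtain ⟨c, hc, hcw, rfl⟩ := cen_lift hw hww (mem_fx.mp hy)
  exact mem_im.mpr ⟨c, hc, hf (mem_c hcw), rfl⟩

/-- **Two germs and a four-group of fine involutions.** -/
theorem cover (T : ThreeBal G) (S : Germ W H) (S₁ : Germ W₁ H₁)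
    (hn : normalizer (W : Set G) ≤ normalizer (H : Set G)) {x f₁ f₂ : G}
    (k1 : f₁ ∈ K0 W H) (k2 : f₂ ∈ K0 W H) (f11 : f₁ * f₁ = 1) (f22 : f₂ * f₂ = 1)
    (f12 : f₁ * f₂ = f₂ * f₁)
    (fine1 : Fine W f₁) (fine2 : Fine W f₂) (fine3 : Fine W (f₁ * f₂))
    (n1 : f₁ ∈ normalizer (H₁ : Set G)) (n2 : f₂ ∈ normalizer (H₁ : Set G))
    (xn : x ∈ normalizer (H₁ : Set G)) (xx : x * x = 1) (x1 : x * f₁ = f₁ * x) (x2 : x * f₂ = f₂ * x)
    (hx : sF S₁.l34 (act H₁ ⟨x, xn⟩) = -1) : W₁ = W := by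
  have n3 : f₁ * f₂ ∈ normalizer (H₁ : Set G) := mul_mem n1 n2
  have f33 : (f₁ * f₂) * (f₁ * f₂) = 1 := by
    calc f₁ * f₂ * (f₁ * f₂) = f₁ * (f₂ * f₁) * f₂ := by group
      _ = (f₁ * f₁) * (f₂ * f₂) := by rw [← f12]; group
      _ = 1 := by rw [f11, f22, one_mul]
  have cm : ∀ {w : G}, Fine W w → centralizer ({w} : Set G) ≤ M0 W H := fun h c hc =>
    ⟨h hc, hn (h hc)⟩
  -- a fine involution acting trivially on `H₁`
  have triv : ∀ {w : G}, Fine W w → w * w = 1 → Fixes w H₁ → W₁ = W := by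
    intro w hw hww hf
    refine eq_of_cover T S S₁ ?_
    apply le_antisymm (sup_le inf_le_left (core_le H₁))
    calc H₁ = (H₁ ⊓ centralizer ({w} : Set G)) ⊔ core H₁ := (cover_cen hww hf).symm
      _ ≤ (H₁ ⊓ M0 W H) ⊔ core H₁ :=
        sup_le_sup_right (le_inf inf_le_left (inf_le_right.trans (cm hw))) _
  obtain ⟨α, hα⟩ : ∃ α, α = act H₁ ⟨f₁, n1⟩ := ⟨_, rfl⟩
  obtain ⟨β, hβ⟩ : ∃ β, β = act H₁ ⟨f₂, n2⟩ := ⟨_, rfl⟩
  obtain ⟨ξ, hξ⟩ : ∃ ξ, ξ = act H₁ ⟨x, xn⟩ := ⟨_, rfl⟩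
  have hαβ : act H₁ ⟨f₁ * f₂, n3⟩ = α * β := by rw [act_mul n1 n2, hα, hβ]
  rw [← hξ] at hx
  have αα : α * α = 1 := by rw [hα]; exact act_sq n1 f11
  have ββ : β * β = 1 := by rw [hβ]; exact act_sq n2 f22
  have ξξ : ξ * ξ = 1 := by rw [hξ]; exact act_sq xn xx
  have αβ : α * β = β * α := by rw [hα, hβ]; exact act_comm n1 n2 f12
  have ξα : ξ * α = α * ξ := by rw [hξ, hα]; exact act_comm xn n1 x1
  have ξβ : ξ * β = β * ξ := by rw [hξ, hβ]; exact act_comm xn n2 x2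
  by_cases hα1 : α = 1
  · exact triv fine1 f11 ((act_eq_one_iff n1).mp (hα ▸ hα1))
  by_cases hβ1 : β = 1
  · exact triv fine2 f22 ((act_eq_one_iff n2).mp (hβ ▸ hβ1))
  by_cases hγ1 : α * β = 1
  · exact triv fine3 f33 ((act_eq_one_iff n3).mp (hαβ.trans hγ1))
  have hne : α ≠ β := fun h => hγ1 (by rw [h]; exact ββ)
  have q1 : fx α ≤ im (M0 W H) H₁ := by rw [hα]; exact fx_le n1 f11 (cm fine1)
  have q2 : fx β ≤ im (M0 W H) H₁ := by rw [hβ]; exact fx_le n2 f22 (cm fine2)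
  have q3 : fx (α * β) ≤ im (M0 W H) H₁ := by rw [← hαβ]; exact fx_le n3 f33 (cm fine3)
  by_cases ho : sF S₁.l34 α = -1 ∨ sG S₁.l34 α = -1
  · exact eq_of_cover T S S₁ (sup_of_im_top
      (FL34.Seven.gen S₁.l34 αα ββ αβ hβ1 hne ho q1 q2 q3))
  by_cases ho' : sF S₁.l34 β = -1 ∨ sG S₁.l34 β = -1
  · exact eq_of_cover T S S₁ (sup_of_im_top
      (FL34.Seven.gen S₁.l34 ββ αα αβ.symm hα1 (Ne.symm hne) ho' q2 q1 (αβ ▸ q3)))
  -- both inner
  push Not at ho ho'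
  obtain ⟨s, hs⟩ := FL34.Seven.inner S₁.l34 αα ((FL34.Seven.sF_cases _ _).resolve_right ho.1)
    ((FL34.Seven.sG_cases _ _).resolve_right ho.2)
  obtain ⟨t, ht⟩ := FL34.Seven.inner S₁.l34 ββ ((FL34.Seven.sF_cases _ _).resolve_right ho'.1)
    ((FL34.Seven.sG_cases _ _).resolve_right ho'.2)
  have hinj : Function.Injective (MulAut.conj : Iface.Bar H₁ →* MulAut (Iface.Bar H₁)) := by
    obtain ⟨e⟩ := FL34.Seven.exists_e S₁.l34
    exact (FL34.D e).conj_injective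
  have ss : s * s = 1 := by
    apply hinj
    rw [map_mul, ← hs, αα, map_one]
  have tt : t * t = 1 := by
    apply hinj
    rw [map_mul, ← ht, ββ, map_one]
  have s1 : s ≠ 1 := by
    rintro rfl
    exact hα1 (by rw [hs, map_one])
  have t1 : t ≠ 1 := by
    rintro rfl
    exact hβ1 (by rw [ht, map_one])
  have st : s ≠ t := by
    rintro rfl
    exact hne (by rw [hs, ht])
  have hst : s * t = t * s := by
    apply hinj
    rw [map_mul, map_mul, ← hs, ← ht, αβ]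
  have ξs : ξ s = s := by
    apply hinj
    rw [LThreeFour.Dat.conj_map, ← hs, ξα, mul_inv_cancel_right]
  have ξt : ξ t = t := by
    apply hinj
    rw [LThreeFour.Dat.conj_map, ← ht, ξβ, mul_inv_cancel_right]
  rcases FL34.Seven.sG_cases S₁.l34 ξ with hG | hG
  swap
  · exact absurd (FL34.Seven.rank_one S₁.l34 ξξ hx hG ss tt s1 t1 ξs ξt hst) st
  obtain ⟨E, h16, h2, hE⟩ := FL34.Seven.e16' S₁.l34 ξξ hx hG ss tt s1 t1 st ξs ξt hst
  -- the elements of `F`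
  have hF : ∀ v, v = s ∨ v = t ∨ v = s * t → ∃ (w : G) (hw : w ∈ normalizer (H₁ : Set G)),
      w ∈ K0 W H ∧ w * w = 1 ∧ Fine W w ∧ act H₁ ⟨w, hw⟩ = MulAut.conj v := by
    rintro v (rfl | rfl | rfl)
    · exact ⟨f₁, n1, k1, f11, fine1, hα ▸ hs⟩
    · exact ⟨f₂, n2, k2, f22, fine2, hβ ▸ ht⟩
    · exact ⟨f₁ * f₂, n3, mul_mem k1 k2, f33, fine3, by rw [hαβ, hs, ht, map_mul]⟩
  have hEK : E ≤ im (K0 W H) H₁ := by
    apply hE
    intro v hv v' hv' c hc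
    obtain ⟨w, hw, wK, -, -, hwv⟩ := hF v hv
    obtain ⟨w', hw', -, ww', fw', hwv'⟩ := hF v' hv'
    obtain ⟨d, hd, hdw, rfl⟩ := cen_lift (y := c) hw' ww' (by
      rw [hwv', MulAut.conj_apply, ← hc, mul_inv_cancel_right])
    have hdM : d ∈ M0 W H := cm fw' (mem_c hdw)
    have m1 : w * d⁻¹ * w⁻¹ ∈ H₁ := conj_mem hw (inv_mem hd)
    refine mem_im.mpr ⟨d * (w * d⁻¹ * w⁻¹), mul_mem hd m1, ?_, ?_⟩
    · have m2 : d * w * d⁻¹ ∈ K0 W H := conj_mem (M0_le_normalizer hdM) wK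
      have e : d * (w * d⁻¹ * w⁻¹) = (d * w * d⁻¹) * w⁻¹ := by group
      rw [e]
      exact mul_mem m2 (inv_mem wK)
    · have e1 : (QuotientGroup.mk ⟨d * (w * d⁻¹ * w⁻¹), mul_mem hd m1⟩ : Iface.Bar H₁) =
          QuotientGroup.mk ⟨d, hd⟩ * act H₁ ⟨w, hw⟩ (QuotientGroup.mk ⟨d, hd⟩)⁻¹ := rfl
      rw [e1, hwv, MulAut.conj_apply]
      group
  obtain ⟨A, hAX, hA16, hA2, -⟩ := lift16 (H := H₁) (X := H₁ ⊓ K0 W H) inf_le_left h16 h2 (by
    intro y hy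
    obtain ⟨g, hg, hgK, he⟩ := mem_im.mp (hEK hy)
    exact ⟨g, hg, ⟨hg, hgK⟩, he⟩)
  rw [← S₁.wa A (hAX.trans inf_le_left) hA2 hA16]
  have hAN : A ≤ normalizer (H : Set G) := fun a ha => (hAX ha).2.2.1
  refine wd_of_inner T S hAN hA2 hA16.ge fun a ha => ⟨1, ?_⟩
  rw [map_one]
  exact (act_eq_one_iff (hAN ha)).mpr (hAX ha).2.2

end Cfsg.Agent.UGT.N2W.Cover
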