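import Cfsg.Agent.UGT.N2W.FnOf
import Cfsg.Agent.UGT.N2S.OneGlue

/-!
# The good involutions (N2, cores, bb #17697 (2), (8))

* `Two x a L`: a second involution of `C(a) ∩ C(x)` fixing `L`.
* `NoDbl W`: no two triples `(x, z, L)`, `(x, z, N)` of type `L₃(4)`, `L ≠ N`, with `Fn W z L`.
* `pump_fn`: the pump-ups of a triple with `Fn W a L` are trivial, with the same `W`.
* `Gd x W H t`: `t` is good; `Gd.step`, `Gd.all`: all involutions of `K0 W H ∩ C(x)` are good if one is.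
* `Cfg`: the configuration in the single case; `cfg_of`.
-/

set_option autoImplicit false
set_option linter.unusedSectionVars false

open Cfsg Subgroup
open Cfsg.Agent.SignalizersComponents Cfsg.Agent.Lib
open Cfsg.Agent.SignalizersComponents.IntrinsicBasic
open Cfsg.Agent.Intrinsic.Basic Cfsg.Agent.Intrinsic.Cen Cfsg.Agent.Intrinsic.Diag
open Cfsg.Agent.McLLyComp.Act
open Cfsg.Agent.UGT.Triple Cfsg.Agent.UGT.PumpGen Cfsg.Agent.UGT.TriBase
open Cfsg.Agent.UGT.Iface (Bar IsL34)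
open Cfsg.Agent.UGT.Res.Base Cfsg.Agent.UGT.Res.Abel Cfsg.Agent.UGT.Res.CoreFree
open Cfsg.Agent.UGT.Res.WFun (el_of_sq el_mono el_sup el_cj el_zpowers mem_zpowers_of_sq mem_zpowers_sup
  two_mul_card_le card_mul_le_sup exists_commuting isSyl_of_sup)
open Cfsg.Agent.UGT.Res.WPair (M0 K0 mem_M0 mem_K0 K0_le M0_le_normalizer cj_M0 cj_K0 cj_normalizer cj_sup
  cj_commutator cj_le_iff fixes_of_mem_core comm_sup_le mem_sup_left_iff card_sup_mul)
open Cfsg.Agent.UGT.N2S (TT Typ)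
open scoped commutatorElement

namespace Cfsg.Agent.UGT.N2W.Entr

open Fun

universe u

variable {G : Type u} [Group G]

/-- a second involution of `C(a) ∩ C(x)` fixing `L` -/
def Two (x a : G) (L : Subgroup G) : Prop :=
  ∃ t, orderOf t = 2 ∧ t ≠ a ∧ t * a = a * t ∧ t * x = x * t ∧ Fixes t L

/-- no two triples -/
def NoDbl (W : Subgroup G) : Prop :=
  ∀ {x z : G} {L N : Subgroup G}, TT x z L → TT x z N → Fn W z L → L = N

variable [Finite G] {W H L N : Subgroup G} {x a c t : G}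

/-- **the pump-ups are trivial** -/
theorem pump_fn (Wt : Typ G) (T3 : ThreeBal G) (ND : NoDbl W) (T : TT x a L) (F : Fn W a L)
    (oc : orderOf c = 2) (hne : c ≠ a) (hca : c * a = a * c) (hcx : c * x = x * c) (hcL : Fixes c L) :
    ∃ N, TT x c N ∧ Fn W c N ∧ cen L c ⊔ core N = N := by
  have haa := sq_of_order T.inva
  obtain ⟨hJ, hs⟩ := isComp_cen T.comp (mem_c hca) (sq_of_order oc) hcL
  have hJ34 : IsL34 (Bar (cen L c)) := by
    obtain ⟨e, -⟩ := exists_quotEquiv hs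
    exact isL34_congr e.symm T.l34
  obtain ⟨N, S, hN34, hor⟩ := N2S.pump34 N2S.OneGlue.kfs Wt T.toIsTriple T.l34 oc hca hcx hcL
  rcases hor with ⟨haN, hle, hsup⟩ | ⟨hneN, hd⟩
  · have haf : Fixes a N := by
      have h1 : Fixes a (cen L c) := fixes_self' ((cen_le L c).trans T.comp.le)
      exact (fixes_iff_of_sup hsup h1.1 haN).mp h1
    obtain ⟨W', F'⟩ := fn_of Wt T3 oc S.comp hN34 T.inva hne.symm hca.symm haf
    have hWW : W = W' := F.eq_of_cover F' (cen_le L c) hle hJ34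
    exact ⟨N, ⟨S, hN34⟩, hWW ▸ F', hsup⟩
  · exfalso
    have S' : TT x c (cj a N) := by
      have h1 := (⟨S, hN34⟩ : TT x c N).cj a
      rwa [T.comm, mul_inv_cancel_right, ← hca, mul_inv_cancel_right] at h1
    -- an involution of `N^a`
    obtain ⟨A, hA, hA2, hA16⟩ := exists_A S'.l34
    obtain ⟨u, hu, hu1, -⟩ := exists_ne (B := A) (by rw [hA16]; norm_num) 1
    have hou : orderOf u = 2 := orderOf_eq_prime (by rw [pow_two]; exact hA2 u hu) hu1
    have huf : Fixes u N := S.comp.fixes_of_mem S'.comp (Ne.symm hneN) (hA hu)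
    have huc : u ≠ c := by
      rintro rfl
      exact hu1 (eq_one_of_l34 S'.l34 (hA hu) (hA2 u hu) (fixes_self' S'.comp.le))
    obtain ⟨W', F'⟩ := fn_of Wt T3 oc S.comp hN34 hou huc (comm_c (S'.comp.le (hA hu))) huf
    have hWW := link_diag T3 F F' hca hneN hd
    exact hneN (ND ⟨S, hN34⟩ S' (hWW ▸ F')).symm

/-! ### good involutions -/

/-- `t` is good for `(W, H)` -/
def Gd (x : G) (W H : Subgroup G) (t : G) : Prop := ∃ L, TT x t L ∧ Fn W t L ∧ L ⊔ W = H

section gd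

omit [Finite G] in
theorem Gd.cj [Finite G] {g : G} (h : Gd x W H t) (hg : g ∈ M0 W H) (hgx : g * x = x * g) :
    Gd x W H (g * t * g⁻¹) := by
  obtain ⟨L, T, F, hL⟩ := h
  have hW := mem_normalizer_iff_cj.mp hg.1
  have hH := mem_normalizer_iff_cj.mp hg.2
  refine ⟨IntrinsicBasic.cj g L, ?_, ?_, ?_⟩
  · have h1 := T.cj g
    rwa [hgx, mul_inv_cancel_right] at h1
  · have h1 := F.cj g
    rwa [hW] at h1
  · have h1 := congrArg (IntrinsicBasic.cj g) hL
    rwa [cj_sup, hW, hH] at h1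

theorem sup_core (T3 : ThreeBal G) (F : Fn W t L) (hL : L ⊔ W = H) : L ⊔ core H = H := by
  rw [← hL]
  exact F.sup_core T3

theorem Gd.mem_K0 (T3 : ThreeBal G) (h : Gd x W H t) : t ∈ K0 W H := by
  obtain ⟨L, T, F, hL⟩ := h
  have hW : t ∈ normalizer (W : Set G) := F.cent (mem_c rfl)
  have hf : Fixes t L := fixes_self' T.comp.le
  have hH : t ∈ normalizer (H : Set G) := by
    rw [mem_normalizer_iff_cj, ← hL, cj_sup, mem_normalizer_iff_cj.mp hf.1,
      mem_normalizer_iff_cj.mp hW]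
  exact ⟨⟨hW, hH⟩, (fixes_iff_of_sup (sup_core T3 F hL) hf.1 hH).mp hf⟩

theorem Gd.x_mem (h : Gd x W H t) : x ∈ M0 W H := by
  obtain ⟨L, T, F, hL⟩ := h
  have hW : x ∈ normalizer (W : Set G) := F.cent (mem_c T.comm.symm)
  have hH : x ∈ normalizer (H : Set G) := by
    rw [mem_normalizer_iff_cj, ← hL, cj_sup, mem_normalizer_iff_cj.mp T.x_mem,
      mem_normalizer_iff_cj.mp hW]
  exact ⟨hW, hH⟩

theorem Gd.fine (h : Gd x W H t) : Fine W t := by
  obtain ⟨L, T, F, hL⟩ := h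
  exact F.cent

/-- an element of `C(t)` fixing `L_t` -/
theorem mem_K0_of_fixes (T3 : ThreeBal G) {u : G} (F : Fn W t L)
    (hL : L ⊔ W = H) (hut : u * t = t * u) (hf : Fixes u L) : u ∈ K0 W H := by
  have hW : u ∈ normalizer (W : Set G) := F.cent (mem_c hut)
  have hH : u ∈ normalizer (H : Set G) := by
    rw [mem_normalizer_iff_cj, ← hL, cj_sup, mem_normalizer_iff_cj.mp hf.1,
      mem_normalizer_iff_cj.mp hW]
  exact ⟨⟨hW, hH⟩, (fixes_iff_of_sup (sup_core T3 F hL) hf.1 hH).mp hf⟩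

/-- a 2-component of `C` covering `H / O(H)` is normalized by `C ∩ N(H)` -/
theorem mem_normalizer_of_cover {C H L : Subgroup G} (hL : IsComp C L) (hs : L ⊔ core H = H) {c : G}
    (hc : c ∈ C) (hcH : c ∈ normalizer (H : Set G)) : c ∈ normalizer (L : Set G) := by
  rw [mem_normalizer_iff_cj]
  by_contra hne
  have hL' := isComp_cj_of_mem hL hc
  have hs' : cj c L ⊔ core H = H := by
    have h1 := congrArg (cj c) hs
    rw [cj_sup, ← core_cj, mem_normalizer_iff_cj.mp hcH] at h1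
    exact h1
  have h1 := hL.comm_le_core hL' (Ne.symm hne)
  have h2 : ⁅L, cj c L⁆ ≤ core H := h1.trans (inf_le_left.trans (core_le_of_sup hs))
  have hLH : L ≤ H := by
    rw [← hs]
    exact le_sup_left
  have hLH' : cj c L ≤ H := by
    rw [← hs']
    exact le_sup_left
  have h3 := comm_sup_le (hLH.trans (le_normalizer_core H)) (hLH'.trans (le_normalizer_core H))
  rw [hs, hs', sup_of_le_right h2] at h3
  have h4 : L ≤ core H := by
    rw [← hL.perfect]
    exact (commutator_mono hLH hLH).trans h3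
  exact hL.not_odd (odd_card_core H) h4

/-- the elements of `K0 W H` commuting with `t` fix `L_t` -/
theorem fixes_of_K0 (T3 : ThreeBal G) {u : G} (F : Fn W t L)
    (hL : L ⊔ W = H) (hut : u * t = t * u) (hu : u ∈ K0 W H) : Fixes u L := by
  have hn := mem_normalizer_of_cover F.comp (sup_core T3 F hL) (mem_c hut) hu.1.2
  exact (fixes_iff_of_sup (sup_core T3 F hL) hn hu.1.2).mpr hu.2

variable (Wt : Typ G) (T3 : ThreeBal G) (ND : NoDbl W)

include Wt T3 ND

theorem Gd.step {t u : G} (h : Gd x W H t) (hu : u ∈ K0 W H)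
    (ou : orderOf u = 2) (hut : u * t = t * u) (hux : u * x = x * u) : Gd x W H u := by
  by_cases hne : u = t
  · rw [hne]
    exact h
  obtain ⟨L, T, F, hL⟩ := h
  have hf := fixes_of_K0 T3 F hL hut hu
  obtain ⟨N, S, F', hs⟩ := pump_fn Wt T3 ND T F ou hne hut hux hf
  have hs' := (isComp_cen T.comp (mem_c hut) (sq_of_order ou) hf).2
  exact ⟨N, S, F', by rw [← F.sup_eq F' hs' hs, hL]⟩

/-- **all involutions of `K0 W H ∩ C(x)` are good if one is** -/
theorem Gd.all {a : G} (h : Gd x W H a) {t : G} (ht : t ∈ K0 W H)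
    (ot : orderOf t = 2) (htx : t * x = x * t) : Gd x W H t := by
  have haK := h.mem_K0 T3
  obtain ⟨oa, hax⟩ : orderOf a = 2 ∧ a * x = x * a := by
    obtain ⟨L, T, -, -⟩ := h
    exact ⟨T.inva, T.comm⟩
  have haa := sq_of_order oa
  have htt := sq_of_order ot
  obtain ⟨C, hC⟩ : ∃ C, C = K0 W H ⊓ centralizer ({x} : Set G) := ⟨_, rfl⟩
  obtain ⟨Q, hQ, haQ⟩ := exists_isSyl (E := C) (isPGroup_of_el (el_zpowers haa)) (by
    rw [zpowers_le, hC]
    exact ⟨haK, mem_c hax⟩)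
  rw [zpowers_le] at haQ
  have hQ1 : Q ≠ ⊥ := by
    rintro rfl
    exact ne_one_of_order oa (mem_bot.mp haQ)
  have hmem : ∀ {g : G}, g ∈ C → g ∈ K0 W H ∧ g * x = x * g := fun {g} hg => by
    rw [hC] at hg
    exact ⟨hg.1, comm_c hg.2⟩
  obtain ⟨w, hw, hw2, hwc⟩ := exists_central hQ.two le_rfl le_normalizer hQ1
  have hwC := hmem (hQ.le hw)
  have hwG : Gd x W H w := h.step Wt T3 ND hwC.1 hw2 (hwc _ haQ).symm hwC.2
  obtain ⟨k, hk, htk⟩ := hQ.conj (isPGroup_of_el (el_zpowers htt)) (by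
    rw [zpowers_le, hC]
    exact ⟨ht, mem_c htx⟩)
  rw [zpowers_le, mem_cj] at htk
  have hkC := hmem hk
  obtain ⟨t', ht'⟩ : ∃ t', t' = k⁻¹ * t * k := ⟨_, rfl⟩
  rw [← ht'] at htk
  have htt' : k * t' * k⁻¹ = t := by rw [ht']; group
  have ht'C := hmem (hQ.le htk)
  have h1 : Gd x W H t' := by
    refine hwG.step Wt T3 ND ht'C.1 ?_ (hwc _ htk) ht'C.2
    rw [ht', ← ot]
    have := (MulAut.conj k⁻¹).orderOf_eq t
    rw [MulAut.conj_apply, inv_inv] at this
    exact this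
  have h2 := h1.cj (K0_le hkC.1) hkC.2
  rwa [htt'] at h2

end gd

end Cfsg.Agent.UGT.N2W.Entr
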