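import Cfsg.Agent.UGT.N2W.Germ
import Cfsg.Agent.UGT.N2W.LU

/-!
# Fine 2-components of type `L₃(4)` (N2, cores, bb #17697 (2), (8))

* `Fn W z L`: `L` is a 2-component of type `L₃(4)` of `C(z)`, `C(z) ≤ N(W)`, `[O(C(z)), L] ≤ W`, `Wd A = W` for the
  `A ≤ L` elementary abelian of order 16.
* `Fn.uniq`, `Fn.odd`, `Fn.cj`, `Fn.germ : Germ W (L ⊔ W)`.
* `Fn.sup_eq`: `L ⊔ W = N ⊔ W` if `J` covers `L / O(L)` and `N / O(N)`.
-/

set_option autoImplicit false
set_option linter.unusedSectionVars false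

open Cfsg Subgroup
open Cfsg.Agent.SignalizersComponents Cfsg.Agent.Lib
open Cfsg.Agent.SignalizersComponents.IntrinsicBasic
open Cfsg.Agent.Intrinsic.Basic Cfsg.Agent.Intrinsic.Cen Cfsg.Agent.Intrinsic.Diag
open Cfsg.Agent.McLLyComp.Act
open Cfsg.Agent.UGT.Triple Cfsg.Agent.UGT.PumpGen Cfsg.Agent.UGT.TriBase
open Cfsg.Agent.UGT.Iface (Bar IsL34)
open Cfsg.Agent.UGT.Res.Base Cfsg.Agent.UGT.Res.Abel Cfsg.Agent.UGT.Res.CoreFree
open Cfsg.Agent.UGT.Res.WFun (el_of_sq el_mono el_sup el_cj el_zpowers mem_zpowers_of_sq mem_zpowers_sup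
  two_mul_card_le card_mul_le_sup exists_commuting isSyl_of_sup)
open Cfsg.Agent.UGT.Res.WPair (M0 K0 mem_M0 mem_K0 K0_le M0_le_normalizer cj_M0 cj_K0 cj_normalizer cj_sup
  cj_commutator cj_le_iff fixes_of_mem_core comm_sup_le mem_sup_left_iff card_sup_mul)
open scoped commutatorElement

namespace Cfsg.Agent.UGT.N2W

open Fun

variable {G : Type*} [Group G]

/-- a fine 2-component of type `L₃(4)` -/
structure Fn (W : Subgroup G) (z : G) (L : Subgroup G) : Prop where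
  inv : orderOf z = 2
  comp : IsComp (centralizer ({z} : Set G)) L
  l34 : IsL34 (Bar L)
  cent : centralizer ({z} : Set G) ≤ normalizer (W : Set G)
  ck : ∀ w ∈ core (centralizer ({z} : Set G)), ∀ l ∈ L, ⁅l, w⁆ ∈ W
  wa : ∀ A : Subgroup G, A ≤ L → (∀ a ∈ A, a * a = 1) → Nat.card ↥A = 16 → Wd A = W

variable [Finite G] {W W' H L N J : Subgroup G} {z c : G}

/-- the 2-element `g = m c`, `m ∈ S`, `c ∈ N(S)` of odd order, lies in `S` -/
theorem mem_of_pow {S : Subgroup G} {g m c : G} (hg : g = m * c) (hm : m ∈ S)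
    (hc : c ∈ normalizer (S : Set G)) (hodd : Odd (orderOf c)) {n : ℕ} (hn : g ^ 2 ^ n = 1) :
    g ∈ S := by
  have hpow : ∀ q : ℕ, g ^ q * (c ^ q)⁻¹ ∈ S := by
    intro q
    induction q with
    | zero => simp
    | succ q ih =>
      have e : g ^ (q + 1) * (c ^ (q + 1))⁻¹ = (g ^ q * (c ^ q)⁻¹) * (c ^ q * m * (c ^ q)⁻¹) := by
        rw [pow_succ, pow_succ]
        nth_rewrite 2 [hg]
        group
      rw [e]
      exact mul_mem ih (conj_mem (pow_mem hc q) hm)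
  have h10 := hpow (orderOf c)
  rw [pow_orderOf_eq_one, inv_one, mul_one] at h10
  have h11 : g ∈ zpowers (g ^ orderOf c) := by
    rw [mem_zpowers_pow_iff]
    have h12 : orderOf g ∣ 2 ^ n := orderOf_dvd_of_pow_eq_one hn
    exact Nat.Coprime.coprime_dvd_right h12 (Nat.Coprime.pow_right n (Nat.coprime_two_right.mpr hodd))
  exact (zpowers_le.mpr h10) h11

theorem odd_order_of_core {X : Subgroup G} {c : G} (h : c ∈ core X) : Odd (orderOf c) := by
  have h9 := orderOf_dvd_natCard (⟨c, h⟩ : ↥(core X))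
  rw [Subgroup.orderOf_mk] at h9
  exact Odd.of_dvd_nat (odd_card_core _) h9

/-- an `E₁₆` of `L` -/
theorem exists_A (h : IsL34 (Bar L)) : ∃ A ≤ L, (∀ a ∈ A, a * a = 1) ∧ Nat.card ↥A = 16 := by
  obtain ⟨A, hA, h16, hsq, -⟩ := LU.exists_lu (U := (⊥ : Subgroup G)) h (by
    intro u hu
    rw [mem_bot] at hu
    rw [hu, one_mul]) bot_le
  exact ⟨A, hA, hsq, h16⟩

theorem Fn.ne (F : Fn W z L) : z ≠ 1 := ne_one_of_order F.inv

theorem Fn.sq (F : Fn W z L) : z * z = 1 := sq_of_order F.inv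

/-- `W` is determined by `z` and `L` -/
theorem Fn.uniq (F : Fn W z L) (F' : Fn W' c L) : W = W' := by
  obtain ⟨A, hA, h1, h2⟩ := exists_A F.l34
  rw [← F.wa A hA h1 h2, F'.wa A hA h1 h2]

/-- the centre of `Bar L` -/
theorem eq_one_of_l34 (h : IsL34 (Bar L)) {l : G} (hl : l ∈ L) (hll : l * l = 1) (hf : Fixes l L) :
    l = 1 := by
  have hs := isSimple_of_l34 h
  have h2 : ∀ k : Bar L, QuotientGroup.mk (⟨l, hl⟩ : ↥L) * k = k * QuotientGroup.mk ⟨l, hl⟩ := by
    intro k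
    obtain ⟨⟨k, hk⟩, rfl⟩ := QuotientGroup.mk_surjective k
    have h3 := hf.2 k hk
    rw [← QuotientGroup.mk_mul, ← QuotientGroup.mk_mul]
    have h4 : l * k * (k * l)⁻¹ ∈ core L := by
      rw [commutatorElement_def] at h3
      convert h3 using 1
      group
    have h5 : (QuotientGroup.mk ((⟨l, hl⟩ : ↥L) * ⟨k, hk⟩ * ((⟨k, hk⟩ : ↥L) * ⟨l, hl⟩)⁻¹) : Bar L) = 1 :=
      (mk_eq_one_iff (mul_mem (mul_mem hl hk) (inv_mem (mul_mem hk hl)))).mpr h4
    rwa [QuotientGroup.mk_mul, QuotientGroup.mk_inv, mul_inv_eq_one] at h5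
  have h3 : (QuotientGroup.mk (⟨l, hl⟩ : ↥L) : Bar L) ∈ Subgroup.center (Bar L) := by
    rw [Subgroup.mem_center_iff]
    exact fun g => (h2 g).symm
  have h4 : Subgroup.center (Bar L) = ⊥ := by
    rcases (inferInstance : (Subgroup.center (Bar L)).Normal).eq_bot_or_eq_top with h5 | h5
    · exact h5
    · exfalso
      obtain ⟨A, hA, hsq, h16⟩ := exists_A h
      -- `Bar L` abelian and simple, but contains `E₁₆`
      have hcomm : ∀ a b : Bar L, a * b = b * a := fun a b =>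
        (Subgroup.mem_center_iff.mp (h5 ▸ mem_top b) a)
      have hK : ∀ K : Subgroup (Bar L), K = ⊥ ∨ K = ⊤ := by
        intro K
        have hn : K.Normal := ⟨fun n hn g => by rw [hcomm g n, mul_inv_cancel_right]; exact hn⟩
        exact hn.eq_bot_or_eq_top
      obtain ⟨B, hB⟩ : ∃ B : Subgroup (Bar L), B = (A.subgroupOf L).map (QuotientGroup.mk' (oddCore ↥L)) :=
        ⟨_, rfl⟩
      obtain ⟨a, ha, ha1, -⟩ := Res.CoreFree.exists_ne (B := A) (by rw [h16]; norm_num) 1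
      have hmk : ∀ (b : G) (hb : b ∈ L), b ∈ A → b ≠ 1 → (QuotientGroup.mk ⟨b, hb⟩ : Bar L) ≠ 1 := by
        intro b hb hbA hb1 h6
        exact hb1 (eq_one_of_mem_core_sq ((mk_eq_one_iff hb).mp h6) (hsq b hbA))
      have h6 : zpowers (QuotientGroup.mk ⟨a, hA ha⟩ : Bar L) = ⊤ := by
        rcases hK (zpowers (QuotientGroup.mk ⟨a, hA ha⟩ : Bar L)) with h7 | h7
        · rw [zpowers_eq_bot] at h7
          exact absurd h7 (hmk a _ ha ha1)
        · exact h7
      obtain ⟨b, hb, hb1, hba⟩ := Res.CoreFree.exists_ne (B := A) (by rw [h16]; norm_num) a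
      have h7 : (QuotientGroup.mk ⟨b, hA hb⟩ : Bar L) ∈ zpowers (QuotientGroup.mk ⟨a, hA ha⟩ : Bar L) := by
        rw [h6]; exact mem_top _
      have haa : (QuotientGroup.mk ⟨a, hA ha⟩ : Bar L) * QuotientGroup.mk ⟨a, hA ha⟩ = 1 := by
        rw [← QuotientGroup.mk_mul]
        have : (⟨a, hA ha⟩ : ↥L) * ⟨a, hA ha⟩ = 1 := Subtype.ext (hsq a ha)
        rw [this]
        rfl
      rcases (mem_zpowers_of_sq haa).mp h7 with h8 | h8
      · exact hmk b _ hb hb1 h8
      · apply hba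
        have h9 := (mk_eq_iff (hA hb) (hA ha)).mp h8
        have h10 : b⁻¹ * a = 1 := eq_one_of_mem_core_sq h9 (hsq _ (mul_mem (inv_mem hb) ha))
        exact inv_mul_eq_one.mp h10
  rw [h4, mem_bot] at h3
  exact eq_one_of_mem_core_sq ((mk_eq_one_iff hl).mp h3) hll

/-- `W` has odd order -/
theorem Fn.odd (F : Fn W z L) (T : ThreeBal G) : Odd (Nat.card ↥W) := by
  obtain ⟨A, hA, h1, h2⟩ := exists_A F.l34
  have hc : ∀ e ∈ zpowers z, ∀ b ∈ A, e * b = b * e := by
    intro e he b hb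
    rcases (mem_zpowers_of_sq F.sq).mp he with rfl | rfl
    · rw [one_mul, mul_one]
    · exact (comm_c (F.comp.le (hA hb))).symm
  have hzA : z ∉ A := fun h =>
    F.ne (eq_one_of_l34 F.l34 (hA h) F.sq (fixes_self' F.comp.le))
  have hel : IsElementaryAbelian 2 (zpowers z ⊔ A : Subgroup G) := el_sup (el_zpowers F.sq) (el_of_sq h1) hc
  have h32 : 32 ≤ Nat.card ↥(zpowers z ⊔ A : Subgroup G) := by
    have := two_mul_card_le (A := A) (E := zpowers z ⊔ A) le_sup_right (fun h => hzA (by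
      rw [h]
      exact mem_sup_left (mem_zpowers z)))
    omega
  rw [← F.wa A hA h1 h2, Wd_eq T hel h32 le_sup_right h2.ge]
  exact odd_Wd T hel h32

theorem Fn.cj (F : Fn W z L) (g : G) :
    Fn (IntrinsicBasic.cj g W) (g * z * g⁻¹) (IntrinsicBasic.cj g L) where
  inv := by
    have := (MulAut.conj g).orderOf_eq z
    rw [MulAut.conj_apply] at this
    rw [this]
    exact F.inv
  comp := by
    rw [← cj_centralizer]
    exact F.comp.cj g
  l34 := isL34_congr (cjQuot g L) F.l34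
  cent := by
    rw [← cj_centralizer, ← cj_normalizer]
    exact cj_mono F.cent
  ck := by
    intro w hw l hl
    rw [← cj_centralizer, core_cj, mem_cj] at hw
    rw [mem_cj] at hl ⊢
    have h1 := F.ck _ hw _ hl
    convert h1 using 1
    simp only [commutatorElement_def]
    group
  wa := by
    intro A hA hA2 hA16
    have h1 := F.wa (IntrinsicBasic.cj g⁻¹ A) (cj_le_iff.mp hA)
      (fun a ha => sq_of_el (el_cj (el_of_sq hA2) _) ha) ((card_cj _ A).trans hA16)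
    rw [← h1, cj_Wd, cj_cj_inv]

theorem Fn.le_norm (F : Fn W z L) : L ≤ normalizer (W : Set G) := F.comp.le.trans F.cent

theorem Fn.norm_sup (F : Fn W z L) : L ⊔ W ≤ normalizer (W : Set G) := sup_le F.le_norm le_normalizer

theorem Fn.W_le (F : Fn W z L) (T : ThreeBal G) : W ≤ core (L ⊔ W) :=
  le_core le_sup_right F.norm_sup (F.odd T)

theorem Fn.sup_core (F : Fn W z L) (T : ThreeBal G) : L ⊔ core (L ⊔ W) = L ⊔ W :=
  le_antisymm (sup_le le_sup_left (core_le _)) (sup_le_sup_left (F.W_le T) L)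

/-- `[L W, O(L W)] ≤ W` -/
theorem Fn.comm_core (F : Fn W z L) (T : ThreeBal G) {h c : G} (hh : h ∈ L ⊔ W)
    (hc : c ∈ core (L ⊔ W)) : ⁅h, c⁆ ∈ W := by
  obtain ⟨l, hl, w, hw, rfl⟩ := (mem_sup_left_iff F.le_norm).mp hh
  obtain ⟨l', hl', w', hw', rfl⟩ := (mem_sup_left_iff F.le_norm).mp (core_le _ hc)
  have h1 : l' ∈ core (L ⊔ W) := by
    have : l' = l' * w' * w'⁻¹ := by group
    rw [this]
    exact mul_mem hc (inv_mem (F.W_le T hw'))
  have h2 : l' ∈ core L := by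
    have h3 : L ⊓ core (L ⊔ W) ≤ core L := by
      refine le_core inf_le_left ?_ (Odd.of_dvd_nat (odd_card_core _) (card_dvd_of_le inf_le_right))
      intro g hg
      rw [mem_normalizer_iff_cj, cj_inf, cj_eq_self_of_mem hg,
        mem_normalizer_iff_cj.mp (le_normalizer_core (L ⊔ W) (mem_sup_left hg))]
    exact h3 ⟨hl', h1⟩
  have h3 := F.ck l' (F.comp.core_le_core h2) l hl
  have h4 := Res.WPair.comm_mul_mem (F.le_norm hl) (F.le_norm hl') hw hw'
  have h5 : ⁅l * w, l' * w'⁆ = ⁅l, l'⁆ * (⁅l, l'⁆⁻¹ * ⁅l * w, l' * w'⁆) := by group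
  rw [h5]
  exact mul_mem h3 h4

/-- a subgroup `D` of `L W` containing `W` and covering `L W / O(L W)` is `L W` -/
theorem Fn.quasi (F : Fn W z L) (T : ThreeBal G) (D : Subgroup G) (hD : D ≤ L ⊔ W)
    (hs : D ⊔ core (L ⊔ W) = L ⊔ W) : D ⊔ W = L ⊔ W := by
  refine le_antisymm (sup_le hD le_sup_right) (sup_le ?_ le_sup_right)
  have hWc := F.W_le T
  have hcn : core (L ⊔ W) ≤ normalizer ((D ⊔ W : Subgroup G) : Set G) := by
    intro c hc
    have key : IntrinsicBasic.cj c (D ⊔ W) ≤ D ⊔ W := by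
      intro y hy
      rw [mem_cj] at hy
      have hyH : c⁻¹ * y * c ∈ L ⊔ W := (sup_le hD le_sup_right : D ⊔ W ≤ L ⊔ W) hy
      have h1 := F.comm_core T hyH hc
      have h2 : y = ⁅c⁻¹ * y * c, c⁆⁻¹ * (c⁻¹ * y * c) := by
        rw [commutatorElement_def]
        group
      rw [h2]
      exact mul_mem (mem_sup_right (inv_mem h1)) hy
    rw [mem_normalizer_iff_cj]
    exact Subgroup.eq_of_le_of_card_ge key (by rw [card_cj])
  refine F.comp.le_of_two fun g hg n hn => ?_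
  obtain ⟨d, hd, hc⟩ := exists_mul_of_sup hs (mem_sup_left hg)
  exact mem_of_pow (c := d⁻¹ * g) (by group) (mem_sup_left hd) (hcn hc) (odd_order_of_core hc) hn

/-- **the germ** -/
theorem Fn.germ (F : Fn W z L) (T : ThreeBal G) : Germ W (L ⊔ W) where
  Wc := F.W_le T
  nW := F.norm_sup
  l34 := by
    obtain ⟨e, -⟩ := exists_quotEquiv (F.sup_core T)
    exact isL34_congr e F.l34
  perf := by
    refine le_antisymm (sup_le ?_ (core_le _)) ?_
    · exact commutator_le.mpr fun a ha b hb => by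
        rw [commutatorElement_def]
        exact mul_mem (mul_mem (mul_mem ha hb) (inv_mem ha)) (inv_mem hb)
    · refine sup_le ?_ ((F.W_le T).trans le_sup_right)
      calc L = ⁅L, L⁆ := F.comp.perfect.symm
        _ ≤ ⁅L ⊔ W, L ⊔ W⁆ := commutator_mono le_sup_left le_sup_left
        _ ≤ _ := le_sup_left
  quasi := F.quasi T
  wa := by
    intro A hA hA2 hA16
    have h2 : IsPGroup 2 ↥A := isPGroup_of_el (el_of_sq hA2)
    obtain ⟨P, hP, -⟩ := exists_isSyl (E := L) (R₀ := (⊥ : Subgroup G)) IsPGroup.of_bot bot_le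
    have hP' := isSyl_of_sup (F.sup_core T) hP
    obtain ⟨g, hg, hAg⟩ := hP'.conj h2 hA
    have h3 : IntrinsicBasic.cj g⁻¹ A ≤ L := (cj_le_iff.mp hAg).trans hP.le
    have h4 := F.wa _ h3 (fun a ha => sq_of_el (el_cj (el_of_sq hA2) _) ha) ((card_cj _ A).trans hA16)
    have h5 : IntrinsicBasic.cj g (Wd (IntrinsicBasic.cj g⁻¹ A)) = Wd A := by rw [cj_Wd, cj_cj_inv]
    rw [← h5, h4]
    exact mem_normalizer_iff_cj.mp (F.norm_sup hg)
  exk := by
    have hf : Fixes z L := fixes_self' F.comp.le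
    have hW : z ∈ normalizer (W : Set G) := F.cent (mem_c rfl)
    have hH : z ∈ normalizer ((L ⊔ W : Subgroup G) : Set G) := by
      rw [mem_normalizer_iff_cj, cj_sup, mem_normalizer_iff_cj.mp hf.1, mem_normalizer_iff_cj.mp hW]
    exact ⟨z, ⟨⟨hW, hH⟩, (fixes_iff_of_sup (F.sup_core T) hf.1 hH).mp hf⟩, F.sq, F.ne⟩

/-- `L W = J W` if `J` covers `L / O(L)` -/
theorem Fn.sup_eq_J (F : Fn W z L) (hJ : J ⊔ core L = L) : J ⊔ W = L ⊔ W := by
  have hJL : J ≤ L := by rw [← hJ]; exact le_sup_left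
  refine le_antisymm (sup_le_sup_right hJL W) (sup_le ?_ le_sup_right)
  have hJN := hJL.trans F.le_norm
  refine F.comp.le_of_two fun g hg n hn => ?_
  obtain ⟨j, hj, hc⟩ := exists_mul_of_sup hJ hg
  have hc' := F.comp.core_le_core hc
  refine mem_of_pow (c := j⁻¹ * g) (by group) (mem_sup_left hj) ?_ (odd_order_of_core hc) hn
  obtain ⟨c, hcd⟩ : ∃ c, c = j⁻¹ * g := ⟨_, rfl⟩
  rw [← hcd] at hc hc' ⊢
  have hcL : c ∈ L := core_le L hc
  have hle : IntrinsicBasic.cj c (J ⊔ W) ≤ J ⊔ W := by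
    rw [cj_sup]
    refine sup_le ?_ ?_
    · intro y hy
      rw [mem_cj] at hy
      have h2 : y = ⁅c⁻¹ * y * c, c⁆⁻¹ * (c⁻¹ * y * c) := by
        rw [commutatorElement_def]
        group
      rw [h2]
      exact mul_mem (mem_sup_right (inv_mem (F.ck c hc' _ (hJL hy)))) (mem_sup_left hy)
    · rw [mem_normalizer_iff_cj.mp (F.le_norm hcL)]
      exact le_sup_right
  rw [mem_normalizer_iff_cj]
  exact Subgroup.eq_of_le_of_card_ge hle (by rw [card_cj])

/-- **one germ** -/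
theorem Fn.sup_eq (F : Fn W z L) (F' : Fn W c N) (hJ : J ⊔ core L = L) (hJ' : J ⊔ core N = N) :
    L ⊔ W = N ⊔ W := by rw [← F.sup_eq_J hJ, ← F'.sup_eq_J hJ']

/-- a common covering subgroup gives the same `W` -/
theorem Fn.eq_of_cover (F : Fn W z L) (F' : Fn W' c N) (hJL : J ≤ L) (hJN : J ≤ N)
    (h34 : IsL34 (Bar J)) : W = W' := by
  obtain ⟨A, hA, h1, h2⟩ := exists_A h34
  rw [← F.wa A (hA.trans hJL) h1 h2, F'.wa A (hA.trans hJN) h1 h2]

end Cfsg.Agent.UGT.N2W
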