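import Cfsg.Agent.UGT.N2W.IntA
import Cfsg.Agent.UGT.N2W.Fn
import Cfsg.Agent.UGT.Ctl.Main

/-!
# The end of (5) (N2, cores, bb #17697, #18301)

* `Many.core_eq`: `O(X) = W` for the members.
* `Many.ctl`: the configuration of THEOREM CTL.
* `Many.false_of`: `Many W 𝓗`, `W ≠ 1` is impossible in a simple group.
-/

set_option autoImplicit false
set_option linter.unusedSectionVars false

open Cfsg Subgroup
open Cfsg.Agent.SignalizersComponents Cfsg.Agent.Lib
open Cfsg.Agent.SignalizersComponents.IntrinsicBasic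
open Cfsg.Agent.Intrinsic.Basic Cfsg.Agent.Intrinsic.Cen Cfsg.Agent.Intrinsic.Diag
open Cfsg.Agent.McLLyComp.Act
open Cfsg.Agent.UGT.Triple Cfsg.Agent.UGT.PumpGen Cfsg.Agent.UGT.TriBase
open Cfsg.Agent.UGT.Iface (Bar IsL34)
open Cfsg.Agent.UGT.Res.Base Cfsg.Agent.UGT.Res.Abel Cfsg.Agent.UGT.Res.CoreFree
open Cfsg.Agent.UGT.Res.WFun (el_of_sq el_mono)
open Cfsg.Agent.UGT.Res.WPair (M0 K0 mem_M0 mem_K0 K0_le M0_le_normalizer)
open scoped commutatorElement

namespace Cfsg.Agent.UGT.N2W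

open Fun

universe u

variable {G : Type u} [Group G] [Finite G] {W W' X : Subgroup G} {𝓗 𝓗' : Set (Subgroup G)}

/-- **`O(X) = W`** -/
theorem Many.core_eq (M : Many W 𝓗) (hX : X ∈ 𝓗) : core X = W := by
  have hp : Fact (Nat.Prime 2) := ⟨Nat.prime_two⟩
  have S := M.germ X hX
  refine le_antisymm ?_ S.Wc
  obtain ⟨A, hA, hA2, hA16⟩ := exists_A S.l34
  have hE : IsElementaryAbelian 2 A := el_of_sq hA2
  have hE1 : A ≠ ⊥ := by
    rintro h
    rw [h, card_bot] at hA16
    omega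
  have hN2 : ¬ 2 ∣ Nat.card ↥(core X) := by
    rw [← even_iff_two_dvd, Nat.not_even_iff_odd]
    exact odd_card_core X
  have hn : A ≤ normalizer (core X : Set G) := hA.trans (le_normalizer_core X)
  rw [← Lib.CoprimeHyperplane.iSup_centralizer_hyperplane hE hE1 hN2 hn]
  refine iSup_le fun B => ?_
  have h8 : Nat.card ↥B.1 = 2 ^ 3 := by
    have := relIndex_mul_relIndex ⊥ B.1 A bot_le B.2.1
    rw [relIndex_bot_left, relIndex_bot_left, B.2.2, hA16] at this
    omega
  have h1 : signalizerDelta 2 B.1 ≤ W := by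
    rw [← S.wa A hA hA2 hA16]
    exact KFamily.le_WW (X := fun D => signalizerDelta 2 D) B.2.1 h8
  refine le_trans ?_ h1
  unfold signalizerDelta
  refine le_iInf ?_
  rintro ⟨b, hb, hb1⟩
  have hbA := B.2.1 hb
  have hbX := hA hbA
  have hfine := M.fine X hX b hbX (hA2 b hbA) hb1
  have hcn : centralizer ({b} : Set G) ≤ normalizer (X : Set G) := fun g hg =>
    M.toFam.mem_normalizer hX hbX (hA2 b hbA) hb1 (hfine hg) (comm_c hg)
  have h2 : core X ⊓ centralizer ({b} : Set G) ≤ core (centralizer ({b} : Set G)) := by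
    refine le_core inf_le_right ?_ (Odd.of_dvd_nat (odd_card_core _) (card_dvd_of_le inf_le_left))
    intro g hg
    have e1 : g ∈ normalizer (core X : Set G) := normalizer_le_normalizer_core X (hcn hg)
    have e2 := le_normalizer (H := centralizer ({b} : Set G)) hg
    rw [mem_normalizer_iff_cj] at e1 e2 ⊢
    rw [cj_inf, e1, e2]
  exact le_trans (inf_le_inf_left _ (centralizer_le (Set.singleton_subset_iff.mpr hb))) h2

/-- the configuration of THEOREM CTL -/
theorem Many.ctl (T : ThreeBal G) (M : Many W 𝓗) :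
    Ctl.Ctl (normalizer (W : Set G)) W (fun X : ↥𝓗 => (X : Subgroup G)) where
  FH := fun X => M.toFam.nW X.2
  WF := fun X => (M.germ X X.2).W_le
  odd := by
    obtain ⟨X, hX, -⟩ := M.two
    exact M.toFam.odd_W hX
  nW := fun h hh x hx => conj_mem hh hx
  comm := by
    intro X Y hne x hx y hy
    exact M.comm X X.2 Y Y.2 (fun h => hne (Subtype.ext h)) (commutator_mem_commutator hx hy)
  perm := by
    intro h hh X
    exact ⟨⟨_, M.conj h hh X X.2⟩, rfl⟩
  cen := by
    intro X x hx hc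
    have S := M.germ X X.2
    rw [← M.core_eq X.2, ← S.inf_K0]
    refine ⟨hx, S.le_M0 hx, le_normalizer hx, fun y hy => ?_⟩
    exact S.Wc (hc y hy)
  rich := by
    intro X
    obtain ⟨A, hA, hA2, hA16⟩ := exists_A (M.germ X X.2).l34
    obtain ⟨r, hr, hr1, -⟩ := Res.CoreFree.exists_ne (B := A) (by rw [hA16]; norm_num) 1
    obtain ⟨s, hs, hs1, hsr⟩ := Res.CoreFree.exists_ne (B := A) (by rw [hA16]; norm_num) r
    exact ⟨r, hA hr, s, hA hs, hA2 r hr, hA2 s hs, comm_of_el (el_of_sq hA2) hr hs, hr1, hs1, hsr.symm⟩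
  sc1 := by
    intro X u hu huu hu1 g hg
    have M' := M.conj_many g⁻¹
    have h1 : u ∈ normalizer (cj g⁻¹ W : Set G) := by
      rw [← Res.WPair.cj_normalizer, mem_cj, inv_inv]
      exact hg
    have h2 := M.eq_of_mem T M' X.2 hu huu hu1 h1
    have h3 : g⁻¹ ∈ normalizer (W : Set G) := mem_normalizer_iff_cj.mpr h2.symm
    exact inv_mem_iff.mp h3

/-- **(5)** -/
theorem Many.false_of (hG : IsSimpleGroup G) (T : ThreeBal G) (M : Many W 𝓗) (hW : W ≠ ⊥) : False := by
  obtain ⟨X, hX, Y, hY, hne⟩ := M.two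
  have : Nontrivial ↥𝓗 := ⟨⟨X, hX⟩, ⟨Y, hY⟩, fun h => hne (congrArg Subtype.val h)⟩
  have h1 := (M.ctl T).eq_top
  have h2 : W.Normal := normalizer_eq_top_iff.mp h1
  rcases h2.eq_bot_or_eq_top with h | h
  · exact hW h
  · have h3 := M.toFam.odd_W hX
    obtain ⟨A, hA, -, hA16⟩ := exists_A (M.germ X hX).l34
    have h4 : Nat.card ↥A ∣ Nat.card ↥W := card_dvd_of_le (by rw [h]; exact le_top)
    rw [hA16] at h4
    exact (Nat.not_even_iff_odd.mpr h3) (even_iff_two_dvd.mpr (dvd_trans (by norm_num) h4))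

end Cfsg.Agent.UGT.N2W
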