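import Cfsg.Agent.UGT.N2W.Fn
import Cfsg.Agent.UGT.N2W.A34
import Cfsg.Agent.UGT.N2S.HeisOf

/-!
# Existence of `W` (N2, cores, bb #17697 (0), (1))

* `fn_of`: `L` a 2-component of type `L₃(4)` of `C(z)`, `t ≠ z` an involution of `C(z)` fixing `L`: `Fn W z L` for some `W`.
* `link_diag`: `cen L c` the diagonal of the 2-components `N`, `N ^ z` of `C(c)`: the same `W`.
-/

set_option autoImplicit false
set_option linter.unusedSectionVars false

open Cfsg Subgroup
open Cfsg.Agent.SignalizersComponents Cfsg.Agent.Lib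
open Cfsg.Agent.SignalizersComponents.IntrinsicBasic
open Cfsg.Agent.Intrinsic.Basic Cfsg.Agent.Intrinsic.Cen Cfsg.Agent.Intrinsic.Diag
open Cfsg.Agent.McLLyComp.Act
open Cfsg.Agent.UGT.Triple Cfsg.Agent.UGT.PumpGen Cfsg.Agent.UGT.TriBase
open Cfsg.Agent.UGT.Iface (Bar IsL34)
open Cfsg.Agent.UGT.Res.Base Cfsg.Agent.UGT.Res.Abel Cfsg.Agent.UGT.Res.CoreFree
open Cfsg.Agent.UGT.Res.WPair (cj_sup)
open Cfsg.Agent.UGT.Res.WFun (el_of_sq el_mono el_sup el_cj el_zpowers mem_zpowers_of_sq mem_zpowers_sup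
  two_mul_card_le card_mul_le_sup exists_commuting isSyl_of_sup)
open scoped commutatorElement

namespace Cfsg.Agent.UGT.N2W

open Fun

universe u

variable {G : Type u} [Group G] [Finite G] {W W' H L N J : Subgroup G} {z c t : G}

/-- **the functor at `z`** -/
theorem fn_of (Wt : N2S.Typ G) (T : ThreeBal G) (hz : orderOf z = 2)
    (hL : IsComp (centralizer ({z} : Set G)) L) (h34 : IsL34 (Bar L)) (ot : orderOf t = 2)
    (hne : t ≠ z) (htz : t * z = z * t) (hf : Fixes t L) : ∃ W, Fn W z L := by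
  obtain ⟨hJ, hs⟩ := isComp_cen hL (mem_c htz) (sq_of_order ot) hf
  obtain ⟨P, hP, -⟩ := exists_isSyl (E := cen L t) (R₀ := (⊥ : Subgroup G)) IsPGroup.of_bot bot_le
  have hPL := isSyl_of_sup hs hP
  obtain ⟨Z, A, hH⟩ := N2S.HeisOf.exists_heis h34 hPL
  have hZL : Z ≤ L := ((hH.ZA true).trans (hH.AP true)).trans hPL.le
  have hzf : Fixes z L := fixes_self' hL.le
  have S : A34.Sit2 z t L P Z A :=
    { zo := hz
      comp := hL
      l34 := h34
      PL := hPL.le
      heis := hH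
      zo' := ot
      zz' := htz
      zP' := fun p hp => comm_of_mem_cen (hP.le hp)
      nZ := fun h => ne_one_of_order ot (eq_one_of_l34 h34 (hZL h) (sq_of_order ot) hf)
      nzZ := fun h => hne (by
        have h1 := eq_one_of_l34 h34 (hZL h) (by
          calc z * t * (z * t) = z * (t * z) * t := by group
            _ = (z * z) * (t * t) := by rw [htz]; group
            _ = 1 := by rw [sq_of_order hz, sq_of_order ot, one_mul]) (fixes_mul hzf hf)
        rw [eq_inv_of_mul_eq_one_right h1]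
        exact inv_eq_of_mul_eq_one_left (sq_of_order hz)) }
  exact ⟨Wd (A false), hz, hL, h34, S.cent_le T false, fun w hw l hl => S.comm_le Wt T false hl hw,
    fun V hV h1 h2 => S.Wd_of_le T false hV h1 h2⟩

/-- **the diagonal link** -/
theorem link_diag (T : ThreeBal G) (F : Fn W z L) (F' : Fn W' c N) (hcz : c * z = z * c)
    (hne : cj z N ≠ N) (hd : cen L c = diag (centralizer ({c} : Set G)) N z) :
    W = W' := by
  have hzC : z ∈ centralizer ({c} : Set G) := mem_c hcz.symm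
  have hzz := F.sq
  have hN' := isComp_cj_of_mem F'.comp hzC
  -- `Y = N N^z`
  obtain ⟨Y, hY⟩ : ∃ Y, Y = N ⊔ cj z N := ⟨_, rfl⟩
  have hYN : Y ≤ normalizer (N : Set G) := by
    rw [hY]
    exact sup_le le_normalizer fun g hg => (F'.comp.fixes_of_mem hN' (Ne.symm hne) hg).1
  have hzY : z ∈ normalizer (Y : Set G) := by
    rw [mem_normalizer_iff_cj, hY, cj_sup, ← cj_mul, hzz, cj_one, sup_comm]
  obtain ⟨X, hX⟩ : ∃ X, X = Y ⊔ zpowers z := ⟨_, rfl⟩
  have hXY : X ≤ normalizer (Y : Set G) := by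
    rw [hX]
    exact sup_le le_normalizer (zpowers_le.mpr hzY)
  obtain ⟨S, hS, hzS⟩ := exists_isSyl (E := X) (isPGroup_of_el (el_zpowers hzz))
    (by rw [hX]; exact le_sup_right)
  rw [zpowers_le] at hzS
  have hSN := (hS.inf (by rw [hX]; exact le_sup_left) hXY).inf (L := N) (by rw [hY]; exact le_sup_left) hYN
  obtain ⟨P, hP⟩ : ∃ P, P = S ⊓ Y ⊓ N := ⟨_, rfl⟩
  rw [← hP] at hSN
  have hPS : P ≤ S := by rw [hP]; exact inf_le_left.trans inf_le_left
  -- `[P, P^z] = 1`
  have hcomm : ∀ a ∈ P, ∀ b ∈ P, a * (z * b * z⁻¹) = z * b * z⁻¹ * a := by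
    intro a ha b hb
    have h1 : ⁅a, z * b * z⁻¹⁆ ∈ core N :=
      (F'.comp.comm_le_core hN' (Ne.symm hne)
        (commutator_mem_commutator (hSN.le ha) (conj_mem_cj (hSN.le hb)))).1
    have h2 : ⁅a, z * b * z⁻¹⁆ ∈ S := by
      rw [commutatorElement_def]
      have h3 : z * b * z⁻¹ ∈ S := mul_mem (mul_mem hzS (hPS hb)) (inv_mem hzS)
      exact mul_mem (mul_mem (mul_mem (hPS ha) h3) (inv_mem (hPS ha))) (inv_mem h3)
    obtain ⟨n, hn⟩ := hS.two ⟨_, h2⟩
    have h4 : ⁅a, z * b * z⁻¹⁆ ^ 2 ^ n = 1 := by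
      have := congrArg Subtype.val hn
      simpa using this
    have h5 := eq_one_of_mem_core h1 h4
    rwa [commutatorElement_eq_one_iff_mul_comm] at h5
  obtain ⟨Z, A, hH⟩ := N2S.HeisOf.exists_heis F'.l34 hSN
  obtain ⟨B, hB⟩ : ∃ B, B = A false := ⟨_, rfl⟩
  have hBP : B ≤ P := by rw [hB]; exact hH.AP false
  have hB2 : ∀ b ∈ B, b * b = 1 := by rw [hB]; exact hH.Asq false
  have hB16 : Nat.card ↥B = 16 := by rw [hB]; exact hH.cardA false
  have hBc : ∀ a ∈ B, ∀ b ∈ B, a * b = b * a := fun a ha b hb => comm_of_el (el_of_sq hB2) ha hb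
  -- `A = {b b^z}`
  let φ : ↥B →* G :=
    { toFun := fun b => (b : G) * (z * b * z⁻¹)
      map_one' := by simp
      map_mul' := by
        rintro ⟨a, ha⟩ ⟨b, hb⟩
        have h1 := hcomm b (hBP hb) a (hBP ha)
        change a * b * (z * (a * b) * z⁻¹) = a * (z * a * z⁻¹) * (b * (z * b * z⁻¹))
        calc a * b * (z * (a * b) * z⁻¹) = a * (b * (z * a * z⁻¹)) * (z * b * z⁻¹) := by group
          _ = a * (z * a * z⁻¹ * b) * (z * b * z⁻¹) := by rw [h1]
          _ = _ := by group }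
  have hφ : ∀ b : ↥B, φ b = (b : G) * (z * b * z⁻¹) := fun _ => rfl
  have hφ2 : ∀ b : ↥B, φ b * φ b = 1 := by
    intro b
    rw [← map_mul]
    have : b * b = 1 := Subtype.ext (hB2 b b.2)
    rw [this, map_one]
  have hinj : Function.Injective φ := by
    rw [injective_iff_map_eq_one]
    intro b hb
    -- `b = (z b z⁻¹)⁻¹ ∈ N ∩ N^z`
    have h1 : (b : G) = (z * b * z⁻¹)⁻¹ := by
      rw [hφ] at hb
      exact eq_inv_of_mul_eq_one_left hb
    have h2 : (b : G) ∈ cj z N := by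
      rw [h1]
      exact inv_mem (conj_mem_cj (hSN.le (hBP b.2)))
    have h3 := F'.comp.fixes_of_mem hN' (Ne.symm hne) h2
    exact Subtype.ext (eq_one_of_l34 F'.l34 (hSN.le (hBP b.2)) (hB2 b b.2) h3)
  have hr16 : Nat.card ↥φ.range = 16 := by
    rw [← hB16]
    exact (Nat.card_congr (MonoidHom.ofInjective hinj).toEquiv).symm
  have hr2 : ∀ a ∈ φ.range, a * a = 1 := by
    rintro _ ⟨b, rfl⟩
    exact hφ2 b
  have hrL : φ.range ≤ L := by
    have h1 : φ.range ≤ cen L c := by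
      rw [hd]
      rintro _ ⟨b, rfl⟩
      have hbC : (b : G) ∈ centralizer ({c} : Set G) := F'.comp.le (hSN.le (hBP b.2))
      have hbz : (b : G) * (z * b * z⁻¹) = z * b * z⁻¹ * b := hcomm b (hBP b.2) b (hBP b.2)
      have hzi : z⁻¹ = z := inv_eq_of_mul_eq_one_left hzz
      refine mem_diag (k := b) (n := 1) ?_ ?_ (hSN.le (hBP b.2)) ?_ ?_
      · rw [hφ]
        exact (centralizer ({c} : Set G)).mul_mem hbC ((centralizer ({c} : Set G)).mul_mem
          ((centralizer ({c} : Set G)).mul_mem hzC hbC) ((centralizer ({c} : Set G)).inv_mem hzC))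
      · rw [hφ]
        rw [hzi] at hbz ⊢
        calc (b : G) * (z * b * z) * z = b * (z * b) * (z * z) := by group
          _ = b * (z * b) := by rw [hzz, mul_one]
          _ = (z * z) * b * (z * b) := by rw [hzz, one_mul]
          _ = z * ((z * b * z) * b) := by group
          _ = z * (b * (z * b * z)) := by rw [hbz]
      · rw [hφ, inv_mul_cancel]
        exact one_mem _
      · rw [pow_one, pow_two]
        exact hφ2 b
    exact h1.trans (cen_le L c)
  rw [← F.wa _ hrL hr2 hr16, ← F'.wa B (hBP.trans hSN.le) hB2 hB16]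
  refine A34.Wd_of_comm T hr2 hB2 hr16 hB16 ?_
  rintro _ ⟨b, rfl⟩ b' hb'
  rw [hφ]
  have h1 : Commute (b : G) b' := hBc b b.2 b' hb'
  have h2 : Commute (z * b * z⁻¹) b' := (hcomm b' (hBP hb') b (hBP b.2)).symm
  exact (h1.mul_left h2).eq

end Cfsg.Agent.UGT.N2W
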