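import Cfsg.Agent.UGT.N2W.FamFacts

/-!
# Families of germs of type `L₃(4)`: (Kint) (N2, cores, bb #17697 (5))

`k` an involution of a member `X'` of `𝓗'`, normalizing a member `X` of `𝓗` and centralizing an `E₁₆` of `X`:
`W = W'` (`Many.eq_of_e16`).
-/

set_option autoImplicit false
set_option linter.unusedSectionVars false

open Cfsg Subgroup
open Cfsg.Agent.SignalizersComponents Cfsg.Agent.Lib
open Cfsg.Agent.SignalizersComponents.IntrinsicBasic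
open Cfsg.Agent.Intrinsic.Basic Cfsg.Agent.Intrinsic.Cen Cfsg.Agent.Intrinsic.Diag
open Cfsg.Agent.McLLyComp.Act
open Cfsg.Agent.UGT.Triple Cfsg.Agent.UGT.PumpGen Cfsg.Agent.UGT.TriBase
open Cfsg.Agent.UGT.Res.Base Cfsg.Agent.UGT.Res.Abel Cfsg.Agent.UGT.Res.CoreFree
open Cfsg.Agent.UGT.Res.WFun (el_of_sq mem_zpowers_of_sq mem_sup_of_comm)
open Cfsg.Agent.UGT.Res.WPair (M0 K0 K0_le)
open Cfsg.Agent.UGT.Res.WMany (card_sup_zpowers sq_sup_zpowers)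
open scoped commutatorElement

namespace Cfsg.Agent.UGT.N2W

open Fun

variable {G : Type*} [Group G] [Finite G] {W W' : Subgroup G} {𝓗 𝓗' : Set (Subgroup G)}

/-- `k ∉ A` -/
theorem Many.eq_of_e16_aux (T : ThreeBal G) (M : Many W 𝓗) (M' : Many W' 𝓗') {X X' : Subgroup G}
    (hX : X ∈ 𝓗) (hX' : X' ∈ 𝓗') {k : G} (hk : k ∈ X') (kk : k * k = 1) (k1 : k ≠ 1)
    (hkM : k ∈ M0 W X) {A : Subgroup G} (hA : A ≤ X) (hA2 : ∀ a ∈ A, a * a = 1)
    (hA16 : Nat.card ↥A = 16) (hkA : ∀ a ∈ A, k * a = a * k) (hkn : k ∉ A) : W = W' := by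
  obtain ⟨Y, hY, hYX⟩ := M.exists_ne X
  obtain ⟨c, hcK, hcc, hck, hcA, hcn⟩ := M.toFam.exists_c hX hY hYX hkM kk hA hA2 hkA
  have hAk : ∀ a ∈ A, a * k = k * a := fun a ha => (hkA a ha).symm
  have hB2 := sq_sup_zpowers hA2 kk hAk
  have hBc : ∀ b ∈ A ⊔ zpowers k, b * c = c * b := by
    have h1 : A ⊔ zpowers k ≤ centralizer ({c} : Set G) := by
      refine sup_le (fun a ha => ?_) (zpowers_le.mpr ?_)
      · rw [mem_centralizer_singleton_iff]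
        exact (hcA a ha).symm
      · rw [mem_centralizer_singleton_iff]
        exact hck.symm
    exact fun b hb => comm_c (h1 hb)
  have hU2 := sq_sup_zpowers hB2 hcc hBc
  have c1 := card_sup_zpowers hkn
  have c2 := card_sup_zpowers hcn
  have hUe := el_of_sq hU2
  have h64 : 64 ≤ Nat.card ↥(A ⊔ zpowers k ⊔ zpowers c : Subgroup G) := by omega
  have hkU : k ∈ A ⊔ zpowers k ⊔ zpowers c := mem_sup_left (mem_sup_right (mem_zpowers k))
  have hAU : A ≤ A ⊔ zpowers k ⊔ zpowers c := le_sup_left.trans le_sup_left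
  have e1 : Wd (A ⊔ zpowers k ⊔ zpowers c) = W :=
    (M.germ X hX).Wd_of_le T hA hA16 hUe (by omega) hAU
  have hUN : A ⊔ zpowers k ⊔ zpowers c ≤ normalizer (X' : Set G) := by
    intro u hu
    have h1 : u * k = k * u := comm_of_el hUe hu hkU
    exact M'.toFam.mem_normalizer hX' hk kk k1
      (M'.fine X' hX' k hk kk k1 (mem_centralizer_singleton_iff.mpr h1)) h1
  have e2 : Wd (A ⊔ zpowers k ⊔ zpowers c) = W' := (M'.germ X' hX').lu T hUe hUN h64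
  rw [← e1, e2]

/-- **(Kint)**, `k` trivial on `X` -/
theorem Many.eq_of_fix (T : ThreeBal G) (M : Many W 𝓗) (M' : Many W' 𝓗') {X X' : Subgroup G}
    (hX : X ∈ 𝓗) (hX' : X' ∈ 𝓗') {k : G} (hk : k ∈ X') (kk : k * k = 1) (k1 : k ≠ 1)
    (hkK : k ∈ K0 W X) : W = W' := by
  obtain ⟨A, hA, hA2, hA16, hkA⟩ := (M.germ X hX).exists_e16_K0 hkK kk
  refine M.eq_of_e16_aux T M' hX hX' hk kk k1 (K0_le hkK) hA hA2 hA16 hkA fun h => k1 ?_
  exact M.toFam.eq_one_of_mem hX (hA h) kk hkK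

/-- **`k` an involution of a member of `𝓗'`, normalizing a member `X` of `𝓗` and centralizing an `E₁₆` of `X`** -/
theorem Many.eq_of_e16 (T : ThreeBal G) (M : Many W 𝓗) (M' : Many W' 𝓗') {X X' : Subgroup G}
    (hX : X ∈ 𝓗) (hX' : X' ∈ 𝓗') {k : G} (hk : k ∈ X') (kk : k * k = 1) (k1 : k ≠ 1)
    (hkM : k ∈ M0 W X) {A : Subgroup G} (hA : A ≤ X) (hA2 : ∀ a ∈ A, a * a = 1)
    (hA16 : Nat.card ↥A = 16) (hkA : ∀ a ∈ A, k * a = a * k) : W = W' := by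
  by_cases hkn : k ∈ A
  · obtain ⟨Y, hY, hYX⟩ := M.exists_ne X
    exact M.eq_of_fix T M' hY hX' hk kk k1 (M.toFam.le_K0 hY hX hYX.symm (hA hkn))
  · exact M.eq_of_e16_aux T M' hX hX' hk kk k1 hkM hA hA2 hA16 hkA hkn

/-- `k` an involution of a member of `𝓗'`, inner on the member `X` of `𝓗` -/
theorem Many.eq_of_inn (T : ThreeBal G) (M : Many W 𝓗) (M' : Many W' 𝓗') {X X' : Subgroup G}
    (hX : X ∈ 𝓗) (hX' : X' ∈ 𝓗') {k : G} (hk : k ∈ X') (kk : k * k = 1) (k1 : k ≠ 1)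
    (hkM : k ∈ M0 W X) {i : Iface.Bar X} (hi : act X ⟨k, hkM.2⟩ = MulAut.conj i) : W = W' := by
  obtain ⟨A, hA, hA2, hA16, hkA⟩ := (M.germ X hX).exists_e16_inn hkM.2 kk hi
  exact M.eq_of_e16 T M' hX hX' hk kk k1 hkM hA hA2 hA16 hkA

/-- an `E₁₆` acting trivially on a member -/
theorem Fam.Wd_of_K0 (T : ThreeBal G) (F : Fam W 𝓗) {X : Subgroup G} (hX : X ∈ 𝓗) {A : Subgroup G}
    (hA : A ≤ K0 W X) (hA2 : ∀ a ∈ A, a * a = 1) (h32 : 16 ≤ Nat.card ↥A) {E : Subgroup G}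
    (hE : IsElementaryAbelian 2 E) (hE32 : 32 ≤ Nat.card ↥E) (hAE : A ≤ E) : Wd E = W := by
  have hAe := el_of_sq hA2
  -- an `E₁₆` of `X` commuting with `A`
  obtain ⟨V, hV, hV16⟩ := exists_e16_bar (F.germ X hX).l34
  have hle : A ≤ normalizer (X : Set G) := fun a ha => (hA ha).1.2
  obtain ⟨B, hB, hB2, hB16, hBA, -⟩ := exists_lift_cen (H := X) hle (isPGroup_of_el hAe) hV
    fun u hu v _ => act_K0 (hA hu) v
  exact (F.germ X hX).Wd_of_comm T hB (hB16.trans hV16) hB2 hE hE32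
    ⟨A, hAE, h32, fun a ha b hb => (hBA b hb a ha).symm⟩

end Cfsg.Agent.UGT.N2W
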