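import Cfsg.Agent.UGT.FL34.Seven
import Cfsg.Agent.UGT.N2W.LU

/-!
# Facts on `L₃(4)` for (5)(A) of #17697

* `tri`: an automorphism `α` with `α² = 1` is inner, or every involution of `C_L(α)` is a square in `C_L(α)`
  (polarity), or `C_L(α)` is perfect of even order.
* `sol`: the centralizer of an inner involution is solvable.
* `out4`: `β⁴ = 1` implies that `β²` is inner.
* `e16`: an element of square 1 lies in the centralizer of an elementary abelian subgroup of order 16.
-/

set_option autoImplicit false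
set_option linter.constructorNameAsVariable false
set_option linter.unusedVariables false

namespace Cfsg.Agent.UGT.N2W.IntK

open Subgroup Cfsg.Agent.UGT.FL34 Cfsg.Agent.UGT.FL34.Seven
open Cfsg.Agent.SporadicA.FieldFour
open Cfsg.Agent.LThreeFour Cfsg.Agent.LThreeFour.Dat
open Cfsg.Agent.ONType.Psl (PSL3)
open Cfsg.Agent.UGT.ThEL34 (fx mem_fx)
open Cfsg.Agent.UGT.Iface (IsL34)
open Cfsg.Agent.UGT.L34T2.Gen (AA card_AA)
open scoped commutatorElement

universe u

variable {L : Type u} [Group L]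

theorem perf_of (e : PSL3 ≃* L) {α : MulAut L} {τ : Ty} (hs : IsSimpleGroup (fx α))
    (h : (D e).IsTau τ α) : commutator (fx α) = ⊤ ∧ ∃ s ∈ fx α, s * s = 1 ∧ s ≠ 1 := by
  have h02 : (D e).x 0 2 1 ∈ fx α := fx_x02 h
  have h20 : (D e).x 2 0 1 ∈ fx α := fx_x20 h
  refine ⟨?_, _, h02, (D e).x_sq 0 2 (by decide) 1, x02_ne (D e)⟩
  rcases hs.eq_bot_or_eq_top_of_normal (commutator (fx α)) inferInstance with h1 | h1
  · exfalso
    have h2 : ⁅(⟨_, h02⟩ : fx α), (⟨_, h20⟩ : fx α)⁆ ∈ commutator (fx α) := by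
      rw [commutator_def]
      exact commutator_mem_commutator (mem_top _) (mem_top _)
    rw [h1, mem_bot, commutatorElement_eq_one_iff_mul_comm] at h2
    exact x02_x20 (D e) (congrArg Subtype.val h2)
  · exact h1

/-- **trichotomy** -/
theorem tri (h : IsL34 L) {α : MulAut L} (hα : α * α = 1) :
    (∃ l, α = MulAut.conj l) ∨
    (∀ s, s * s = 1 → s ≠ 1 → α s = s → ∃ r, α r = r ∧ r * r = s) ∨
    (commutator (fx α) = ⊤ ∧ ∃ s ∈ fx α, s * s = 1 ∧ s ≠ 1) := by
  rcases sF_cases h α with hF | hF <;> rcases sG_cases h α with hG | hG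
  · exact Or.inl (inner h hα hF hG)
  · right; right
    obtain ⟨e, he⟩ := outer h hα (b := false) (c := true) hF hG (by decide)
    refine perf_of e ?_ he
    rw [eq_tr e isTau_g0 he]
    have := simple_g0
    exact MulEquiv.isSimpleGroup (fxEquiv e g0)
  · right; right
    obtain ⟨e, he⟩ := outer h hα (b := true) (c := false) hF hG (by decide)
    refine perf_of e ?_ he
    rw [eq_tr e isTau_f0 he]
    have := simple_f0
    exact MulEquiv.isSimpleGroup (fxEquiv e f0)
  · right; left
    obtain ⟨e⟩ := exists_e h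
    have hb := bits_of h e (b := true) (c := true) hF hG
    exact fun s ss s1 hs => sq4 e hα hb s ss s1 hs

theorem sol (h : IsL34 L) {s : L} (ss : s * s = 1) (s1 : s ≠ 1) :
    Group.IsSolvable (centralizer ({MulAut.conj s} : Set (MulAut L))) := by
  obtain ⟨e⟩ := exists_e h
  exact sols e s ss s1

theorem out4 (h : IsL34 L) {b : MulAut L} (hb : b ^ 4 = 1) : ∃ l, b * b = MulAut.conj l := by
  obtain ⟨e⟩ := exists_e h
  exact FL34.out4 e b hb

/-- an elementary abelian subgroup of order 16 centralizing `l` -/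
theorem e16 (h : IsL34 L) {l : L} (hl : l * l = 1) (h1 : l ≠ 1) :
    ∃ A : Subgroup L, Nat.card ↥A = 16 ∧ (∀ a ∈ A, a * a = 1) ∧ ∀ a ∈ A, l * a = a * l := by
  obtain ⟨e⟩ := exists_e h
  obtain ⟨e', he⟩ := exists_x02 e hl h1
  refine ⟨AA (D e') false, card_AA (D e') false, fun a ha => LU.AA_sq (D e') false ha, ?_⟩
  intro a ha
  obtain ⟨p, rfl, -⟩ := ha
  rw [← he]
  exact (cent_x02.2 ((D e').el_mem _)).symm

theorem conj_inj (h : IsL34 L) : Function.Injective (MulAut.conj : L →* MulAut L) := by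
  obtain ⟨e⟩ := exists_e h
  exact (D e).conj_injective

end Cfsg.Agent.UGT.N2W.IntK
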