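import Cfsg.Agent.UGT.N2W.Germ
import Cfsg.Agent.UGT.N2W.LU
import Cfsg.Agent.UGT.FL34.Main
import Cfsg.Agent.UGT.Res.WMany.Fam

/-!
# UGT N2, cores, (5)(A)(β) of #17697: an involution of a member moving a member of the other family

`Many.eq_of_move`: `t ∈ X ∈ 𝓗`, `t ∈ N(W')`, `t` moves `X' ∈ 𝓗'`: `W = W'`.
-/

set_option autoImplicit false
set_option linter.unusedSectionVars false

open Cfsg Subgroup
open Cfsg.Agent.SignalizersComponents Cfsg.Agent.Lib
open Cfsg.Agent.SignalizersComponents.IntrinsicBasic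
open Cfsg.Agent.Intrinsic.Basic Cfsg.Agent.Intrinsic.Cen Cfsg.Agent.Intrinsic.Diag
open Cfsg.Agent.McLLyComp.Act
open Cfsg.Agent.UGT.Triple Cfsg.Agent.UGT.PumpGen Cfsg.Agent.UGT.TriBase
open Cfsg.Agent.UGT.Iface (IsL34 Bar)
open Cfsg.Agent.UGT.Res.Base Cfsg.Agent.UGT.Res.Abel Cfsg.Agent.UGT.Res.CoreFree
open Cfsg.Agent.UGT.Res.WFun (el_of_sq el_mono el_sup el_cj el_zpowers mem_zpowers_of_sq mem_zpowers_sup
  two_mul_card_le card_mul_le_sup exists_commuting)
open Cfsg.Agent.UGT.Res.WPair (M0 K0 mem_M0 mem_K0 K0_le M0_le_normalizer cj_M0 cj_K0 cj_normalizer cj_sup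
  cj_commutator cj_le_iff fixes_of_mem_core comm_sup_le mem_sup_left_iff card_sup_mul)
open Cfsg.Agent.UGT.Res.WMany (comm_of_K0 exists_R odd_sup eq_one_of_two_odd)
open scoped commutatorElement

namespace Cfsg.Agent.UGT.N2W.Move

open Fun

universe u

variable {G : Type u} [Group G]

/-- a coset of a subgroup of odd order, fixed by an involution, contains a fixed element -/
theorem exists_comm_mul [Finite G] {O : Subgroup G} (hO : Odd (Nat.card ↥O)) {t c : G}
    (tt : t * t = 1) (h : c⁻¹ * t * c * t ∈ O) : ∃ w ∈ O, t * (c * w) = c * w * t := by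
  obtain ⟨j, hj⟩ := hO
  obtain ⟨s, hs⟩ : ∃ s, s = c⁻¹ * t * c := ⟨_, rfl⟩
  rw [← hs] at h
  have ss : s * s = 1 := by
    rw [hs]
    calc c⁻¹ * t * c * (c⁻¹ * t * c) = c⁻¹ * (t * t) * c := by group
      _ = 1 := by rw [tt]; group
  obtain ⟨a, ha⟩ : ∃ a, a = s * t := ⟨_, rfl⟩
  have hpow : a ^ (2 * j + 1) = 1 := by
    rw [← hj, ha]
    have := pow_card_eq_one' (x := (⟨s * t, h⟩ : ↥O))
    exact congrArg Subtype.val this
  have hinv : SemiconjBy t a a⁻¹ := by
    change t * a = a⁻¹ * t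
    rw [ha, mul_inv_rev]
    calc t * (s * t) = t⁻¹ * s⁻¹ * t := by
          rw [inv_eq_of_mul_eq_one_left tt, inv_eq_of_mul_eq_one_left ss, mul_assoc]
      _ = _ := rfl
  refine ⟨a ^ (j + 1), by rw [ha]; exact pow_mem h _, ?_⟩
  have h1 : t * a ^ (j + 1) = (a⁻¹) ^ (j + 1) * t := (hinv.pow_right (j + 1))
  have h2 : (a⁻¹) ^ j = a ^ (j + 1) := by
    rw [inv_pow, inv_eq_iff_mul_eq_one, ← pow_add]
    convert hpow using 2
    ring
  have h3 : a ^ (j + 1) * t = s * a ^ (j + 1) := by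
    have h4 : s = a * t := by rw [ha, mul_assoc, tt, mul_one]
    calc a ^ (j + 1) * t = (a⁻¹) ^ j * t := by rw [h2]
      _ = a * (a⁻¹) ^ (j + 1) * t := by rw [pow_succ' (a⁻¹), ← mul_assoc, mul_inv_cancel, one_mul]
      _ = a * (t * a ^ (j + 1)) := by rw [h1, mul_assoc]
      _ = s * a ^ (j + 1) := by rw [h4, mul_assoc]
  have h5 : t * c = c * s := by rw [hs]; group
  calc t * (c * a ^ (j + 1)) = t * c * a ^ (j + 1) := by group
    _ = c * (s * a ^ (j + 1)) := by rw [h5, mul_assoc]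
    _ = _ := by rw [← h3, mul_assoc]

variable [Finite G] {W W' X X' H P : Subgroup G} {𝓗 𝓗' : Set (Subgroup G)} {t : G}

/-- different members act trivially on each other -/
theorem le_K0 (F : Fam W 𝓗) {X Y : Subgroup G} (hX : X ∈ 𝓗) (hY : Y ∈ 𝓗) (hne : Y ≠ X) :
    Y ≤ K0 W X := by
  have h1 := F.comm Y hY X hX hne
  have hWX : W ≤ X := (F.germ X hX).W_le
  have key : ∀ y ∈ Y, ∀ x ∈ X, ⁅y, x⁆ ∈ W := fun y hy x hx => h1 (commutator_mem_commutator hy hx)
  have hn : ∀ y ∈ Y, ∀ x ∈ X, y * x * y⁻¹ ∈ X := by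
    intro y hy x hx
    have h2 : y * x * y⁻¹ = ⁅y, x⁆ * x := by
      rw [commutatorElement_def]
      group
    rw [h2]
    exact mul_mem (hWX (key y hy x hx)) hx
  have hN : Y ≤ normalizer (X : Set G) := by
    intro y hy
    rw [mem_normalizer_iff]
    refine fun x => ⟨hn y hy x, fun h => ?_⟩
    have h2 := hn _ (inv_mem hy) _ h
    have h3 : y⁻¹ * (y * x * y⁻¹) * y⁻¹⁻¹ = x := by group
    rwa [h3] at h2
  intro y hy
  exact ⟨⟨(F.germ Y hY).nW hy, hN hy⟩, hN hy, fun x hx => (F.germ X hX).Wc (key y hy x hx)⟩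

/-- an element of `N(W)` commuting with an involution of `X` normalises `X` -/
theorem mem_M0_of_comm (F : Fam W 𝓗) (hX : X ∈ 𝓗) (ht : t ∈ X) (tt : t * t = 1) (t1 : t ≠ 1)
    {c : G} (hc : c ∈ normalizer (W : Set G)) (hct : c * t = t * c) : c ∈ M0 W X := by
  refine ⟨hc, mem_normalizer_iff_cj.mpr ?_⟩
  by_contra hne
  have h1 := F.conj c hc X hX
  have h2 : t ∈ cj c X := by
    rw [mem_cj]
    have : c⁻¹ * t * c = t := by rw [mul_assoc, ← hct, inv_mul_cancel_left]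
    rwa [this]
  exact t1 ((F.germ X hX).eq_one_of ht tt (le_K0 F hX h1 hne h2))

/-- an `E₁₆` in a Sylow 2-subgroup of `H`, `H / O(H) ≅ L₃(4)` -/
theorem exists_e16_syl (h34 : IsL34 (Bar H)) (hP : IsSyl H P) :
    ∃ A ≤ P, Nat.card ↥A = 16 ∧ ∀ a ∈ A, a * a = 1 := by
  have hPc : 64 ≤ Nat.card ↥P :=
    Nat.le_of_dvd Nat.card_pos (hP.dvd_card (k := 6) (LSup.card_dvd h34))
  have hone : ∀ p ∈ P, p ∈ core H → p = 1 := fun p hp hc => LSup.eq_one_of_core hc hP.two hp
  let f : ↥P →* Bar H := (QuotientGroup.mk' (oddCore ↥H)).comp (inclusion hP.le)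
  have hf : ∀ p (hp : p ∈ P), f ⟨p, hp⟩ = QuotientGroup.mk ⟨p, hP.le hp⟩ := fun p hp => rfl
  have hinj : Function.Injective f := by
    rw [injective_iff_map_eq_one]
    rintro ⟨p, hp⟩ h1
    rw [hf, mk_eq_one_iff (hP.le hp)] at h1
    exact Subtype.ext (hone p hp h1)
  have hPb2 : IsPGroup 2 ↥f.range :=
    hP.two.of_surjective f.rangeRestrict f.rangeRestrict_surjective
  have hPbc : 64 ≤ Nat.card ↥f.range := by
    rw [← Nat.card_congr (MonoidHom.ofInjective hinj).toEquiv]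
    exact hPc
  obtain ⟨A', hA'P, -, hA'c, hA'sq⟩ := LU.exists_E16 (B := ⊥) h34 hPb2 hPbc bot_le (by
    intro b hb
    rw [mem_bot.mp hb, mul_one])
  refine ⟨(A'.comap f).map P.subtype, map_subtype_le _, ?_, ?_⟩
  · rw [card_map_of_injective P.subtype_injective,
      ← card_map_of_injective (K := A'.comap f) hinj, map_comap_eq, inf_of_le_right hA'P, hA'c]
  · rintro _ ⟨p, hp, rfl⟩
    have h1 : f (p * p) = 1 := by
      rw [map_mul]; exact hA'sq _ hp
    exact congrArg Subtype.val ((injective_iff_map_eq_one f).mp hinj _ h1)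

/-- an `E₁₆` of `H` commuting with a 2-subgroup of `K0 W H` -/
theorem exists_e16_comm (h34 : IsL34 (Bar H)) {Q : Subgroup G} (hQ : IsPGroup 2 ↥Q)
    (hQK : Q ≤ K0 W H) : ∃ A ≤ H, Nat.card ↥A = 16 ∧ (∀ a ∈ A, a * a = 1) ∧
      ∀ q ∈ Q, ∀ a ∈ A, q * a = a * q := by
  obtain ⟨R, hR, hQR, -, hP⟩ := exists_R (hQK.trans K0_le) hQ
  obtain ⟨A, hA, hAc, hA2⟩ := exists_e16_syl h34 hP
  exact ⟨A, hA.trans inf_le_right, hAc, hA2,
    fun q hq a ha => comm_of_K0 hR (hQR hq) (hQK hq) (hA ha).1 (hA ha).2⟩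

/-- an `E₁₆` in `K0 W H` has the functor value `W` -/
theorem Wd_of_K0 (T : ThreeBal G) (S : Germ W H) {B : Subgroup G} (hBK : B ≤ K0 W H)
    (hB2 : ∀ b ∈ B, b * b = 1) (hB16 : 16 ≤ Nat.card ↥B) : Wd B = W := by
  obtain ⟨A, hA, hAc, hA2, hcomm⟩ := exists_e16_comm S.l34 (isPGroup_of_el (el_of_sq hB2)) hBK
  have hel : IsElementaryAbelian 2 (B ⊔ A : Subgroup G) := el_sup (el_of_sq hB2) (el_of_sq hA2) hcomm
  have hne : A ≠ B ⊔ A := by
    intro h
    have h1 : B ≤ A := by rw [h]; exact le_sup_left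
    have h2 := S.inf_bot hBK hA hA2
    rw [inf_of_le_left h1] at h2
    rw [h2, card_bot] at hB16
    omega
  have h32 : 32 ≤ Nat.card ↥(B ⊔ A : Subgroup G) := by
    have := two_mul_card_le le_sup_right hne
    omega
  rw [Wd_eq T hel h32 le_sup_left hB16]
  exact S.Wd_of_le T hA hAc hel h32 le_sup_right

/-- the derived series of `C` covers a perfect subgroup -/
theorem le_map_derivedSeries {C M : Type*} [Group C] [Group M] (α : C →* M) {I : Subgroup M}
    (hI : I ≤ ⁅I, I⁆) (hr : I ≤ α.range) (n : ℕ) : I ≤ (derivedSeries C n).map α := by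
  induction n with
  | zero => rw [derivedSeries_zero, ← MonoidHom.range_eq_map]; exact hr
  | succ n ih =>
    rw [derivedSeries_succ, map_commutator]
    exact hI.trans (commutator_mono ih ih)

/-- the inner automorphisms of `H / O(H)` form a perfect group -/
theorem perfect_inn (S : Germ W H) :
    (MulAut.conj : Bar H →* MulAut (Bar H)).range ≤
      ⁅(MulAut.conj : Bar H →* MulAut (Bar H)).range, (MulAut.conj : Bar H →* MulAut (Bar H)).range⁆ := by
  have h1 := isSimple_of_l34 S.l34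
  have h2 : commutator (Bar H) = ⊤ := by
    rcases (inferInstance : (commutator (Bar H)).Normal).eq_bot_or_eq_top with h | h
    · exfalso
      have h3 : ⁅H, H⁆ ≤ core H := by
        rw [commutator_le]
        intro a ha b hb
        have h4 : ⁅(QuotientGroup.mk ⟨a, ha⟩ : Bar H), (QuotientGroup.mk ⟨b, hb⟩ : Bar H)⁆ ∈
            commutator (Bar H) := commutator_mem_commutator (mem_top _) (mem_top _)
        rw [h, mem_bot] at h4
        have hab : ⁅a, b⁆ ∈ H := by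
          rw [commutatorElement_def]
          exact mul_mem (mul_mem (mul_mem ha hb) (inv_mem ha)) (inv_mem hb)
        exact (mk_eq_one_iff hab).mp h4
      apply S.even
      have h4 := S.perf
      rwa [sup_of_le_right h3] at h4
    · exact h
  rw [MonoidHom.range_eq_map, ← map_commutator]
  exact map_mono h2.symm.le

section move

variable (M : Many W 𝓗) (M' : Fam W' 𝓗') (hX : X ∈ 𝓗) (ht : t ∈ X) (tt : t * t = 1) (t1 : t ≠ 1)
  (htM : t ∈ normalizer (W' : Set G)) (hX' : X' ∈ 𝓗') (hne : cj t X' ≠ X')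

include M' tt htM hX' hne in
/-- the group `{a a^t}` -/
theorem exists_diag16 (T : ThreeBal G) : ∃ B : Subgroup G, (∀ b ∈ B, b * t = t * b) ∧
    (∀ b ∈ B, b * b = 1) ∧ Nat.card ↥B = 16 ∧ Wd B = W' ∧
    ∀ b ∈ B, ∃ a ∈ X', b = a * (t * a * t⁻¹) := by
  have hti : t⁻¹ = t := inv_eq_of_mul_eq_one_left tt
  have hY' : cj t X' ∈ 𝓗' := M'.conj t htM X' hX'
  have hYK : cj t X' ≤ K0 W' X' := le_K0 M' hX' hY' hne
  have hN0 : X' ⊔ cj t X' ≤ normalizer (X' : Set G) :=
    sup_le le_normalizer (fun y hy => (hYK hy).1.2)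
  have htt : cj t (cj t X') = X' := by rw [← cj_mul, tt, cj_one]
  have htN : cj t (X' ⊔ cj t X') = X' ⊔ cj t X' := by
    rw [cj_sup, htt, sup_comm]
  obtain ⟨R, hR, htR⟩ := exists_isSyl (E := (X' ⊔ cj t X') ⊔ zpowers t)
    (isPGroup_of_el (el_zpowers tt)) le_sup_right
  have h1 := hR.inf (L := X' ⊔ cj t X') le_sup_left (sup_le le_normalizer
    (zpowers_le.mpr (mem_normalizer_iff_cj.mpr htN)))
  have h2 := h1.inf (L := X') le_sup_left hN0
  obtain ⟨A, hA, hAc, hA2⟩ := exists_e16_syl (M'.germ X' hX').l34 h2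
  have hAX : A ≤ X' := hA.trans inf_le_right
  have hAR : ∀ a ∈ A, a ∈ R := fun a ha => (hA ha).1.1
  have htR' : t ∈ R := htR (mem_zpowers t)
  have htA : ∀ a ∈ A, t * a * t⁻¹ ∈ cj t X' := fun a ha => conj_mem_cj (hAX ha)
  have hcomm : ∀ a ∈ A, ∀ b ∈ A, (t * a * t⁻¹) * b = b * (t * a * t⁻¹) := fun a ha b hb =>
    comm_of_K0 hR.two (mul_mem (mul_mem htR' (hAR a ha)) (inv_mem htR')) (hYK (htA a ha))
      (hAR b hb) (hAX hb)
  let δ : ↥A →* G :=
    { toFun := fun a => (a : G) * (t * a * t⁻¹)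
      map_one' := by
        change (1 : G) * (t * 1 * t⁻¹) = 1
        group
      map_mul' := by
        intro a b
        change (a : G) * b * (t * (a * b) * t⁻¹) = (a : G) * (t * a * t⁻¹) * (b * (t * b * t⁻¹))
        have h3 := hcomm a a.2 b b.2
        calc (a : G) * b * (t * (a * b) * t⁻¹) = a * (b * (t * a * t⁻¹)) * (t * b * t⁻¹) := by group
          _ = a * ((t * a * t⁻¹) * b) * (t * b * t⁻¹) := by rw [h3]
          _ = _ := by group }
  have hδ : ∀ a : ↥A, δ a = (a : G) * (t * a * t⁻¹) := fun a => rfl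
  have hmovA : ∀ a ∈ A, a ∈ cj t X' → a = 1 := fun a ha h =>
    (M'.germ X' hX').eq_one_of (hAX ha) (hA2 a ha) (hYK h)
  have hinj : Function.Injective δ := by
    rw [injective_iff_map_eq_one]
    intro a ha
    rw [hδ] at ha
    have h3 : (a : G) = (t * a * t⁻¹)⁻¹ := eq_inv_of_mul_eq_one_left ha
    exact Subtype.ext (hmovA a a.2 (h3 ▸ inv_mem (htA a a.2)))
  have hBc : Nat.card ↥δ.range = 16 := by
    rw [← Nat.card_congr (MonoidHom.ofInjective hinj).toEquiv, hAc]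
  have hB2 : ∀ b ∈ δ.range, b * b = 1 := by
    rintro _ ⟨a, rfl⟩
    rw [← map_mul]
    have : a * a = 1 := Subtype.ext (hA2 a a.2)
    rw [this, map_one]
  have hU : IsElementaryAbelian 2 (A ⊔ cj t A : Subgroup G) := by
    refine el_sup (el_of_sq hA2) (el_cj (el_of_sq hA2) t) ?_
    intro e he f hf
    rw [mem_cj] at hf
    have h3 := hcomm _ hf e he
    have h4 : t * (t⁻¹ * f * t) * t⁻¹ = f := by group
    rw [h4] at h3
    exact h3.symm
  have hBU : δ.range ≤ A ⊔ cj t A := by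
    rintro _ ⟨a, rfl⟩
    exact mul_mem (mem_sup_left a.2) (mem_sup_right (conj_mem_cj a.2))
  have hAne : A ≠ A ⊔ cj t A := by
    intro h
    have h3 : cj t A ≤ A := by nth_rewrite 2 [h]; exact le_sup_right
    have h4 : A ≤ ⊥ := by
      intro a ha
      rw [mem_bot]
      have h5 : t * a * t⁻¹ ∈ A := h3 (conj_mem_cj ha)
      have h6 := hmovA _ h5 (htA a ha)
      rwa [conj_eq_one_iff] at h6
    have h5 := card_le_of_le h4
    rw [hAc, card_bot] at h5
    omega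
  have h32 : 32 ≤ Nat.card ↥(A ⊔ cj t A : Subgroup G) := by
    have := two_mul_card_le le_sup_left hAne
    omega
  refine ⟨δ.range, ?_, hB2, hBc, ?_, ?_⟩
  · rintro _ ⟨a, rfl⟩
    rw [hδ]
    have h3 := hcomm a a.2 a a.2
    calc (a : G) * (t * a * t⁻¹) * t = (t * a * t⁻¹) * a * t := by rw [h3]
      _ = t * (a * (t * a * t⁻¹)) := by
          rw [hti]
          calc t * a * t * a * t = t * (a * (t * a * t)) := by group
            _ = _ := rfl
  · rw [Wd_eq T hU h32 hBU hBc.ge]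
    exact (M'.germ X' hX').Wd_of_le T hAX hAc hU h32 le_sup_left
  · rintro _ ⟨a, rfl⟩
    exact ⟨a, hAX a.2, rfl⟩

include M M' hX ht tt t1 htM hX' hne in
/-- **(β)** -/
theorem eq_of_move (T : ThreeBal G) : W = W' := by
  obtain ⟨B, hBt, hB2, hBc, hBW, hBform⟩ := exists_diag16 M' tt htM hX' hne T
  have hti : t⁻¹ = t := inv_eq_of_mul_eq_one_left tt
  have hY' : cj t X' ∈ 𝓗' := M'.conj t htM X' hX'
  have hYK : cj t X' ≤ K0 W' X' := le_K0 M' hX' hY' hne
  have hXK : X' ≤ K0 W' (cj t X') := le_K0 M' hY' hX' (Ne.symm hne)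
  have hN0 : X' ⊔ cj t X' ≤ normalizer (X' : Set G) :=
    sup_le le_normalizer (fun y hy => (hYK hy).1.2)
  obtain ⟨C, hC⟩ : ∃ C, C = (X' ⊔ cj t X') ⊓ centralizer ({t} : Set G) := ⟨_, rfl⟩
  have hCt : ∀ c ∈ C, c * t = t * c := fun c hc => by
    rw [hC] at hc
    exact (mem_centralizer_singleton_iff.mp hc.2)
  have hCX' : C ≤ normalizer (X' : Set G) := by
    rw [hC]; exact inf_le_left.trans hN0
  have hCM : C ≤ M0 W X := by
    intro c hc
    refine mem_M0_of_comm M.toFam hX ht tt t1 ?_ (hCt c hc)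
    refine M.fine X hX t ht tt t1 ?_
    rw [hC] at hc
    exact hc.2
  have hCX : C ≤ normalizer (X : Set G) := fun c hc => (hCM hc).2
  let α : ↥C →* MulAut (Bar X') := (act X').comp (inclusion hCX')
  let β : ↥C →* MulAut (Bar X) := (act X).comp (inclusion hCX)
  -- the image of `α`
  have hconj : ∀ c (hc : c ∈ C), ∀ x ∈ X', ∀ k, Fixes k X' → c = x * k →
      ∃ d : Bar X', α ⟨c, hc⟩ = MulAut.conj d := by
    intro c hc x hx k hk he
    refine ⟨QuotientGroup.mk ⟨x, hx⟩, ?_⟩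
    rw [← act_of_mem hx]
    change act X' ⟨c, hCX' hc⟩ = _
    have h1 := act_mul (K := X') (le_normalizer hx) hk.1
    rw [(act_eq_one_iff hk.1).mpr hk, mul_one] at h1
    rw [← h1]
    exact act_congr _ he
  have hrange : (MulAut.conj : Bar X' →* MulAut (Bar X')).range ≤ α.range := by
    rintro _ ⟨d, rfl⟩
    obtain ⟨⟨x, hx⟩, rfl⟩ := QuotientGroup.mk_surjective d
    have hy : t * x * t⁻¹ ∈ cj t X' := conj_mem_cj hx
    have h1 : (x * (t * x * t⁻¹))⁻¹ * t * (x * (t * x * t⁻¹)) * t ∈ W' := by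
      have h2 : ⁅(t * x * t⁻¹)⁻¹, x⁻¹⁆ ∈ W' :=
        M'.comm _ hY' _ hX' hne (commutator_mem_commutator (inv_mem hy) (inv_mem hx))
      have h3 : (x * (t * x * t⁻¹))⁻¹ * t * (x * (t * x * t⁻¹)) * t = ⁅(t * x * t⁻¹)⁻¹, x⁻¹⁆ := by
        rw [commutatorElement_def]
        rw [hti]
        calc (x * (t * x * t))⁻¹ * t * (x * (t * x * t)) * t
            = (t * x * t)⁻¹ * x⁻¹ * (t * x * t) * x * (t * t) := by group
          _ = (t * x * t)⁻¹ * x⁻¹ * (t * x * t)⁻¹⁻¹ * x⁻¹⁻¹ := by rw [tt]; group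
      rw [h3]; exact h2
    obtain ⟨w, hw, hwt⟩ := exists_comm_mul (M'.germ X' hX').odd_W tt h1
    have hc : x * (t * x * t⁻¹) * w ∈ C := by
      rw [hC]
      refine ⟨mul_mem (mul_mem (mem_sup_left hx) (mem_sup_right hy))
        (mem_sup_left ((M'.germ X' hX').W_le hw)), mem_centralizer_singleton_iff.mpr hwt.symm⟩
    refine ⟨⟨_, hc⟩, ?_⟩
    rw [← act_of_mem hx]
    change act X' ⟨_, hCX' hc⟩ = _
    have hk : Fixes ((t * x * t⁻¹) * w) X' :=
      fixes_mul (hYK hy).2 (fixes_of_mem_core ((M'.germ X' hX').Wc hw))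
    have h2 := act_mul (K := X') (le_normalizer hx) hk.1
    rw [(act_eq_one_iff hk.1).mpr hk, mul_one] at h2
    rw [← h2]
    exact act_congr _ (by group)
  -- `C` acts as a solvable group on `X`
  have htb : (QuotientGroup.mk ⟨t, ht⟩ : Bar X) * QuotientGroup.mk ⟨t, ht⟩ = 1 := by
    rw [← QuotientGroup.mk_mul]
    have : (⟨t, ht⟩ * ⟨t, ht⟩ : ↥X) = 1 := Subtype.ext tt
    rw [this]; rfl
  have htb1 : (QuotientGroup.mk ⟨t, ht⟩ : Bar X) ≠ 1 := by
    intro h
    rw [mk_eq_one_iff ht] at h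
    exact t1 (eq_one_of_mem_core_sq h tt)
  obtain ⟨e⟩ := LSup.exists_equiv (M.germ X hX).l34
  have hsol := FL34.sols e.symm _ htb htb1
  have hβ : ∀ c : ↥C, β c ∈ centralizer ({MulAut.conj (QuotientGroup.mk ⟨t, ht⟩ : Bar X)} :
      Set (MulAut (Bar X))) := by
    intro c
    rw [mem_centralizer_singleton_iff]
    have h1 : β c (QuotientGroup.mk ⟨t, ht⟩) = QuotientGroup.mk ⟨t, ht⟩ := by
      change act X ⟨c, hCX c.2⟩ (QuotientGroup.mk ⟨t, ht⟩) = _
      rw [act_mk (hCX c.2) ht]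
      congr 1
      apply Subtype.ext
      change (c : G) * t * (c : G)⁻¹ = t
      rw [hCt c c.2, mul_inv_cancel_right]
    apply MulEquiv.ext
    intro y
    rw [MulAut.mul_apply, MulAut.mul_apply, MulAut.conj_apply, MulAut.conj_apply, map_mul, map_mul,
      map_inv, h1]
  let β' := β.codRestrict _ hβ
  obtain ⟨n, hn⟩ := (Group.isSolvable_def _).mp hsol
  have hker : ∀ k ∈ derivedSeries ↥C n, β k = 1 := by
    intro k hk
    have h1 : β' k ∈ (derivedSeries ↥C n).map β' := ⟨k, hk, rfl⟩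
    have h2 := map_derivedSeries_le_derivedSeries β' n h1
    rw [hn, mem_bot] at h2
    exact congrArg Subtype.val h2
  have hI := le_map_derivedSeries α (perfect_inn (M'.germ X' hX')) hrange n
  -- the kernel of `α` has odd order
  have hodd : Odd (Nat.card ↥(core X' ⊔ core (cj t X') : Subgroup G)) := by
    refine odd_sup (odd_card_core _) (odd_card_core _) ?_
    intro z hz
    have h1 : z ∈ normalizer (cj t X' : Set G) := (hXK (core_le _ hz)).1.2
    have h2 : cj z (core (cj t X')) = core (cj t X') := by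
      rw [← core_cj, mem_normalizer_iff_cj.mp h1]
    exact mem_normalizer_iff_cj.mpr h2
  have hkerα : ∀ c ∈ C, Fixes c X' → c ∈ (core X' ⊔ core (cj t X') : Subgroup G) := by
    intro c hc hf
    have hc' := hc
    rw [hC] at hc'
    obtain ⟨y, hy, x, hx, rfl⟩ : ∃ y ∈ cj t X', ∃ x ∈ X', y * x = c := by
      have h1 := (mem_sup_left_iff (A := cj t X') (O := X') (fun y hy => (hYK hy).1.2)
        (z := c)).mp (by rw [sup_comm]; exact hc'.1)
      exact h1
    have h1 : Fixes x X' := (fixes_mul_iff_right (hYK hy).2).mp hf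
    have h2 : x ∈ core X' := by
      rw [← (M'.germ X' hX').inf_K0]
      exact ⟨hx, ⟨(M'.germ X' hX').nW hx, le_normalizer hx⟩, h1⟩
    have h3 : Fixes (y * x) (cj t X') := by
      have h4 : Fixes (t * (y * x) * t⁻¹) (cj t X') := by
        exact hf.cj t
      have h5 : t * (y * x) * t⁻¹ = y * x := by
        rw [← hCt _ hc, mul_inv_cancel_right]
      rwa [h5] at h4
    have h4 : Fixes y (cj t X') := (fixes_mul_iff_left (hXK hx).2).mp h3
    have h5 : y ∈ core (cj t X') := by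
      rw [← (M'.germ _ hY').inf_K0]
      exact ⟨hy, ⟨(M'.germ _ hY').nW hy, le_normalizer hy⟩, h4⟩
    exact mul_mem (mem_sup_right h5) (mem_sup_left h2)
  -- `B` is trivial on `X`
  have hBC : B ≤ C := by
    intro b hb
    obtain ⟨a, ha, he⟩ := hBform b hb
    rw [hC]
    refine ⟨?_, ?_⟩
    · rw [he]; exact mul_mem (mem_sup_left ha) (mem_sup_right (conj_mem_cj ha))
    · exact mem_centralizer_singleton_iff.mpr (hBt b hb)
  have hBK : B ≤ K0 W X := by
    intro b hb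
    refine ⟨hCM (hBC hb), ?_⟩
    rw [← act_eq_one_iff (hCX (hBC hb))]
    obtain ⟨a, ha, he⟩ := hBform b hb
    obtain ⟨d, hd⟩ := hconj b (hBC hb) a ha _ (hYK (conj_mem_cj ha)).2 he
    obtain ⟨k, hk, hkd⟩ := hI ⟨d, rfl⟩
    have h1 : α (k⁻¹ * ⟨b, hBC hb⟩) = 1 := by
      rw [map_mul, map_inv, hkd, hd, inv_mul_cancel]
    have h2 : Fixes (((k⁻¹ * ⟨b, hBC hb⟩ : ↥C) : G)) X' := by
      rw [← act_eq_one_iff (hCX' (k⁻¹ * ⟨b, hBC hb⟩ : ↥C).2)]
      exact h1
    have h3 := hkerα _ (k⁻¹ * ⟨b, hBC hb⟩ : ↥C).2 h2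
    have h4 : (k⁻¹ * ⟨b, hBC hb⟩ : ↥C) ^ Nat.card ↥(core X' ⊔ core (cj t X') : Subgroup G) = 1 := by
      apply Subtype.ext
      have := pow_card_eq_one' (x := (⟨_, h3⟩ : ↥(core X' ⊔ core (cj t X') : Subgroup G)))
      have h7 := congrArg Subtype.val this
      rw [SubgroupClass.coe_pow] at h7 ⊢
      exact h7
    have h5 : β (k⁻¹ * ⟨b, hBC hb⟩) = β ⟨b, hBC hb⟩ := by
      rw [map_mul, map_inv, hker k hk, inv_one, one_mul]
    have h6 : β ⟨b, hBC hb⟩ ^ Nat.card ↥(core X' ⊔ core (cj t X') : Subgroup G) = 1 := by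
      rw [← h5, ← map_pow, h4, map_one]
    have h7 : β ⟨b, hBC hb⟩ ^ 2 = 1 := by
      rw [← map_pow]
      have : (⟨b, hBC hb⟩ : ↥C) ^ 2 = 1 := Subtype.ext (by
        rw [SubgroupClass.coe_pow, pow_two]; exact hB2 b hb)
      rw [this, map_one]
    change β ⟨b, hBC hb⟩ = 1
    obtain ⟨j, hj⟩ := hodd
    rw [hj, pow_succ, pow_mul, h7, one_pow, one_mul] at h6
    exact h6
  rw [← Wd_of_K0 T (M.germ X hX) hBK hB2 hBc.ge, hBW]

end move

end Cfsg.Agent.UGT.N2W.Move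

namespace Cfsg.Agent.UGT.N2W

universe u

variable {G : Type u} [Group G] [Finite G] {W W' X X' : Subgroup G} {𝓗 𝓗' : Set (Subgroup G)} {t : G}

/-- **(β) of (5)(A)** -/
theorem Many.eq_of_move (T : Fun.ThreeBal G) (M : Many W 𝓗) (M' : Many W' 𝓗') (hX : X ∈ 𝓗)
    (ht : t ∈ X) (tt : t * t = 1) (t1 : t ≠ 1) (htM : t ∈ normalizer (W' : Set G)) (hX' : X' ∈ 𝓗')
    (hne : cj t X' ≠ X') : W = W' :=
  Move.eq_of_move M M'.toFam hX ht tt t1 htM hX' hne T

end Cfsg.Agent.UGT.N2W
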