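import Cfsg.Agent.UGT.N2W.Int
import Cfsg.Agent.UGT.N2W.Move
import Cfsg.Agent.UGT.N2W.IntK

/-!
# N2, cores: (5)(A) of #17697

`Many.eq_of_mem`: `(W, 𝓗)`, `(W', 𝓗')` of type `Many`, `t` an involution of `X ∈ 𝓗`, `t ∈ N(W')`: `W = W'`.
[`eq_of_norm`, (α): `t` normalizes a member `X'` of `𝓗'`; (β): `Many.eq_of_move`.]
-/

set_option autoImplicit false
set_option linter.unusedSectionVars false

open Cfsg Subgroup
open Cfsg.Agent.SignalizersComponents Cfsg.Agent.Lib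
open Cfsg.Agent.SignalizersComponents.IntrinsicBasic
open Cfsg.Agent.Intrinsic.Basic Cfsg.Agent.Intrinsic.Cen Cfsg.Agent.Intrinsic.Diag
open Cfsg.Agent.McLLyComp.Act
open Cfsg.Agent.UGT.Triple Cfsg.Agent.UGT.PumpGen Cfsg.Agent.UGT.TriBase
open Cfsg.Agent.UGT.Iface (IsL34 Bar)
open Cfsg.Agent.UGT.ThEL34 (fx mem_fx)
open Cfsg.Agent.UGT.Res.Base Cfsg.Agent.UGT.Res.Abel Cfsg.Agent.UGT.Res.CoreFree
open Cfsg.Agent.UGT.Res.WFun (el_of_sq el_mono el_sup el_cj el_zpowers mem_zpowers_of_sq mem_zpowers_sup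
  two_mul_card_le card_mul_le_sup exists_commuting)
open Cfsg.Agent.UGT.Res.WPair (M0 K0 mem_M0 mem_K0 K0_le M0_le_normalizer cj_M0 cj_K0 cj_normalizer cj_sup
  cj_commutator cj_le_iff fixes_of_mem_core comm_sup_le mem_sup_left_iff card_sup_mul)
open scoped commutatorElement

universe u

namespace Cfsg.Agent.UGT.N2W

open Fun

variable {G : Type u} [Group G] [Finite G]

/-! ### lifting fixed points -/

section lift

variable {X : Subgroup G} {u : G}

/-- a fixed point of `u` on `X / O(X)` is the image of an element of `X ∩ C(u)` -/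
theorem lift_one (hu : u ∈ normalizer (X : Set G)) (uu : u * u = 1) {r : Bar X}
    (hr : act X ⟨u, hu⟩ r = r) :
    ∃ q, ∃ hq : q ∈ X, u * q = q * u ∧ (QuotientGroup.mk ⟨q, hq⟩ : Bar X) = r := by
  obtain ⟨⟨m, hm⟩, rfl⟩ := QuotientGroup.mk_surjective r
  rw [act_mk hu hm] at hr
  have h1 := (mk_eq_iff hm (conj_mem hu hm)).mp hr.symm
  obtain ⟨o, ho, h2⟩ := Intrinsic.Lifting.exists_commute (odd_card_core X) (v := u) (n := 1)
    (by rw [pow_one, pow_two]; exact uu) (normalizer_le_normalizer_core X hu) h1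
  refine ⟨m * o, X.mul_mem hm (core_le X ho), h2, ?_⟩
  symm
  rw [mk_eq_iff hm (X.mul_mem hm (core_le X ho)), inv_mul_cancel_left]
  exact ho

/-- the same for a fixed point whose `2 ^ n`-th power is trivial -/
theorem lift_two (hu : u ∈ normalizer (X : Set G)) (uu : u * u = 1) {r : Bar X} {n : ℕ}
    (hr : act X ⟨u, hu⟩ r = r) (hn : r ^ 2 ^ n = 1) :
    ∃ q, ∃ hq : q ∈ X, u * q = q * u ∧ q ^ 2 ^ n = 1 ∧ (QuotientGroup.mk ⟨q, hq⟩ : Bar X) = r := by
  obtain ⟨q, hq, h1, rfl⟩ := lift_one hu uu hr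
  have h2 : q ^ 2 ^ n ∈ core X := by
    rw [← mk_eq_one_iff (X.pow_mem hq _), ← hn]
    rfl
  obtain ⟨k, h3, h4⟩ := Intrinsic.Lifting.exists_two_part (odd_card_core X) h2
  refine ⟨q ^ k, X.pow_mem hq k, (Commute.pow_right (show Commute u q from h1) k).eq, h3, ?_⟩
  symm
  rw [mk_eq_iff hq (X.pow_mem hq k)]
  exact h4

end lift

/-! ### the members of a family -/

variable {W W' : Subgroup G} {𝓗 𝓗' : Set (Subgroup G)}

theorem pow_four_eq {M : Type*} [Group M] (r : M) : r ^ 2 ^ 2 = r * r * (r * r) := by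
  rw [show 2 ^ 2 = 2 * 2 from rfl, pow_mul, pow_two, pow_two]

/-- an involution of `X` commuting with `t` -/
theorem exists_invol {X : Subgroup G} (h34 : IsL34 (Bar X)) {t : G} (tt : t * t = 1)
    (ht : t ∈ normalizer (X : Set G)) : ∃ u ∈ X, u * u = 1 ∧ u ≠ 1 ∧ t * u = u * t := by
  have hz2 : IsPGroup 2 ↥(zpowers t) :=
    IsPGroup.of_card_dvd_pow (n := 1) (by
      rw [Nat.card_zpowers, pow_one]
      exact orderOf_dvd_of_pow_eq_one (by rw [pow_two]; exact tt))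
  obtain ⟨R, hR, htR⟩ := exists_isSyl hz2 (le_sup_left : zpowers t ≤ zpowers t ⊔ X)
  have hn : zpowers t ⊔ X ≤ normalizer (X : Set G) :=
    sup_le (by rwa [zpowers_le]) le_normalizer
  have hP : IsSyl X (R ⊓ X) := hR.inf le_sup_right hn
  have h64 := hP.dvd_card (k := 6) (LSup.card_dvd h34)
  have hne : R ⊓ X ≠ ⊥ := by
    intro h
    rw [h, card_bot] at h64
    norm_num at h64
  have hRn : R ≤ normalizer ((R ⊓ X : Subgroup G) : Set G) := by
    intro r hr
    rw [mem_normalizer_iff_cj, cj_inf, cj_eq_self_of_mem hr,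
      mem_normalizer_iff_cj.mp (hn (hR.le hr))]
  obtain ⟨e, he, ho, hc⟩ := exists_central hR.two inf_le_left hRn hne
  refine ⟨e, he.2, ?_, ?_, hc t (htR (mem_zpowers t))⟩
  · rw [← pow_two, ← ho, pow_orderOf_eq_one]
  · rintro rfl
    rw [orderOf_one] at ho
    omega

/-- a perfect image is covered by the kernel of a homomorphism to a solvable group -/
theorem exists_ker {C P Z : Type*} [Group C] [Group P] [Group Z] (φ : C →* P)
    (hφ : Function.Surjective φ) (hP : commutator P = ⊤) (ψ : C →* Z) (hZ : Group.IsSolvable Z)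
    (s : P) : ∃ d : C, ψ d = 1 ∧ φ d = s := by
  obtain ⟨n, hn⟩ := hZ.solvable
  have h1 : ∀ m, derivedSeries P m = ⊤ := by
    intro m
    induction m with
    | zero => rfl
    | succ m ih => rw [derivedSeries_succ, ih, ← commutator_def]; exact hP
  have h2 : s ∈ (derivedSeries C n).map φ := by
    rw [map_derivedSeries_eq hφ, h1]
    exact mem_top _
  obtain ⟨d, hd, he⟩ := h2
  refine ⟨d, ?_, he⟩
  have h3 := map_derivedSeries_le_derivedSeries ψ n (mem_map_of_mem ψ hd)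
  rw [hn, mem_bot] at h3
  exact h3

/-- **(α)** -/
theorem Many.eq_of_norm (T : ThreeBal G) (M : Many W 𝓗) (M' : Many W' 𝓗') {X X' : Subgroup G}
    (hX : X ∈ 𝓗) (hX' : X' ∈ 𝓗') {t : G} (ht : t ∈ X) (tt : t * t = 1) (t1 : t ≠ 1)
    (htX : t ∈ normalizer (X' : Set G)) : W = W' := by
  have S := M.germ X hX
  have S' := M'.germ X' hX'
  obtain ⟨u, hu, uu, u1, htu⟩ := exists_invol S'.l34 tt htX
  -- everything commuting with `t` lies in `N(W) ∩ N(X)`, everything commuting with `u` in `N(W') ∩ N(X')`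
  have kt : ∀ c, c * t = t * c → c ∈ M0 W X := by
    intro c hc
    have h1 : c ∈ normalizer (W : Set G) :=
      M.fine X hX t ht tt t1 (mem_centralizer_singleton_iff.mpr hc)
    exact ⟨h1, M.toFam.mem_normalizer hX ht tt t1 h1 hc⟩
  have ku : ∀ c, c * u = u * c → c ∈ M0 W' X' := by
    intro c hc
    have h1 : c ∈ normalizer (W' : Set G) :=
      M'.fine X' hX' u hu uu u1 (mem_centralizer_singleton_iff.mpr hc)
    exact ⟨h1, M'.toFam.mem_normalizer hX' hu uu u1 h1 hc⟩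
  have huM : u ∈ M0 W X := kt u htu.symm
  have hαα : act X ⟨u, huM.2⟩ * act X ⟨u, huM.2⟩ = 1 := by
    rw [← map_mul]
    have : (⟨u, huM.2⟩ : ↥(normalizer (X : Set G))) * ⟨u, huM.2⟩ = 1 := Subtype.ext uu
    rw [this, map_one]
  have mkt : (QuotientGroup.mk ⟨t, ht⟩ : Bar X) ≠ 1 := by
    rw [Ne, mk_eq_one_iff ht]
    exact fun h => t1 (eq_one_of_mem_core_sq h tt)
  rcases IntK.tri S.l34 hαα with hin | hpol | ⟨hperf, s, hs, ss, s1⟩
  · obtain ⟨i, hi⟩ := hin
    exact M.eq_of_inn T M' hX hX' hu uu u1 huM hi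
  · -- polarity
    have mktt : (QuotientGroup.mk ⟨t, ht⟩ : Bar X) * QuotientGroup.mk ⟨t, ht⟩ = 1 := by
      have : (⟨t, ht⟩ : ↥X) * ⟨t, ht⟩ = 1 := Subtype.ext tt
      rw [← QuotientGroup.mk_mul, this]; rfl
    have hfix : act X ⟨u, huM.2⟩ (QuotientGroup.mk ⟨t, ht⟩) = QuotientGroup.mk ⟨t, ht⟩ := by
      rw [act_mk huM.2 ht]
      congr 1
      apply Subtype.ext
      show u * t * u⁻¹ = t
      rw [← htu, mul_inv_cancel_right]
    obtain ⟨r, hr1, hr2⟩ := hpol _ mktt mkt hfix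
    have hr4 : r ^ 2 ^ 2 = 1 := by
      rw [pow_four_eq, hr2, mktt]
    obtain ⟨q, hq, hqu, hq4, hqr⟩ := lift_two huM.2 uu hr1 hr4
    have hqM : q ∈ M0 W' X' := ku q hqu.symm
    have hb4 : (act X' ⟨q, hqM.2⟩) ^ 4 = 1 := by
      rw [← map_pow]
      have : (⟨q, hqM.2⟩ : ↥(normalizer (X' : Set G))) ^ 4 = 1 := Subtype.ext hq4
      rw [this, map_one]
    obtain ⟨l, hl⟩ := IntK.out4 S'.l34 hb4
    have hqqM : q * q ∈ M0 W' X' := mul_mem hqM hqM
    have e1 : act X' ⟨q * q, hqqM.2⟩ = MulAut.conj l := by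
      rw [← hl]; exact act_mul hqM.2 hqM.2
    have e2 : q * q * (q * q) = 1 := by
      rw [← hq4, pow_four_eq]
    have e3 : q * q ≠ 1 := by
      intro h
      apply mkt
      rw [← hr2, ← hqr, ← QuotientGroup.mk_mul]
      have : (⟨q, hq⟩ : ↥X) * ⟨q, hq⟩ = 1 := Subtype.ext h
      rw [this]; rfl
    exact (M'.eq_of_inn T M hX' hX (X.mul_mem hq hq) e2 e3 hqqM e1).symm
  · -- `C(α)` perfect of even order
    obtain ⟨C, hC⟩ : ∃ C : Subgroup G, C = X ⊓ centralizer ({u} : Set G) := ⟨_, rfl⟩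
    have hCX : C ≤ X := by rw [hC]; exact inf_le_left
    have hCu : ∀ c ∈ C, c * u = u * c := by
      intro c hc
      rw [hC] at hc
      exact mem_centralizer_singleton_iff.mp hc.2
    have hCM : C ≤ M0 W' X' := fun c hc => ku c (hCu c hc)
    have hfx : ∀ c : ↥C, (QuotientGroup.mk ⟨c.1, hCX c.2⟩ : Bar X) ∈ fx (act X ⟨u, huM.2⟩) := by
      rintro ⟨c, hc⟩
      rw [mem_fx, act_mk huM.2 (hCX hc)]
      congr 1
      apply Subtype.ext
      show u * c * u⁻¹ = c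
      rw [← hCu c hc, mul_inv_cancel_right]
    let φ : ↥C →* ↥(fx (act X ⟨u, huM.2⟩)) :=
      ((QuotientGroup.mk' (oddCore ↥X)).comp (inclusion hCX)).codRestrict _ hfx
    have hφs : Function.Surjective φ := by
      rintro ⟨r, hr⟩
      obtain ⟨q, hq, hqu, hqr⟩ := lift_one huM.2 uu (mem_fx.mp hr)
      refine ⟨⟨q, ?_⟩, Subtype.ext hqr⟩
      rw [hC]
      exact ⟨hq, mem_centralizer_singleton_iff.mpr hqu.symm⟩
    have hmu : (QuotientGroup.mk ⟨u, hu⟩ : Bar X') ≠ 1 := by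
      rw [Ne, mk_eq_one_iff hu]
      exact fun h => u1 (eq_one_of_mem_core_sq h uu)
    have hmuu : (QuotientGroup.mk ⟨u, hu⟩ : Bar X') * QuotientGroup.mk ⟨u, hu⟩ = 1 := by
      have : (⟨u, hu⟩ : ↥X') * ⟨u, hu⟩ = 1 := Subtype.ext uu
      rw [← QuotientGroup.mk_mul, this]; rfl
    have hsol := IntK.sol S'.l34 hmuu hmu
    have hcent : ∀ c : ↥C, act X' ⟨c.1, (hCM c.2).2⟩ ∈
        centralizer ({MulAut.conj (QuotientGroup.mk ⟨u, hu⟩ : Bar X')} : Set (MulAut (Bar X'))) := by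
      rintro ⟨c, hc⟩
      rw [mem_centralizer_singleton_iff, ← act_of_mem hu, ← act_mul, ← act_mul]
      exact act_congr _ (hCu c hc)
    let ψ : ↥C →* ↥(centralizer ({MulAut.conj (QuotientGroup.mk ⟨u, hu⟩ : Bar X')} :
        Set (MulAut (Bar X')))) :=
      ((act X').comp (inclusion (hCM.trans inf_le_right))).codRestrict _ hcent
    obtain ⟨⟨d, hd⟩, hd1, hd2⟩ := exists_ker φ hφs hperf ψ hsol ⟨s, hs⟩
    have hdM := hCM hd
    have hdX := hCX hd
    have hdF : Fixes d X' := (act_eq_one_iff hdM.2).mp (congrArg Subtype.val hd1)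
    have hds : (QuotientGroup.mk ⟨d, hdX⟩ : Bar X) = s := congrArg Subtype.val hd2
    have hd2' : d ^ 2 ^ 1 ∈ core X := by
      rw [← mk_eq_one_iff (X.pow_mem hdX _)]
      have : (QuotientGroup.mk (⟨d ^ 2 ^ 1, X.pow_mem hdX _⟩ : ↥X) : Bar X) =
          QuotientGroup.mk ⟨d, hdX⟩ * QuotientGroup.mk ⟨d, hdX⟩ := by
        rw [← QuotientGroup.mk_mul]
        congr 1
        apply Subtype.ext
        show d ^ 2 ^ 1 = d * d
        rw [pow_one, pow_two]
      rw [this, hds, ss]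
    obtain ⟨k, hk1, hk2⟩ := Intrinsic.Lifting.exists_two_part (odd_card_core X) hd2'
    have hkK : d ^ k ∈ K0 W' X' := (K0 W' X').pow_mem (show d ∈ K0 W' X' from ⟨hdM, hdF⟩) k
    have hkne : d ^ k ≠ 1 := by
      intro h
      rw [h, mul_one] at hk2
      apply s1
      rw [← hds, mk_eq_one_iff hdX]
      have := (core X).inv_mem hk2
      rwa [inv_inv] at this
    exact (M'.eq_of_fix T M hX' hX (X.pow_mem hdX k)
      (by rw [← pow_two]; rw [pow_one] at hk1; exact hk1) hkne hkK).symm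

/-- **(A)** -/
theorem Many.eq_of_mem (T : ThreeBal G) (M : Many W 𝓗) (M' : Many W' 𝓗') {X : Subgroup G}
    (hX : X ∈ 𝓗) {t : G} (ht : t ∈ X) (tt : t * t = 1) (t1 : t ≠ 1)
    (htM : t ∈ normalizer (W' : Set G)) : W = W' := by
  obtain ⟨X', hX', -⟩ := M'.two
  by_cases h : cj t X' = X'
  · exact M.eq_of_norm T M' hX hX' ht tt t1 (mem_normalizer_iff_cj.mpr h)
  · exact M.eq_of_move T M' hX ht tt t1 htM hX' h

end Cfsg.Agent.UGT.N2W
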