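import Cfsg.Agent.UGT.N2W.Lift34
import Cfsg.Agent.UGT.Res.W1.LieHe

/-!
# A 2-component `N` of an arbitrary `M` moved by `N ∩ O(C(x))` is not `He` and not of Lie type in odd characteristic

`Res.W1.LieHe` over `LiftG G` (in one group, any world).
-/

set_option autoImplicit false

open Cfsg Subgroup
open Cfsg.Agent.SignalizersComponents Cfsg.Agent.Lib
open Cfsg.Agent.SignalizersComponents.IntrinsicBasic
open Cfsg.Agent.Intrinsic.Basic Cfsg.Agent.Intrinsic.Cen Cfsg.Agent.Intrinsic.Diag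
open Cfsg.Agent.McLLyComp.Act
open Cfsg.Agent.UGT.Triple Cfsg.Agent.UGT.Iface
open Cfsg.Agent.UGT.NodeHeG (HF)
open Cfsg.Agent.UGT.Res.KFacts
open Cfsg.Agent.UGT.Nodes (WorldL34)
open Cfsg.Agent.UGT.U2.FOne (F1D IsSL2)
open Cfsg.Agent.UGT.Res.W1.LieHe (br orb map_le_orb le_orb orb_le orb_map orb_le_br orb_le_centralizer pElem_orb
  exists_image uniq_of_sl2 fix_of_sl2)
open scoped commutatorElement

namespace Cfsg.Agent.UGT.N2W

universe u

variable {G : Type u} [Group G] [Finite G]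

theorem kill34 (hL : LiftG G) {x : G} {M N : Subgroup G} (hN : IsComp M N)
    (hx : orderOf x = 2) (hxM : x ∈ M) (hxN : x ∈ normalizer (N : Set G)) {δ : MulAut (Bar N)}
    (hδ : ∃ (d : G) (hd : d ∈ normalizer (N : Set G)), d ∈ core (centralizer ({x} : Set G)) ∧ d ∈ M ∧
      δ = act N ⟨d, hd⟩) {z : Bar N} {J : Subgroup (Bar N)} (hzz : z * z = 1) (hz1 : z ≠ 1)
    (hxz : act N ⟨x, hxN⟩ z = z) (hδz : δ z = z) (hJz : J ≤ centralizer ({z} : Set (Bar N))) (hzJ : z ∈ J)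
    (hq : IsQuasisimple ↥J)
    (h : (J.map δ.toMonoidHom = J ∧ ∃ j ∈ J, δ j ≠ j) ∨ (∀ a ∈ J, ∀ b ∈ J, δ a * b = b * δ a)) : False := by
  obtain ⟨d, hd, hdc, hdM, rfl⟩ := hδ
  have h2 : 2 ∣ Nat.card J := by
    have h3 : orderOf (⟨z, hzJ⟩ : ↥J) ∣ Nat.card J := orderOf_dvd_natCard _
    rwa [Subgroup.orderOf_mk, orderOf_eq_prime (by rw [pow_two, hzz]) hz1] at h3
  exact hL x d M N hN hx hxM hdc hdM hxN hd z (orb (act N ⟨d, hd⟩) J) hzz hz1 hxz hδz
    (orb_le_centralizer hδz hJz) (pElem_orb hq h2) (le_orb hzJ) orb_map (orb_le_br hq h)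

/-- **(P3), `He`** -/
theorem hf34 (hL : LiftG G) {x y : G} {M N : Subgroup G} (hN : IsComp M N)
    (hx : orderOf x = 2) (hxM : x ∈ M) (hxN : x ∈ normalizer (N : Set G)) (hy : y ∈ N)
    (hyc : y ∈ core (centralizer ({x} : Set G))) (hf : ¬ Fixes y N) (hF : HF (Bar N)) : False := by
  obtain ⟨D, h1, h2, h3, h4, h5, h6, h7⟩ := exists_image hN hx hxM hxN hy hyc hf
  obtain ⟨t, J, htt, ht1, hτt, hJle, hcomp, htJ, δ, hδ, hδt, m, hm, hmc⟩ := hF _ h1 h2 D h3 h4 h5 h6
  have hq : IsQuasisimple ↥J :=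
    Components.isQuasisimple_of_mulEquiv (subgroupOfEquivOfLe hJle) hcomp.2
  refine kill34 hL hN hx hxM hxN (h7 δ hδ) htt ht1 hτt hδt hJle htJ hq ?_
  -- the automorphism of `C(t)`
  have hC : (centralizer ({t} : Set (Bar N))).map δ.toMonoidHom = centralizer ({t} : Set (Bar N)) := by
    ext g
    rw [mem_centralizer_singleton_iff]
    constructor
    · rintro ⟨k, hk, rfl⟩
      have hk' := mem_centralizer_singleton_iff.mp hk
      change δ k * t = t * δ k
      have := congrArg δ hk'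
      rwa [map_mul, map_mul, hδt] at this
    · intro hg
      refine ⟨δ.symm g, ?_, δ.apply_symm_apply g⟩
      change δ.symm g ∈ centralizer ({t} : Set (Bar N))
      rw [mem_centralizer_singleton_iff]
      apply δ.injective
      rw [map_mul, map_mul, δ.apply_symm_apply, hδt, hg]
  let e : ↥(centralizer ({t} : Set (Bar N))) ≃* ↥(centralizer ({t} : Set (Bar N))) :=
    (δ.subgroupMap _).trans (MulEquiv.subgroupCongr hC)
  have he : ∀ g : ↥(centralizer ({t} : Set (Bar N))), ((e g : ↥(centralizer ({t} : Set (Bar N)))) : Bar N) = δ g :=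
    fun g => rfl
  have hcomp' := Components.isComponent_map_equiv e hcomp
  by_cases hne : (J.subgroupOf (centralizer ({t} : Set (Bar N)))).map e.toMonoidHom =
      J.subgroupOf (centralizer ({t} : Set (Bar N)))
  · left
    refine ⟨?_, m, hm, fun h => hmc (by rw [h, mul_inv_cancel]; exact one_mem _)⟩
    ext g
    constructor
    · rintro ⟨k, hk, rfl⟩
      have h8 : e ⟨k, hJle hk⟩ ∈ (J.subgroupOf (centralizer ({t} : Set (Bar N)))).map e.toMonoidHom :=
        ⟨⟨k, hJle hk⟩, hk, rfl⟩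
      rw [hne] at h8
      exact h8
    · intro hg
      have h8 : (⟨g, hJle hg⟩ : ↥(centralizer ({t} : Set (Bar N)))) ∈
          J.subgroupOf (centralizer ({t} : Set (Bar N))) := hg
      rw [← hne] at h8
      obtain ⟨k, hk, hkg⟩ := h8
      exact ⟨k, hk, congrArg Subtype.val hkg⟩
  · right
    intro a ha b hb
    have h8 := Components.component_commutator_eq_bot_of_ne hcomp' hcomp hne
    rw [commutator_eq_bot_iff_le_centralizer] at h8
    have h9 := h8 (⟨⟨a, hJle ha⟩, ha, rfl⟩ : e ⟨a, hJle ha⟩ ∈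
      (J.subgroupOf (centralizer ({t} : Set (Bar N)))).map e.toMonoidHom)
    rw [mem_centralizer_iff] at h9
    have h10 := h9 ⟨b, hJle hb⟩ hb
    exact (congrArg Subtype.val h10).symm

/-- **(P3), Lie type in odd characteristic** -/
theorem f1d34 (hL : LiftG G) {x y : G} {M N : Subgroup G} (hN : IsComp M N)
    (hx : orderOf x = 2) (hxM : x ∈ M) (hxN : x ∈ normalizer (N : Set G)) (hy : y ∈ N)
    (hyc : y ∈ core (centralizer ({x} : Set G))) (hf : ¬ Fixes y N) (hZ : center (Bar N) = ⊥) {q : ℕ}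
    (hF : F1D q (Bar N)) : False := by
  obtain ⟨D, h1, h2, h3, h4, h5, h6, h7⟩ := exists_image hN hx hxM hxN hy hyc hf
  obtain ⟨z, J, oz, hzJ, hJz, -, hg, hJx, d, hd, hJd, j, hj, hdj⟩ :=
    hF (act N ⟨x, hxN⟩) D (orderOf_eq_prime (by rw [pow_two, h1]) h2) h3 h5 (fun v hv => h6 v hv.1) h4
  have hzz : z * z = 1 := by
    have := pow_orderOf_eq_one z
    rwa [oz, pow_two] at this
  have hz1 : z ≠ 1 := by rintro rfl; rw [orderOf_one] at oz; omega
  rcases hg with h | ⟨-, hq, -, e, he, hJe, ⟨j', hj', hej'⟩, L, hLJ, hzL, hsl, hLx, hLe⟩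
  · by_cases hq3 : q = 3
    · subst hq3
      refine hdj (U2.Three.three_false hZ (act N ⟨x, hxN⟩) D (fun g => ?_) h3 h5 (fun v hv _ => h6 v hv) J h hJx hd
        hJd j hj)
      rw [← MulAut.mul_apply, h1, MulAut.one_apply]
    · have hq : IsQuasisimple ↥J := by
        obtain ⟨F, _, hfin, hF', hodd, ⟨f⟩⟩ := h
        refine Components.isQuasisimple_of_mulEquiv f.symm (SLQuasisimple.isQuasisimple_two ?_)
        have h8 : 1 < Nat.card F := Finite.one_lt_card
        rw [hF'] at h8 ⊢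
        obtain ⟨k, hk⟩ := hodd
        omega
      exact kill34 hL hN hx hxM hxN (h7 d hd) hzz hz1 (fix_of_sl2 h hzJ oz hJx) (fix_of_sl2 h hzJ oz hJd) hJz hzJ
        hq (Or.inl ⟨hJd, j, hj, hdj⟩)
  · exact kill34 hL hN hx hxM hxN (h7 e he) hzz hz1 (fix_of_sl2 hsl hzL oz hLx) (fix_of_sl2 hsl hzL oz hLe) hJz hzJ
      hq (Or.inl ⟨hJe, j', hj', hej'⟩)

/-- **(P3)** in the world `L₂(q)`, `A₇`, `A₉`, `L₃(4)` -/
theorem p34 (hT : WorldL34 G) {x y : G} {M N : Subgroup G} (hN : IsComp M N) (hx : orderOf x = 2) (hxM : x ∈ M)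
    (hxN : x ∈ normalizer (N : Set G)) (hy : y ∈ N) (hyc : y ∈ core (centralizer ({x} : Set G)))
    (hf : ¬ Fixes y N) :
    (HF (Bar N) → False) ∧ (center (Bar N) = ⊥ → ∀ q, F1D q (Bar N) → False) :=
  ⟨hf34 (lift34 hT) hN hx hxM hxN hy hyc hf, fun hZ _ => f1d34 (lift34 hT) hN hx hxM hxN hy hyc hf hZ⟩

end Cfsg.Agent.UGT.N2W
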