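import Cfsg.Agent.UGT.N2W.PR34
import Cfsg.Agent.UGT.Res.W1.Lift

/-!
# `LiftBad` from `PR1`, in one group
-/

set_option autoImplicit false

open Cfsg Subgroup
open Cfsg.Agent.SignalizersComponents Cfsg.Agent.Lib
open Cfsg.Agent.SignalizersComponents.IntrinsicBasic
open Cfsg.Agent.Intrinsic.Basic Cfsg.Agent.Intrinsic.Cen Cfsg.Agent.Intrinsic.Diag
open Cfsg.Agent.McLLyComp.Act
open Cfsg.Agent.UGT.Triple Cfsg.Agent.UGT.Iface Cfsg.Agent.UGT.TriBase
open Cfsg.Agent.UGT.Res.KFacts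
open Cfsg.Agent.UGT.Nodes (WorldL34)
open Cfsg.Agent.UGT.Res.W1.Lift (le_of_odd pElem_le_iff)
open scoped commutatorElement

namespace Cfsg.Agent.UGT.N2W

universe u

variable {G : Type u} [Group G] [Finite G]

/-- **(LIFT)** from **(PR1)** -/
theorem liftG_of (P : PRG G) : LiftG G := by
  intro x d M N hN hox hxM hdc hdM hx hd z H hzz hz1 hxz hdz hHz hpE hzH hdH hHd
  have hx2 := sq_of_order hox
  obtain ⟨z', hz'N, hz'2, hxz', rfl⟩ := NodeHeG.exists_inv hx hx2 hzz hxz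
  have hz'1 : z' ≠ 1 := by
    rintro rfl
    exact hz1 ((mk_eq_one_iff hz'N).mpr (one_mem _))
  have hoz' : orderOf z' = 2 := orderOf_eq_prime (by rw [pow_two, hz'2]) hz'1
  have hz'i : z'⁻¹ = z' := inv_eq_of_mul_eq_one_left hz'2
  have hz'Nn : z' ∈ normalizer (N : Set G) := le_normalizer hz'N
  have hz'core : z' ∈ normalizer (core N : Set G) := normalizer_le_normalizer_core N hz'Nn
  have hz'Cx : z' ∈ centralizer ({x} : Set G) := mem_c hxz'.symm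
  -- the element `d'`
  obtain ⟨o, hoY, hzo⟩ := Intrinsic.Lifting.exists_commute (n := 1)
    (N := core N ⊓ core (centralizer ({x} : Set G))) (v := z') (m := d)
    (Odd.of_dvd_nat (odd_card_core N) (card_dvd_of_le inf_le_left))
    (by rw [pow_one, pow_two, hz'2])
    (by
      have h1 : z' ∈ normalizer (core (centralizer ({x} : Set G)) : Set G) :=
        normalizer_le_normalizer_core _ (le_normalizer hz'Cx)
      rw [mem_normalizer_iff] at h1 hz'core ⊢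
      intro y
      exact ⟨fun h => ⟨(hz'core y).mp h.1, (h1 y).mp h.2⟩, fun h => ⟨(hz'core y).mpr h.1, (h1 y).mpr h.2⟩⟩)
    (by
      refine mem_inf.mpr ⟨?_, ?_⟩
      · have h1 : act N ⟨d⁻¹, inv_mem hd⟩ (QuotientGroup.mk ⟨z', hz'N⟩) = QuotientGroup.mk ⟨z', hz'N⟩ := by
          rw [act_inv hd]
          apply (act N ⟨d, hd⟩).injective
          rw [hdz]
          exact MulEquiv.apply_symm_apply _ _
        rw [act_mk (inv_mem hd) hz'N, mk_eq_iff] at h1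
        have h2 : (d⁻¹ * z' * d⁻¹⁻¹)⁻¹ * z' ∈ core N := h1
        have h3 := (core N).inv_mem h2
        have h4 : d⁻¹ * (z' * d * z'⁻¹) = z' * ((d⁻¹ * z' * d⁻¹⁻¹)⁻¹ * z')⁻¹ * z'⁻¹ := by
          rw [hz'i]
          have : z' * ((d⁻¹ * z' * d⁻¹⁻¹)⁻¹ * z')⁻¹ * z' = z' * z'⁻¹ * d⁻¹ * z' * d * z' := by group
          rw [this]
          group
        rw [h4]
        exact (mem_normalizer_iff.mp hz'core _).mp h3
      · exact mul_mem (inv_mem hdc) (conj_core hz'Cx hdc))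
  obtain ⟨d', hd'⟩ : ∃ d', d' = d * o := ⟨_, rfl⟩
  rw [← hd'] at hzo
  have hoN : o ∈ N := core_le N hoY.1
  have hd'N : d' ∈ normalizer (N : Set G) := by rw [hd']; exact mul_mem hd (le_normalizer hoN)
  have hd'c : d' ∈ core (centralizer ({x} : Set G)) := by rw [hd']; exact mul_mem hdc hoY.2
  have hact : act N ⟨d', hd'N⟩ = act N ⟨d, hd⟩ := by
    have h1 : act N ⟨d', hd'N⟩ = act N ⟨d * o, mul_mem hd (le_normalizer hoN)⟩ := act_congr hd'N hd'
    rw [h1, act_mul hd (le_normalizer hoN), act_of_mem hoN, (mk_eq_one_iff hoN).mpr hoY.1, map_one, mul_one]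
  -- the preimage of `H`
  obtain ⟨H1, hH1⟩ : ∃ H1 : Subgroup G, ∀ y, y ∈ H1 ↔ ∃ hy : y ∈ N, (QuotientGroup.mk (⟨y, hy⟩ : ↥N) : Bar N) ∈ H :=
    ⟨(H.comap (QuotientGroup.mk' (oddCore ↥N))).map N.subtype, fun y => by
      constructor
      · rintro ⟨⟨y, hy⟩, h, rfl⟩
        exact ⟨hy, h⟩
      · rintro ⟨hy, h⟩
        exact ⟨⟨y, hy⟩, h, rfl⟩⟩
  have hd'H1 : d' ∈ normalizer (H1 : Set G) := by
    apply mem_normalizer_fintype
    intro y hy
    obtain ⟨hyN, hyH⟩ := (hH1 y).mp hy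
    refine (hH1 _).mpr ⟨Cfsg.Agent.McLLyComp.Act.conj_mem hd'N hyN, ?_⟩
    rw [← act_mk hd'N hyN, hact]
    exact hdH _ hyH
  obtain ⟨H2, hH2⟩ : ∃ H2 : Subgroup G, H2 = H1 ⊓ centralizer ({z'} : Set G) := ⟨_, rfl⟩
  have hd'H2 : d' ∈ normalizer (H2 : Set G) := by
    have h1 : d' ∈ normalizer ((centralizer ({z'} : Set G) : Subgroup G) : Set G) :=
      le_normalizer (mem_c hzo.symm)
    rw [hH2]
    rw [mem_normalizer_iff] at h1 hd'H1 ⊢
    intro y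
    exact ⟨fun h => ⟨(hd'H1 y).mp h.1, (h1 y).mp h.2⟩, fun h => ⟨(hd'H1 y).mpr h.1, (h1 y).mpr h.2⟩⟩
  obtain ⟨H3, hH3⟩ : ∃ H3 : Subgroup G, H3 = PComponents.pElem 2 H2 := ⟨_, rfl⟩
  have hH32 : H3 ≤ H2 := hH3 ▸ PComponents.pElem_le _
  have hd'H3 : d' ∈ normalizer (H3 : Set G) := by
    rw [hH3]
    exact PComponents.normalizer_le_normalizer_pElem H2 hd'H2
  have hH3c : H3 ≤ centralizer ({z'} : Set G) := hH32.trans (hH2 ▸ inf_le_right)
  have hH31 : H3 ≤ H1 := hH32.trans (hH2 ▸ inf_le_left)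
  have hz'H3 : z' ∈ H3 := by
    rw [hH3]
    refine PComponents.mem_pElem (n := 1) ?_ (by rw [pow_one, pow_two, hz'2])
    rw [hH2]
    exact ⟨(hH1 z').mpr ⟨hz'N, hzH⟩, mem_c rfl⟩
  -- `H3` covers `H`
  have hcov : ∀ h ∈ H, ∃ y ∈ H3, ∃ hy : y ∈ N, (QuotientGroup.mk (⟨y, hy⟩ : ↥N) : Bar N) = h := by
    obtain ⟨I, hI⟩ : ∃ I : Subgroup (Bar N), ∀ h, h ∈ I ↔ ∃ y ∈ H3, ∃ hy : y ∈ N,
        (QuotientGroup.mk (⟨y, hy⟩ : ↥N) : Bar N) = h :=
      ⟨(H3.subgroupOf N).map (QuotientGroup.mk' (oddCore ↥N)), fun h => by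
        constructor
        · rintro ⟨⟨y, hy⟩, h1, rfl⟩
          exact ⟨y, h1, hy, rfl⟩
        · rintro ⟨y, h1, hy, rfl⟩
          exact ⟨⟨y, hy⟩, h1, rfl⟩⟩
    intro h hh
    rw [← hI]
    revert h
    change H ≤ I
    rw [← hpE, pElem_le_iff]
    intro h hh n hn
    obtain ⟨⟨n0, hn0⟩, rfl⟩ := QuotientGroup.mk_surjective h
    have h1 : n0⁻¹ * (z' * n0 * z'⁻¹) ∈ core N := by
      rw [← mk_eq_iff hn0 (Cfsg.Agent.McLLyComp.Act.conj_mem hz'Nn hn0)]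
      have h2 : (QuotientGroup.mk (⟨z' * n0 * z'⁻¹, Cfsg.Agent.McLLyComp.Act.conj_mem hz'Nn hn0⟩ : ↥N) : Bar N) =
        QuotientGroup.mk ⟨z', hz'N⟩ * QuotientGroup.mk ⟨n0, hn0⟩ * (QuotientGroup.mk ⟨z', hz'N⟩)⁻¹ := rfl
      have h3 := mem_centralizer_singleton_iff.mp (hHz hh)
      rw [h2, ← h3, mul_inv_cancel_right]
    obtain ⟨o1, ho1, hto⟩ := Intrinsic.Lifting.exists_commute (n := 1) (odd_card_core N)
      (by rw [pow_one, pow_two, hz'2]) hz'core h1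
    have hnN : n0 * o1 ∈ N := mul_mem hn0 (core_le N ho1)
    have hmk : (QuotientGroup.mk (⟨n0, hn0⟩ : ↥N) : Bar N) = QuotientGroup.mk ⟨n0 * o1, hnN⟩ := by
      rw [mk_eq_iff hn0 hnN]
      convert ho1 using 1
      group
    rw [hmk] at hh hn ⊢
    obtain ⟨y, hy⟩ : ∃ y, y = n0 * o1 := ⟨_, rfl⟩
    have hyN : y ∈ N := hy ▸ hnN
    have hyy : (QuotientGroup.mk (⟨n0 * o1, hnN⟩ : ↥N) : Bar N) = QuotientGroup.mk ⟨y, hyN⟩ := by
      congr 1
      exact Subtype.ext hy.symm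
    rw [hyy] at hh hn ⊢
    rw [← hy] at hto
    have hpw : y ^ 2 ^ n ∈ core N := by
      rw [← QuotientGroup.mk_pow] at hn
      exact (mk_eq_one_iff (pow_mem hyN _)).mp hn
    obtain ⟨k, hk1, hk2⟩ := Intrinsic.Lifting.exists_two_part (odd_card_core N) hpw
    rw [hI]
    have hk3 : (QuotientGroup.mk (⟨y ^ k, pow_mem hyN k⟩ : ↥N) : Bar N) = QuotientGroup.mk ⟨y, hyN⟩ := by
      symm
      rw [mk_eq_iff hyN (pow_mem hyN k)]
      exact hk2
    refine ⟨y ^ k, ?_, pow_mem hyN k, hk3⟩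
    rw [hH3]
    refine PComponents.mem_pElem (n := n) ?_ hk1
    rw [hH2]
    refine ⟨(hH1 _).mpr ⟨pow_mem hyN k, hk3 ▸ hh⟩, mem_c ?_⟩
    have h4 : Commute z' y := hto
    exact (h4.pow_right k).eq.symm
  -- the commutator
  obtain ⟨C, hC⟩ : ∃ C : Subgroup G, C = ⁅H3, zpowers d'⁆ := ⟨_, rfl⟩
  have hzd : zpowers d' ≤ normalizer (H3 : Set G) := by
    rw [zpowers_le]
    exact hd'H3
  have hCle : C ≤ H3 := by
    rw [hC]
    exact CoprimeCommutator.commutator_le_left hzd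
  have hCn : H3 ≤ normalizer (C : Set G) := by
    rw [hC]
    exact CoprimeCommutator.left_le_normalizer_commutator _ _
  have hfin : H3 ≤ C := by
    have h0 : ∀ y ∈ H3, ∃ c ∈ C, c⁻¹ * y ∈ core N := by
      obtain ⟨I, hI⟩ : ∃ I : Subgroup (Bar N), ∀ h, h ∈ I ↔ ∃ y ∈ C, ∃ hy : y ∈ N,
          (QuotientGroup.mk (⟨y, hy⟩ : ↥N) : Bar N) = h :=
        ⟨(C.subgroupOf N).map (QuotientGroup.mk' (oddCore ↥N)), fun h => by
          constructor
          · rintro ⟨⟨y, hy⟩, h1, rfl⟩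
            exact ⟨y, h1, hy, rfl⟩
          · rintro ⟨y, h1, hy, rfl⟩
            exact ⟨⟨y, hy⟩, h1, rfl⟩⟩
      have h1 : H ≤ I := by
        refine hHd.trans ((closure_le _).mpr ?_)
        rintro k ⟨h, hh, rfl⟩
        obtain ⟨y, hy, hyN, rfl⟩ := hcov h hh
        rw [SetLike.mem_coe, hI]
        refine ⟨⁅d', y⁆, ?_, ?_, ?_⟩
        · rw [hC, commutator_comm]
          exact commutator_mem_commutator (mem_zpowers d') hy
        · rw [commutatorElement_def]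
          exact mul_mem (Cfsg.Agent.McLLyComp.Act.conj_mem hd'N hyN) (inv_mem hyN)
        · rw [← hact, act_mk hd'N hyN]
          rfl
      intro y hy
      obtain ⟨hyN, hyH⟩ := (hH1 y).mp (hH31 hy)
      obtain ⟨c, hc, hcN, hcy⟩ := (hI _).mp (h1 hyH)
      exact ⟨c, hc, (mk_eq_iff hcN hyN).mp hcy⟩
    intro y hy
    have h1 : H3 = PComponents.pElem 2 H3 := by rw [hH3, TMC.pElem_pElem]
    have h2 : PComponents.pElem 2 H3 ≤ C := by
      rw [pElem_le_iff]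
      intro y hy n hn
      exact le_of_odd hCle hCn (odd_card_core N) h0 hy hn
    rw [h1] at hy
    exact h2 hy
  exact P x z' d' H3 hox hoz' hxz'.symm hd'c hzo.symm hH3c hd'H3 (hC ▸ hfin) hz'H3

/-- **(LIFT)** in the world `L₂(q)`, `A₇`, `A₉`, `L₃(4)` -/
theorem lift34 (hT : WorldL34 G) : LiftG G := liftG_of (pr34 hT)

end Cfsg.Agent.UGT.N2W
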