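import Cfsg.Agent.UGT.N2W.Cover
import Cfsg.Agent.UGT.Res.WEnd

/-!
# One germ over `W` (N2, cores, bb #17697 (7))

* `act_tr`: conjugation of the action on `H / O(H)`.
* `sF_sup`: the character of `x` on `L / O(L)` and on `H / O(H)`, `L` covering `H / O(H)`.
* `false_of`: `H` is the only conjugate of `H` under `N(W)`, `x ∈ N(W)` an involution of type `u` or `f` on
  `H / O(H)`, `⟨f₁, f₂⟩ ≤ K0 W H ∩ C(x)` a four-group of fine involutions: `G` has a sign character.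
-/

set_option autoImplicit false
set_option linter.unusedSectionVars false

open Cfsg Subgroup
open Cfsg.Agent.SignalizersComponents Cfsg.Agent.Lib
open Cfsg.Agent.SignalizersComponents.IntrinsicBasic
open Cfsg.Agent.Intrinsic.Basic Cfsg.Agent.Intrinsic.Cen Cfsg.Agent.Intrinsic.Diag
open Cfsg.Agent.McLLyComp.Act
open Cfsg.Agent.UGT.Triple Cfsg.Agent.UGT.PumpGen Cfsg.Agent.UGT.TriBase
open Cfsg.Agent.UGT.Iface (IsL34)
open Cfsg.Agent.UGT.Res.Base Cfsg.Agent.UGT.Res.Abel Cfsg.Agent.UGT.Res.CoreFree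
open Cfsg.Agent.UGT.Res.WFun (el_of_sq el_mono el_sup el_cj el_zpowers mem_zpowers_of_sq mem_zpowers_sup
  two_mul_card_le card_mul_le_sup exists_commuting)
open Cfsg.Agent.UGT.Res.WPair (M0 K0 mem_M0 mem_K0 K0_le M0_le_normalizer cj_normalizer)
open Cfsg.Agent.UGT.FL34 (tr tr_e)
open Cfsg.Agent.UGT.FL34.Seven (sF sG)
open scoped commutatorElement

namespace Cfsg.Agent.UGT.N2W.One

open Fun Cover

universe u

variable {G : Type u} [Group G] [Finite G] {W H L : Subgroup G}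

omit [Finite G] in
/-- conjugation of the action -/
theorem act_tr (g : G) {X : Subgroup G} {a : G} (ha : a ∈ normalizer (X : Set G))
    (ha' : g * a * g⁻¹ ∈ normalizer (cj g X : Set G)) :
    act (cj g X) ⟨g * a * g⁻¹, ha'⟩ = tr (cjQuot g X) (act X ⟨a, ha⟩) := by
  apply MulEquiv.ext
  intro y
  obtain ⟨y, rfl⟩ := (cjQuot g X).surjective y
  obtain ⟨⟨k, hk⟩, rfl⟩ := QuotientGroup.mk_surjective y
  have hmk : ∀ {b : G} (hb : b ∈ X), cjQuot g X (QuotientGroup.mk ⟨b, hb⟩) =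
      QuotientGroup.mk ⟨g * b * g⁻¹, conj_mem_cj hb⟩ := fun _ => rfl
  rw [tr_e, act_mk ha hk, hmk, hmk, act_mk ha' (conj_mem_cj hk)]
  congr 1
  apply Subtype.ext
  group

omit [Finite G] in
/-- the action on the quotient by the core of a covering subgroup -/
theorem act_sup {L H : Subgroup G} (hLH : L ≤ H) (e : Iface.Bar L ≃* Iface.Bar H)
    (he : ∀ (j : G) (hj : j ∈ L) (hjX : j ∈ H), e (QuotientGroup.mk ⟨j, hj⟩) = QuotientGroup.mk ⟨j, hjX⟩)
    {x : G} (hxL : x ∈ normalizer (L : Set G)) (hxH : x ∈ normalizer (H : Set G)) :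
    act H ⟨x, hxH⟩ = tr e (act L ⟨x, hxL⟩) := by
  apply MulEquiv.ext
  intro y
  obtain ⟨y, rfl⟩ := e.surjective y
  obtain ⟨⟨k, hk⟩, rfl⟩ := QuotientGroup.mk_surjective y
  rw [tr_e, act_mk hxL hk, he _ hk (hLH hk), he _ (conj_mem hxL hk) (hLH (conj_mem hxL hk)),
    act_mk hxH (hLH hk)]

/-- the character of `x` on `H / O(H)` -/
theorem sF_sup (hs : L ⊔ core H = H) (hL : IsL34 (Iface.Bar L)) (hH : IsL34 (Iface.Bar H))
    {x : G} (hxL : x ∈ normalizer (L : Set G)) (hxH : x ∈ normalizer (H : Set G)) :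
    sF hH (act H ⟨x, hxH⟩) = sF hL (act L ⟨x, hxL⟩) := by
  obtain ⟨e, he⟩ := exists_quotEquiv hs
  rw [act_sup (by rw [← hs]; exact le_sup_left) e he hxL hxH]
  exact FL34.Seven.sF_tr hL hH e _

/-- **(7)** -/
theorem false_of (hG : Parity.NoSign G) (T : ThreeBal G) (S : Germ W H)
    (one : ∀ m ∈ normalizer (W : Set G), cj m H = H)
    {x f₁ f₂ : G} (xW : x ∈ normalizer (W : Set G)) (xn : x ∈ normalizer (H : Set G)) (xx : x * x = 1)
    (hx : sF S.l34 (act H ⟨x, xn⟩) = -1)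
    (k1 : f₁ ∈ K0 W H) (k2 : f₂ ∈ K0 W H) (f11 : f₁ * f₁ = 1) (f22 : f₂ * f₂ = 1)
    (f12 : f₁ * f₂ = f₂ * f₁) (x1 : x * f₁ = f₁ * x) (x2 : x * f₂ = f₂ * x)
    (fine1 : Fine W f₁) (fine2 : Fine W f₂) (fine3 : Fine W (f₁ * f₂)) : False := by
  have hn : normalizer (W : Set G) ≤ normalizer (H : Set G) := fun m hm =>
    mem_normalizer_iff_cj.mpr (one m hm)
  obtain ⟨F, hF⟩ : ∃ F, F = zpowers f₁ ⊔ zpowers f₂ := ⟨_, rfl⟩
  have hFel : IsElementaryAbelian 2 F := by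
    rw [hF]
    refine el_sup (el_zpowers f11) (el_zpowers f22) ?_
    intro a ha b hb
    rcases (mem_zpowers_of_sq f11).mp ha with rfl | rfl
    · rw [one_mul, mul_one]
    rcases (mem_zpowers_of_sq f22).mp hb with rfl | rfl
    · rw [one_mul, mul_one]
    exact f12
  have hf1 : f₁ ∈ F := by rw [hF]; exact mem_sup_left (mem_zpowers f₁)
  have hf2 : f₂ ∈ F := by rw [hF]; exact mem_sup_right (mem_zpowers f₂)
  have hFc : F ≤ centralizer ({x} : Set G) := by
    rw [hF]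
    refine sup_le ?_ ?_ <;> rw [zpowers_le]
    · exact mem_c x1.symm
    · exact mem_c x2.symm
  have hFM : F ≤ M0 W H := by
    rw [hF]
    refine sup_le ?_ ?_ <;> rw [zpowers_le]
    · exact K0_le k1
    · exact K0_le k2
  have hι : M0 W H ≤ normalizer (H : Set G) := inf_le_right
  refine Res.WEnd.false_of hG (M0 W H) (((sF S.l34).comp (act H)).comp (inclusion hι))
    F ⟨xW, xn⟩ xx hx (isPGroup_of_el hFel) hFc hFM ?_
  intro g hgF h hs
  have mm : ∀ {t : G}, g⁻¹ * t * g ∈ M0 W H → t ∈ normalizer (cj g H : Set G) := by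
    intro t ht
    rw [← cj_normalizer, mem_cj]
    exact ht.2
  have hW : cj g W = W := by
    refine cover T S (S.conj g) hn k1 k2 f11 f22 f12 fine1 fine2 fine3 (mm (hgF _ hf1)) (mm (hgF _ hf2))
      (mm h) xx x1 x2 ?_
    have e1 : g * (g⁻¹ * x * g) * g⁻¹ = x := by group
    have h1 := act_tr g h.2 (by rw [e1]; exact mm h)
    have h2 : act (cj g H) ⟨x, mm h⟩ = tr (cjQuot g H) (act H ⟨g⁻¹ * x * g, h.2⟩) := by
      rw [← h1]
      congr 1
      exact Subtype.ext e1.symm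
    rw [h2, FL34.Seven.sF_tr S.l34 (S.conj g).l34]
    exact hs
  have hgW : g ∈ normalizer (W : Set G) := mem_normalizer_iff_cj.mpr hW
  exact ⟨hgW, hn hgW⟩

end Cfsg.Agent.UGT.N2W.One
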