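import Cfsg.Agent.UGT.N2W.One
import Cfsg.Agent.UGT.N2W.Entr
import Cfsg.Agent.UGT.FL34.KFCore

/-!
# One germ over `W`: the end (N2, cores, bb #17697 (7))

* `sF_triple`: `x` is of type `u` on `L / O(L)`.
* `sF_gd`: ... and on `H / O(H)`, `L W = H`.
* `false_one`: `(W, H)` with `H` invariant under `N(W)`, `a` good, `Two x a L`: contradiction.
-/

set_option autoImplicit false
set_option linter.unusedSectionVars false

open Cfsg Subgroup
open Cfsg.Agent.SignalizersComponents Cfsg.Agent.Lib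
open Cfsg.Agent.SignalizersComponents.IntrinsicBasic
open Cfsg.Agent.Intrinsic.Basic Cfsg.Agent.Intrinsic.Cen Cfsg.Agent.Intrinsic.Diag
open Cfsg.Agent.McLLyComp.Act
open Cfsg.Agent.UGT.Triple Cfsg.Agent.UGT.PumpGen Cfsg.Agent.UGT.TriBase
open Cfsg.Agent.UGT.Iface (Bar IsL34)
open Cfsg.Agent.UGT.Res.Base Cfsg.Agent.UGT.Res.Abel Cfsg.Agent.UGT.Res.CoreFree
open Cfsg.Agent.UGT.Res.WPair (M0 K0 mem_M0 mem_K0 K0_le M0_le_normalizer cj_normalizer)
open Cfsg.Agent.UGT.N2S (TT Typ)
open Cfsg.Agent.UGT.FL34.Seven (sF sG)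
open scoped commutatorElement

namespace Cfsg.Agent.UGT.N2W.One

open Fun Cover Entr

universe u

variable {G : Type u} [Group G] [Finite G] {W H L : Subgroup G} {x a : G}

theorem sF_triple (T : TT x a L) : sF T.l34 (act L ⟨x, T.x_mem⟩) = -1 := by
  obtain ⟨e⟩ := FL34.Seven.exists_e T.l34
  have h1 := FL34.KF.bits_of_oddC e (Res.KFacts.act_sq T.toIsTriple) (N2S.oddC' T.toIsTriple)
    (LTF.Basics.img_ne T.toIsTriple)
  rw [FL34.Seven.sF_eq T.l34 e, h1]
  rfl

theorem sF_gd (T3 : ThreeBal G) (T : TT x a L) (F : Fn W a L) (hL : L ⊔ W = H) (hH : IsL34 (Bar H))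
    (xn : x ∈ normalizer (H : Set G)) : sF hH (act H ⟨x, xn⟩) = -1 := by
  rw [sF_sup (sup_core T3 F hL) T.l34 hH T.x_mem xn]
  exact sF_triple T

/-- a simple group with a 2-component in a centralizer of an involution has no sign -/
theorem no_sign (hG : IsSimpleGroup G) (T : IsTriple x a L) : Parity.NoSign G := by
  intro f
  have hL : L ≤ f.ker := by
    rw [← T.comp.perfect, commutator_le]
    intro a _ b _
    rw [MonoidHom.mem_ker, map_commutatorElement, commutatorElement_eq_one_iff_mul_comm, mul_comm]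
  rcases (inferInstance : f.ker.Normal).eq_bot_or_eq_top with h | h
  · exfalso
    rw [h, le_bot_iff] at hL
    exact T.comp.ne_bot hL
  · exact MonoidHom.ker_eq_top_iff.mp h

/-- **(7)** -/
theorem false_one (hG : IsSimpleGroup G) (Wt : Typ G) (T3 : ThreeBal G) (ND : NoDbl W)
    (one : ∀ m ∈ normalizer (W : Set G), cj m H = H) (T : TT x a L) (F : Fn W a L)
    (hL : L ⊔ W = H) (tw : Two x a L) : False := by
  have hgd : Gd x W H a := ⟨L, T, F, hL⟩
  obtain ⟨t, ot, hne, hta, htx, hf⟩ := tw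
  have hta' : orderOf (a * t) = 2 := by
    refine orderOf_eq_prime ?_ ?_
    · rw [pow_two]
      calc a * t * (a * t) = a * (t * a) * t := by group
        _ = (a * a) * (t * t) := by rw [hta]; group
        _ = 1 := by rw [sq_of_order T.inva, sq_of_order ot, one_mul]
    · intro h
      apply hne
      have h1 := eq_inv_of_mul_eq_one_right h
      rw [h1]
      exact inv_eq_of_mul_eq_one_left (sq_of_order T.inva)
  have haK : a ∈ K0 W H := hgd.mem_K0 T3
  have htK : t ∈ K0 W H := mem_K0_of_fixes T3 F hL hta hf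
  have hax := T.comm
  have htg : Gd x W H t := hgd.all Wt T3 ND htK ot htx
  have hatg : Gd x W H (a * t) := hgd.all Wt T3 ND (mul_mem haK htK) hta' (by
    rw [mul_assoc, htx, ← mul_assoc, hax, mul_assoc])
  have hxM := hgd.x_mem
  have S : Germ W H := by
    rw [← hL]
    exact F.germ T3
  exact false_of (no_sign hG T.toIsTriple) T3 S one hxM.1 hxM.2 (sq_of_order T.invx)
    (sF_gd T3 T F hL S.l34 hxM.2) haK htK (sq_of_order T.inva) (sq_of_order ot) hta.symm hax.symm htx.symm
    hgd.fine htg.fine hatg.fine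

end Cfsg.Agent.UGT.N2W.One
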