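import Cfsg.Agent.UGT.N2W.IntA
import Cfsg.Agent.UGT.Ctl.Basic

/-!
# Several germs over `W`: the end (N2, cores, bb #17697 (5), #18301)

`AA W 𝓗`: for an involution `t` of a member, `g t g⁻¹ ∈ N(W)` implies `g ∈ N(W)`.

* `core_eq`: `O(X) = W` for the members `X`.
* `eq_top`: `N(W) = G`.
* `false_of`: `G` simple, `W ≠ 1`, `Many W 𝓗`, `AA` ⟹ contradiction.
-/

set_option autoImplicit false
set_option linter.unusedSectionVars false

open Cfsg Subgroup
open Cfsg.Agent.SignalizersComponents Cfsg.Agent.Lib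
open Cfsg.Agent.SignalizersComponents.IntrinsicBasic
open Cfsg.Agent.Intrinsic.Basic Cfsg.Agent.Intrinsic.Cen Cfsg.Agent.Intrinsic.Diag
open Cfsg.Agent.McLLyComp.Act
open Cfsg.Agent.UGT.Triple Cfsg.Agent.UGT.PumpGen Cfsg.Agent.UGT.TriBase
open Cfsg.Agent.UGT.Iface (IsL34 Bar)
open Cfsg.Agent.UGT.Res.Base Cfsg.Agent.UGT.Res.Abel Cfsg.Agent.UGT.Res.CoreFree
open Cfsg.Agent.UGT.Res.WFun (el_of_sq el_mono el_sup el_cj el_zpowers mem_zpowers_of_sq mem_zpowers_sup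
  two_mul_card_le card_mul_le_sup exists_commuting)
open Cfsg.Agent.UGT.Res.WPair (M0 K0 mem_M0 mem_K0 K0_le M0_le_normalizer cj_M0 cj_K0 cj_normalizer cj_sup
  cj_commutator cj_le_iff fixes_of_mem_core comm_sup_le mem_sup_left_iff card_sup_mul)
open scoped commutatorElement

namespace Cfsg.Agent.UGT.N2W.PEnd

open Fun

universe u

variable {G : Type u} [Group G] {W X Y : Subgroup G} {𝓗 : Set (Subgroup G)}

/-- (A) -/
def AA (W : Subgroup G) (𝓗 : Set (Subgroup G)) : Prop :=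
  ∀ X ∈ 𝓗, ∀ t ∈ X, t * t = 1 → t ≠ 1 → ∀ g : G, g * t * g⁻¹ ∈ normalizer (W : Set G) →
    g ∈ normalizer (W : Set G)

variable [Finite G]

/-- `O(X) = W` -/
theorem core_eq (M : Many W 𝓗) (hX : X ∈ 𝓗) : core X = W := by
  have S := M.germ X hX
  refine le_antisymm ?_ S.Wc
  obtain ⟨P, hP, -⟩ := exists_isSyl (R₀ := ⊥) (E := X) IsPGroup.of_bot bot_le
  obtain ⟨A, hAP, hA16, hA2⟩ := Move.exists_e16_syl S.l34 hP
  have hAX := hAP.trans hP.le
  have hE := el_of_sq hA2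
  have hE1 : A ≠ ⊥ := by
    rintro rfl
    rw [card_bot] at hA16
    omega
  have hN2 : ¬ 2 ∣ Nat.card ↥(core X) := by
    rw [← even_iff_two_dvd, Nat.not_even_iff_odd]
    exact odd_card_core X
  have hn : A ≤ normalizer (core X : Set G) := hAX.trans (le_normalizer_core _)
  rw [← Lib.CoprimeHyperplane.iSup_centralizer_hyperplane hE hE1 hN2 hn]
  refine iSup_le fun B => ?_
  have h8 : Nat.card ↥B.1 = 2 ^ 3 := by
    have := relIndex_mul_relIndex ⊥ B.1 A bot_le B.2.1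
    rw [relIndex_bot_left, relIndex_bot_left, B.2.2, hA16] at this
    omega
  rw [← S.wa A hAX hA2 hA16]
  refine le_trans ?_ (KFamily.le_WW (X := fun D => signalizerDelta 2 D) B.2.1 h8)
  refine le_iInf fun b => ?_
  obtain ⟨b, hb, hb1⟩ := b
  have hbX : b ∈ X := hAX (B.2.1 hb)
  have hbb := hA2 b (B.2.1 hb)
  have hfine := M.fine X hX b hbX hbb hb1
  have hn2 : centralizer ({b} : Set G) ≤ normalizer (X : Set G) := fun c hc =>
    (Move.mem_M0_of_comm M.toFam hX hbX hbb hb1 (hfine hc) (comm_c hc)).2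
  have h1 : core X ⊓ centralizer (B.1 : Set G) ≤ core X ⊓ centralizer ({b} : Set G) :=
    inf_le_inf_left _ (centralizer_le (Set.singleton_subset_iff.mpr hb))
  refine h1.trans (le_core inf_le_right (fun c hc => ?_) ?_)
  · rw [mem_normalizer_iff_cj, cj_inf, ← core_cj, mem_normalizer_iff_cj.mp (hn2 hc), cj_eq_self_of_mem hc]
  · exact Odd.of_dvd_nat (odd_card_core X) (card_dvd_of_le inf_le_left)

/-- the hypotheses of THEOREM CTL -/
theorem ctl (M : Many W 𝓗) (hA : AA W 𝓗) :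
    Ctl.Ctl (normalizer (W : Set G)) W (fun X : ↥𝓗 => (X : Subgroup G)) where
  FH := fun i => (M.germ _ i.2).nW
  WF := fun i => (M.germ _ i.2).W_le
  odd := by
    obtain ⟨X, hX, -⟩ := M.two
    exact (M.germ X hX).odd_W
  nW := fun h hh x hx => (mem_normalizer_iff.mp hh x).mp hx
  comm := by
    intro i j hij x hx y hy
    exact M.comm _ i.2 _ j.2 (fun h => hij (Subtype.ext h)) (commutator_mem_commutator hx hy)
  perm := by
    intro h hh i
    exact ⟨⟨cj h i.1, M.conj h hh _ i.2⟩, rfl⟩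
  cen := by
    intro i x hx h
    have S := M.germ _ i.2
    rw [← core_eq M i.2, ← S.inf_K0]
    exact ⟨hx, S.le_M0 hx, le_normalizer hx, fun y hy => S.Wc (h y hy)⟩
  rich := by
    intro i
    obtain ⟨P, hP, -⟩ := exists_isSyl (R₀ := ⊥) (E := i.1) IsPGroup.of_bot bot_le
    obtain ⟨A, hAP, hA16, hA2⟩ := Move.exists_e16_syl (M.germ _ i.2).l34 hP
    have hAX := hAP.trans hP.le
    obtain ⟨a, ha, ha1, -⟩ := Res.CoreFree.exists_ne (B := A) (by omega) 1
    obtain ⟨b, hb, hb1, hba⟩ := Res.CoreFree.exists_ne (B := A) (by omega) a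
    exact ⟨a, hAX ha, b, hAX hb, hA2 a ha, hA2 b hb, comm_of_el (el_of_sq hA2) ha hb, ha1, hb1, hba.symm⟩
  sc1 := fun i u hu uu u1 g hg => hA _ i.2 u hu uu u1 g hg

/-- (A) from `Many.eq_of_mem` -/
theorem aa (T : ThreeBal G) (M : Many W 𝓗) : AA W 𝓗 := by
  intro X hX t ht tt t1 g hg
  have h1 : t ∈ normalizer (cj g⁻¹ W : Set G) := by
    rw [← cj_normalizer, mem_cj, inv_inv]
    exact hg
  have h2 := M.eq_of_mem T (M.conj_many g⁻¹) hX ht tt t1 h1
  exact inv_mem_iff.mp (mem_normalizer_iff_cj.mpr h2.symm)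

/-- THEOREM CTL (UGT/Ctl/Main.lean) -/
def CT : Prop := ∀ (G : Type u) [Group G] [Finite G] (ι : Type u) (H W : Subgroup G) (F : ι → Subgroup G)
  [Nontrivial ι], Ctl.Ctl H W F → H = ⊤

/-- **(5) of #17697 from THEOREM CTL** -/
theorem five_of (ct : CT.{u}) (hG : IsSimpleGroup G) (T : ThreeBal G) (M : Many W 𝓗) (hW : W ≠ ⊥) :
    False := by
  obtain ⟨X, hX, Y, hY, hne⟩ := M.two
  haveI : Nontrivial ↥𝓗 := ⟨⟨X, hX⟩, ⟨Y, hY⟩, fun h => hne (congrArg Subtype.val h)⟩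
  have h1 := ct _ _ _ _ _ (ctl M (aa T M))
  have h2 : W.Normal := normalizer_eq_top_iff.mp h1
  rcases h2.eq_bot_or_eq_top with h3 | h3
  · exact hW h3
  · have S := M.germ X hX
    obtain ⟨P, hP, -⟩ := exists_isSyl (R₀ := ⊥) (E := X) IsPGroup.of_bot bot_le
    obtain ⟨A, hAP, hA16, hA2⟩ := Move.exists_e16_syl S.l34 hP
    obtain ⟨a, ha, ha1, -⟩ := Res.CoreFree.exists_ne (B := A) (by omega) 1
    refine ha1 (eq_one_of_mem_core_sq (S.Wc ?_) (hA2 a ha))
    rw [h3]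
    exact mem_top a

end Cfsg.Agent.UGT.N2W.PEnd
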