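import Cfsg.Agent.UGT.Res.W1.PR
import Cfsg.Agent.UGT.NodesL34w
import Cfsg.Agent.UGT.RedRB
import Cfsg.Agent.UGT.N2S.KF34
import Cfsg.Agent.UGT.N2S.Base
import Cfsg.Agent.UGT.L2i.FactsRep

/-!
# `PR1` in the world `L₂(q)`, `A₇`, `A₉`, `L₃(4)`

The proof of `Res.W1.PR.pr1` with the additional types `A₇`, `A₉`, `L₃(4)`: the elements of `O(C(x))` induce inner
automorphisms on the 2-components of these types.
-/

set_option autoImplicit false

open Cfsg Subgroup
open Cfsg.Agent.SignalizersComponents Cfsg.Agent.Lib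
open Cfsg.Agent.SignalizersComponents.IntrinsicBasic
open Cfsg.Agent.Intrinsic.Basic Cfsg.Agent.Intrinsic.Cen Cfsg.Agent.Intrinsic.Diag
open Cfsg.Agent.McLLyComp.Act
open Cfsg.Agent.UGT.Triple Cfsg.Agent.UGT.Iface Cfsg.Agent.UGT.TriBase
open Cfsg.Agent.UGT.Nodes (WorldL34)
open Cfsg.Agent.UGT.Res.W1.PR
open scoped commutatorElement

namespace Cfsg.Agent.UGT.N2W

universe u

/-- **(PR1)** in one group -/
def PRG (G : Type*) [Group G] : Prop := ∀ (x z d : G) (H : Subgroup G),
  orderOf x = 2 → orderOf z = 2 → z * x = x * z → d ∈ core (centralizer ({x} : Set G)) → d * z = z * d →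
  H ≤ centralizer ({z} : Set G) → d ∈ normalizer (H : Set G) → H ≤ ⁅H, zpowers d⁆ → z ∉ H

/-- **(LIFT)** in one group -/
def LiftG (G : Type*) [Group G] : Prop := ∀ (x d : G) (M N : Subgroup G),
  IsComp M N → orderOf x = 2 → x ∈ M → d ∈ core (centralizer ({x} : Set G)) → d ∈ M →
  ∀ (hx : x ∈ normalizer (N : Set G)) (hd : d ∈ normalizer (N : Set G)) (z : Bar N) (H : Subgroup (Bar N)),
    z * z = 1 → z ≠ 1 → act N ⟨x, hx⟩ z = z → act N ⟨d, hd⟩ z = z → H ≤ centralizer ({z} : Set (Bar N)) →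
    PComponents.pElem 2 H = H → z ∈ H → (∀ h ∈ H, act N ⟨d, hd⟩ h ∈ H) →
    H ≤ closure {k | ∃ h ∈ H, k = act N ⟨d, hd⟩ h * h⁻¹} → False

section abs

variable {X : Type*} [Group X]

/-- centreless, and abelian outer automorphism group or `δ` and its conjugates inner -/
structure Good34 (δ : X) (K : Subgroup X) : Prop where
  cb : ∀ k ∈ K, (∀ y ∈ K, k * y = y * k) → k = 1
  out : (∀ a ∈ normalizer (K : Set X), ∀ b ∈ normalizer (K : Set X),
    ⁅a, b⁆ ∈ K ⊔ centralizer (K : Set X)) ∨ (∀ g, g * δ * g⁻¹ ∈ K ⊔ centralizer (K : Set X))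

/-- the product of centreless components is centreless -/
theorem eq_one_of_sup34 (F : Finset (Subgroup X)) (hF : ∀ K ∈ F, IsComponent K)
    (hG : ∀ K ∈ F, ∀ k ∈ K, (∀ y ∈ K, k * y = y * k) → k = 1) {ζ : X} (hζ : ζ ∈ F.sup id)
    (hc : ∀ y, ζ * y = y * ζ) : ζ = 1 := by
  classical
  induction F using Finset.induction_on with
  | empty => exact mem_bot.mp hζ
  | insert K₀ F hn ih =>
    have h₀ := hF K₀ (Finset.mem_insert_self _ _)
    have hF' : ∀ K ∈ F, IsComponent K := fun K hK => hF K (Finset.mem_insert_of_mem hK)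
    have hcen := sup_le_centralizer hF' h₀ hn
    rw [Finset.sup_insert, id, sup_comm, mem_sup_comm hcen] at hζ
    obtain ⟨e, he, k, hk, hek⟩ := hζ
    have hk1 : k = 1 := by
      refine hG K₀ (Finset.mem_insert_self _ _) k hk fun y hy => ?_
      have h1 := hc y
      rw [← hek] at h1
      have h2 : y * e = e * y := mem_centralizer_iff.mp (hcen he) y hy
      apply mul_left_cancel (a := e)
      calc e * (k * y) = e * k * y := by group
        _ = y * (e * k) := h1
        _ = y * e * k := by group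
        _ = e * (y * k) := by rw [h2]; group
    rw [hk1, mul_one] at hek
    exact ih hF' (fun K hK => hG K (Finset.mem_insert_of_mem hK)) (hek ▸ he)

variable [Finite X]

/-- **the abstract statement** -/
theorem abs34 (hO : pPrimeCore 2 X = ⊥) {δ ζ : X} {H : Subgroup X}
    (h1 : δ ∈ centralizer (pCore 2 X : Set X))
    (h2 : ∀ K : Subgroup X, IsComponent K → δ ∈ normalizer (K : Set X))
    (h3 : ∀ K : Subgroup X, IsComponent K →
      (∀ g, g * δ * g⁻¹ ∈ centralizer (K : Set X)) ∨ Good34 δ K)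
    (hζ : ∀ y, ζ * y = y * ζ) (hH : H ≤ ⁅H, zpowers δ⁆) (hz : ζ ∈ H) : ζ = 1 := by
  classical
  have hfact : Fact (Nat.Prime 2) := ⟨Nat.prime_two⟩
  have hfit := BalanceAux.fitting_eq_pCore (X := X) 2 hO
  obtain ⟨P, hP⟩ : ∃ P : Subgroup X, P = normalClosure {δ} := ⟨_, rfl⟩
  have hPn : P.Normal := hP ▸ normalClosure_normal
  have hδP : δ ∈ P := hP ▸ subset_normalClosure rfl
  have hPle : ∀ N : Subgroup X, N.Normal → δ ∈ N → P ≤ N := by
    intro N hN hd
    rw [hP]
    exact normalClosure_le_normal (by rintro _ rfl; exact hd)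
  have hPcl : ∀ N : Subgroup X, (∀ g, g * δ * g⁻¹ ∈ N) → P ≤ N := by
    intro N h6
    rw [hP, normalClosure, closure_le]
    intro z hz
    obtain ⟨a, ha, hza⟩ := Group.mem_conjugatesOfSet_iff.mp hz
    obtain ⟨c, hc⟩ := isConj_iff.mp hza
    rw [Set.mem_singleton_iff] at ha
    rw [ha] at hc
    rw [← hc]
    exact h6 c
  have hPO : P ≤ centralizer (fittingSubgroup X : Set X) := by
    rw [hfit]
    have : (pCore 2 X).Normal := Lib.Cores.pCore_normal 2
    exact hPle _ inferInstance h1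
  -- `P` normalizes the components
  have hPN : ∀ K : Subgroup X, IsComponent K → P ≤ normalizer (K : Set X) := by
    obtain ⟨N, hN⟩ : ∃ N : Subgroup X, ∀ p, p ∈ N ↔ ∀ K : Subgroup X, IsComponent K →
        p ∈ normalizer (K : Set X) :=
      ⟨{ carrier := {p | ∀ K : Subgroup X, IsComponent K → p ∈ normalizer (K : Set X)}
         mul_mem' := fun ha hb K hK => mul_mem (ha K hK) (hb K hK)
         one_mem' := fun K _ => one_mem _
         inv_mem' := fun ha K hK => inv_mem (ha K hK) }, fun _ => Iff.rfl⟩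
    have hNn : N.Normal := by
      refine ⟨fun n hn g => ?_⟩
      rw [hN] at hn ⊢
      intro K hK
      have h4 : IsComponent (IntrinsicBasic.cj g⁻¹ K) := Components.isComponent_conj g⁻¹ hK
      have h5 := hn _ h4
      rw [mem_normalizer_iff_cj] at h5 ⊢
      have h6 := congrArg (IntrinsicBasic.cj g) h5
      rw [cj_cj_inv] at h6
      rw [cj_mul, cj_mul]
      exact h6
    intro K hK p hp
    exact (hN p).mp (hPle N hNn ((hN δ).mpr h2) hp) K hK
  -- the components not centralized by `P`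
  obtain ⟨S, hS⟩ : ∃ S : Finset (Subgroup X), ∀ K, K ∈ S ↔ IsComponent K ∧
      ¬ P ≤ centralizer (K : Set X) := by
    refine ⟨(Set.toFinite {K : Subgroup X | IsComponent K ∧ ¬ P ≤ centralizer (K : Set X)}).toFinset,
      fun K => ?_⟩
    rw [Set.Finite.mem_toFinset]
    rfl
  have hSc : ∀ K ∈ S, IsComponent K := fun K hK => ((hS K).mp hK).1
  have hSg : ∀ K ∈ S, Good34 δ K := by
    intro K hK
    obtain ⟨h4, h5⟩ := (hS K).mp hK
    rcases h3 K h4 with h6 | h6
    · exact absurd (hPcl _ h6) h5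
    · exact h6
  obtain ⟨E, hE⟩ : ∃ E : Subgroup X, E = S.sup id := ⟨_, rfl⟩
  have hEL : E ≤ layer X := by
    rw [hE]
    exact Finset.sup_le fun K hK => Components.component_le_layer (hSc K hK)
  -- `[P, P] ≤ E O_2(X)`
  have hPP : ∀ p ∈ ⁅P, P⁆, ∃ t ∈ E, t⁻¹ * p ∈ fittingSubgroup X := by
    intro p hp
    have h4 : ∀ K ∈ S, p ∈ K ⊔ centralizer (K : Set X) := by
      intro K hK
      have h5 : ⁅P, P⁆ ≤ K ⊔ centralizer (K : Set X) := by
        rcases (hSg K hK).out with h6 | h6
        · rw [commutator_le]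
          intro a ha b hb
          exact h6 a (hPN K (hSc K hK) ha) b (hPN K (hSc K hK) hb)
        · exact (commutator_le_left P P).trans (hPcl _ h6)
      exact h5 hp
    obtain ⟨t, ht, htc⟩ := exists_mul p S hSc h4
    rw [← hE] at ht
    have hpP : p ∈ P := commutator_le_left P P hp
    refine ⟨t, ht, cent_le_fitting ?_⟩
    have hL : layer X ≤ centralizer ({t⁻¹ * p} : Set X) := by
      rw [Components.layer_le_iff]
      intro K hK
      have h6 : t⁻¹ * p ∈ centralizer (K : Set X) := by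
        by_cases hKS : K ∈ S
        · exact htc K hKS
        · have h7 : P ≤ centralizer (K : Set X) := by
            by_contra h8
            exact hKS ((hS K).mpr ⟨hK, h8⟩)
          have h8 : E ≤ centralizer (K : Set X) := hE ▸ sup_le_centralizer hSc hK hKS
          exact mul_mem (inv_mem (h8 ht)) (h7 hpP)
      intro k hk
      rw [mem_centralizer_singleton_iff]
      exact mem_centralizer_iff.mp h6 k hk
    have hF : fittingSubgroup X ≤ centralizer ({t⁻¹ * p} : Set X) := by
      have h6 : t⁻¹ * p ∈ centralizer (fittingSubgroup X : Set X) :=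
        mul_mem (inv_mem (Components.layer_le_centralizer_fitting (hEL ht))) (hPO hpP)
      intro k hk
      rw [mem_centralizer_singleton_iff]
      exact mem_centralizer_iff.mp h6 k hk
    rw [mem_centralizer_iff]
    intro k hk
    exact mem_centralizer_singleton_iff.mp ((sup_le hL hF) hk)
  have hzP : zpowers δ ≤ P := by
    rw [zpowers_le]
    exact hδP
  have hHP : H ≤ P := hH.trans ((commutator_mono le_rfl hzP).trans (commutator_le_right H P))
  have hHPP : H ≤ ⁅P, P⁆ := hH.trans (commutator_mono hHP hzP)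
  have hPE : P ≤ normalizer (E : Set X) := by
    intro p hp
    rw [mem_normalizer_iff_cj, hE]
    have h4 : ∀ K ∈ S, IntrinsicBasic.cj p K = K := fun K hK =>
      mem_normalizer_iff_cj.mp (hPN K (hSc K hK) hp)
    apply Subgroup.eq_of_le_of_card_ge
    · have h5 : IntrinsicBasic.cj p (S.sup id) = S.sup fun K => IntrinsicBasic.cj p K := by
        change (S.sup id).map _ = _
        rw [Finset.apply_sup_eq_sup_comp (fun K : Subgroup X => K.map (MulAut.conj p).toMonoidHom)
          (fun A B => Subgroup.map_sup A B _) (Subgroup.map_bot _)]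
        rfl
      rw [h5]
      exact Finset.sup_le fun K hK => by
        rw [h4 K hK]
        exact Finset.le_sup (f := id) hK
    · rw [card_cj]
  have hHE : H ≤ E := by
    refine hH.trans ?_
    rw [commutator_le]
    intro h hh g hg
    obtain ⟨t, ht, hc⟩ := hPP h (hHPP hh)
    obtain ⟨c, hc'⟩ : ∃ c, c = t⁻¹ * h := ⟨_, rfl⟩
    rw [← hc'] at hc
    have hgc : c * g = g * c := mem_centralizer_iff.mp (hPO (hzP hg)) c hc
    have h4 : ⁅h, g⁆ = t * (g * t⁻¹ * g⁻¹) := by
      have h5 : h = t * c := by rw [hc']; group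
      rw [commutatorElement_def, h5, mul_inv_rev]
      calc t * c * g * (c⁻¹ * t⁻¹) * g⁻¹ = t * (c * g) * c⁻¹ * t⁻¹ * g⁻¹ := by group
        _ = t * (g * c) * c⁻¹ * t⁻¹ * g⁻¹ := by rw [hgc]
        _ = t * (g * t⁻¹ * g⁻¹) := by group
    rw [h4]
    exact mul_mem ht ((mem_normalizer_iff.mp (hPE (hzP hg)) _).mp (inv_mem ht))
  exact eq_one_of_sup34 S hSc (fun K hK => (hSg K hK).cb) (hE ▸ hHE hz) hζ

end abs

/-! ### the types -/

section types

variable {G : Type u} [Group G] [Finite G] {x a : G} {L : Subgroup G}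

omit [Finite G] in
/-- an element acting as an inner automorphism on `L / O(L)` -/
theorem exists_fixes_of_act {d l : G} (hd : d ∈ normalizer (L : Set G)) (hl : l ∈ L)
    (h : act L ⟨d, hd⟩ = MulAut.conj (QuotientGroup.mk ⟨l, hl⟩ : Bar L)) : Fixes (l⁻¹ * d) L := by
  have h1 : act L ⟨l⁻¹ * d, mul_mem (le_normalizer (inv_mem hl)) hd⟩ = 1 := by
    rw [act_mul (le_normalizer (inv_mem hl)) hd, h, act_of_mem (inv_mem hl), ← map_mul]
    have h2 : (QuotientGroup.mk (⟨l⁻¹, inv_mem hl⟩ : ↥L) : Bar L) * QuotientGroup.mk ⟨l, hl⟩ = 1 := by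
      rw [← QuotientGroup.mk_mul]
      have : (⟨l⁻¹, inv_mem hl⟩ : ↥L) * ⟨l, hl⟩ = 1 := Subtype.ext (inv_mul_cancel l)
      rw [this]
      rfl
    rw [h2, map_one]
  exact (act_eq_one_iff _).mp h1

/-- `O(C(x)) ∩ C(a)` induces inner automorphisms of `L / O(L)` of type `Aₙ` -/
theorem inner_alt {n : ℕ} (h7 : 7 ≤ n) (h : IsAlt n (Bar L)) (T : IsTriple x a L) {d : G}
    (hd : d ∈ core (centralizer ({x} : Set G))) (hda : d ∈ centralizer ({a} : Set G)) :
    ∃ l ∈ L, Fixes (l⁻¹ * d) L := by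
  obtain ⟨Mo⟩ := RedRB.exists_mod h7 h
  have hdL := T.mem_normalizer_of_core hd hda
  have hodd : Odd (orderOf d) := by
    refine Odd.of_dvd_nat (odd_card_core (centralizer ({x} : Set G))) ?_
    rw [← Subgroup.orderOf_mk d hd]
    exact orderOf_dvd_natCard _
  have hφ : Mo.φ d ∈ Cfsg.Agent.UAlt.alt (Finset.univ : Finset (Fin n)) := by
    refine ⟨?_, fun i hi => absurd (Finset.mem_univ i) hi⟩
    change Mo.φ d ∈ alternatingGroup (Fin n)
    rw [Equiv.Perm.mem_alternatingGroup]
    have h1 : (Equiv.Perm.sign (Mo.φ d)) ^ orderOf d = 1 := by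
      rw [← map_pow, ← Mo.pow hdL, pow_orderOf_eq_one, Mo.one, map_one]
    rcases Int.units_eq_one_or (Equiv.Perm.sign (Mo.φ d)) with h2 | h2
    · exact h2
    · rw [h2, hodd.neg_one_pow] at h1
      exact absurd h1 (by decide)
  obtain ⟨l, hl, hlφ⟩ := Mo.lift _ hφ
  refine ⟨l, hl, ?_⟩
  rw [← Mo.fixes_iff (mul_mem (le_normalizer (inv_mem hl)) hdL), Mo.mul _ _ (le_normalizer (inv_mem hl)) hdL,
    Mo.inv (le_normalizer hl), hlφ, inv_mul_cancel]

/-- `O(C(x)) ∩ C(a)` induces inner automorphisms of `L / O(L)` of type `L₃(4)` -/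
theorem inner_l34 (h : IsL34 (Bar L)) (T : IsTriple x a L) {d : G}
    (hd : d ∈ core (centralizer ({x} : Set G))) (hda : d ∈ centralizer ({a} : Set G)) :
    ∃ l ∈ L, Fixes (l⁻¹ * d) L := by
  have F3 := CE.L34.facts3_of h (Res.KFacts.act_sq T) (N2S.oddC' T) (LTF.Basics.img_ne T)
  have hO := N2S.oddC' T
  have hdL := T.mem_normalizer_of_core hd hda
  obtain ⟨y, hy, -, -⟩ := F3.core _ hO.odd hO.com hO.nor _
    (LTF.Basics.mem_img.mpr ⟨d, hdL, hd, comm_c hda, rfl⟩)
  obtain ⟨⟨l, hl⟩, rfl⟩ := QuotientGroup.mk_surjective y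
  exact ⟨l, hl, exists_fixes_of_act hdL hl hy⟩

omit [Finite G] in
theorem center_alt {n : ℕ} (h7 : 7 ≤ n) {A : Type*} [Group A] (h : IsAlt n A) :
    ∀ z : A, (∀ d, z * d = d * z) → z = 1 := by
  obtain ⟨e⟩ := h
  have hc : center (alternatingGroup (Fin n)) = ⊥ := by
    exact alternatingGroup.center_eq_bot (by rw [Nat.card_eq_fintype_card, Fintype.card_fin]; omega)
  intro z hz
  have h1 : e z ∈ center (alternatingGroup (Fin n)) := by
    rw [mem_center_iff]
    intro g
    obtain ⟨d, rfl⟩ := e.surjective g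
    rw [← map_mul, ← map_mul, hz]
  rw [hc, mem_bot] at h1
  exact e.injective (h1.trans (map_one e).symm)

end types

section tr

variable {G : Type u} [Group G] [Finite G]

/-- **(PR1)** -/
theorem pr34 (hT : WorldL34 G) : PRG G := by
  intro x z d H hx hz hzx hd hdz hHz hdH hHd hzH
  have hfact : Fact (Nat.Prime 2) := ⟨Nat.prime_two⟩
  obtain ⟨C, hC⟩ : ∃ C : Subgroup G, C = centralizer ({z} : Set G) := ⟨_, rfl⟩
  have hxC : x ∈ C := hC ▸ mem_c hzx.symm
  have hdC : d ∈ C := hC ▸ mem_c hdz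
  have hzC : z ∈ C := hC ▸ mem_c rfl
  rw [← hC] at hHz
  have hdc : d ∈ core (C ⊓ centralizer ({x} : Set G)) := by
    rw [hC]
    exact inf_le_core hd (hC ▸ hdC)
  have hO := Lib.Cores.pPrimeCore_quotient_pPrimeCore (G := ↥C) 2
  obtain ⟨δ, hδ⟩ : ∃ δ, δ = QuotientGroup.mk' (pPrimeCore 2 ↥C) ⟨d, hdC⟩ := ⟨_, rfl⟩
  have hox : orderOf (QuotientGroup.mk' (pPrimeCore 2 ↥C) ⟨x, hxC⟩) = 2 := by
    refine orderOf_eq_prime ?_ ?_
    · rw [← map_pow]
      have : (⟨x, hxC⟩ : ↥C) ^ 2 = 1 := Subtype.ext (by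
        change x ^ 2 = 1
        rw [← hx, pow_orderOf_eq_one])
      rw [this, map_one]
    · intro h
      have h3 : x ∈ core C := (mem_core_iff hxC).mpr ((QuotientGroup.eq_one_iff _).mp h)
      exact ne_one_of_order hx (eq_one_of_mem_core_sq h3 (sq_of_order hx))
  have hδc : δ ∈ centralizerPPrimeCore 2 (QuotientGroup.mk' (pPrimeCore 2 ↥C) ⟨x, hxC⟩) := by
    rw [hδ]
    exact mk_mem_core hxC hx hdc
  have key := abs34 (X := ↥C ⧸ pPrimeCore 2 ↥C) hO (δ := δ)
    (ζ := QuotientGroup.mk' (pPrimeCore 2 ↥C) ⟨z, hzC⟩)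
    (H := (H.subgroupOf C).map (QuotientGroup.mk' (pPrimeCore 2 ↥C)))
    (BalanceAux.core_le_centralizer_pCore 2 _ hox hδc)
    (fun K hK => BalanceAux.core_le_normalizer_component 2 hO _ hox K hK hδc) ?_ ?_ ?_ ?_
  · have h3 : z ∈ core C := (mem_core_iff hzC).mpr ((QuotientGroup.eq_one_iff _).mp key)
    exact ne_one_of_order hz (eq_one_of_mem_core_sq h3 (sq_of_order hz))
  · intro K hK
    obtain ⟨L, hL, rfl⟩ := PConstrained.exists_isPComponent_map_eq 2 hK
    have hLc : IsComp C (L.map C.subtype) := isComp_of_subtype hL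
    have hsub : (L.map C.subtype).subgroupOf C = L :=
      comap_map_eq_self_of_injective C.subtype_injective L
    -- elements fixing `L` and inner elements
    have hfx : ∀ e (he : e ∈ C), Fixes e (L.map C.subtype) → QuotientGroup.mk' (pPrimeCore 2 ↥C) ⟨e, he⟩ ∈
        centralizer ((L.map (QuotientGroup.mk' (pPrimeCore 2 ↥C)) : Subgroup _) :
          Set (↥C ⧸ pPrimeCore 2 ↥C)) := by
      intro e he hf
      have h1 := NodeE.mk_commute hLc he hf
      rw [hsub] at h1
      exact h1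
    -- a moved conjugate gives a triple
    have hTr : ∀ c (hc : c ∈ C), ¬ Fixes (c * d * c⁻¹) (L.map C.subtype) →
        IsTriple x z (IntrinsicBasic.cj c⁻¹ (L.map C.subtype)) := by
      intro c hc hf
      have hf' : ¬ Fixes d (IntrinsicBasic.cj c⁻¹ (L.map C.subtype)) := by
        intro h
        apply hf
        have h1 := h.cj c
        rwa [cj_cj_inv] at h1
      refine ⟨hx, hz, hzx, ?_, d, hd, ?_, hf'⟩
      · rw [← hC]
        exact isComp_cj_of_mem hLc (inv_mem hc)
      · rw [← hC]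
        exact hdC
    have hmk : ∀ c (hc : c ∈ C), QuotientGroup.mk' (pPrimeCore 2 ↥C) ⟨c, hc⟩ * δ *
        (QuotientGroup.mk' (pPrimeCore 2 ↥C) ⟨c, hc⟩)⁻¹ = QuotientGroup.mk' (pPrimeCore 2 ↥C)
          ⟨c * d * c⁻¹, mul_mem (mul_mem hc hdC) (inv_mem hc)⟩ := by
      intro c hc
      rw [hδ, ← map_mul, ← map_inv, ← map_mul]
      rfl
    by_cases hg : ∀ g, g * δ * g⁻¹ ∈ centralizer
        ((L.map (QuotientGroup.mk' (pPrimeCore 2 ↥C)) : Subgroup _) : Set (↥C ⧸ pPrimeCore 2 ↥C))
    · exact Or.inl hg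
    · right
      push Not at hg
      obtain ⟨g, hg⟩ := hg
      obtain ⟨⟨c, hc⟩, rfl⟩ := QuotientGroup.mk'_surjective _ g
      have hf : ¬ Fixes (c * d * c⁻¹) (L.map C.subtype) := by
        intro hf
        apply hg
        rw [hmk c hc]
        exact hfx _ _ hf
      have T := hTr c hc hf
      obtain ⟨e⟩ := exists_equiv hLc
      rw [hsub] at e
      have e' := (cjQuot c⁻¹ (L.map C.subtype)).symm.trans e
      by_cases h2 : IsL2 (Bar (IntrinsicBasic.cj c⁻¹ (L.map C.subtype)))
      · obtain ⟨F, _, _, -, ⟨R⟩⟩ := L2i.exists_rep h2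
        have hG := Good.of_rep (Res.WSupB.tr R e')
        exact ⟨hG.cb, Or.inl hG.out⟩
      · -- inner
        have hnot : ∀ b (hb : b ∈ C), ¬ IsL2 (Bar (IntrinsicBasic.cj b⁻¹ (L.map C.subtype))) := by
          intro b hb h3
          apply h2
          exact L2i.isL2_congr h3 ((cjQuot b⁻¹ (L.map C.subtype)).symm.trans
            (cjQuot c⁻¹ (L.map C.subtype)))
        have hcb : ∀ k : ↥(L.map (QuotientGroup.mk' (pPrimeCore 2 ↥C)) : Subgroup (↥C ⧸ pPrimeCore 2 ↥C)),
            (∀ y, k * y = y * k) → k = 1 := by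
          have hcen : ∀ z' : Bar (IntrinsicBasic.cj c⁻¹ (L.map C.subtype)), (∀ d', z' * d' = d' * z') → z' = 1 := by
            rcases hT _ _ _ T with h3 | h3 | h3 | h3
            · exact absurd h3 h2
            · exact center_alt (by norm_num) h3
            · exact center_alt (by norm_num) h3
            · exact LTF.Comp.center_of_ft (FL34.KF.kf34 _ h3 _ (Res.KFacts.act_sq T) _ (N2S.oddC' T)
                (LTF.Basics.img_ne T))
          intro k hk
          have h3 := hcen (e'.symm k) (by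
            intro d'
            apply e'.injective
            rw [map_mul, map_mul, e'.apply_symm_apply]
            exact hk _)
          rw [← e'.apply_symm_apply k, h3, map_one]
        refine ⟨fun k hk h => ?_, Or.inr ?_⟩
        · exact congrArg Subtype.val (hcb ⟨k, hk⟩ fun y => Subtype.ext (h y y.2))
        · intro g
          obtain ⟨⟨b, hb⟩, rfl⟩ := QuotientGroup.mk'_surjective _ g
          rw [hmk b hb]
          by_cases hfb : Fixes (b * d * b⁻¹) (L.map C.subtype)
          · exact mem_sup_right (hfx _ _ hfb)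
          · have Tb := hTr b hb hfb
            have hin : ∃ l ∈ IntrinsicBasic.cj b⁻¹ (L.map C.subtype),
                Fixes (l⁻¹ * d) (IntrinsicBasic.cj b⁻¹ (L.map C.subtype)) := by
              rcases hT _ _ _ Tb with h3 | h3 | h3 | h3
              · exact absurd h3 (hnot b hb)
              · exact inner_alt (by norm_num) h3 Tb hd (hC ▸ hdC)
              · exact inner_alt (by norm_num) h3 Tb hd (hC ▸ hdC)
              · exact inner_l34 h3 Tb hd (hC ▸ hdC)
            obtain ⟨l, hl, hfl⟩ := hin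
            have h4 := hfl.cj b
            rw [cj_cj_inv] at h4
            have h5 : b * l * b⁻¹ ∈ L.map C.subtype := by
              have h6 : b * l * b⁻¹ ∈ IntrinsicBasic.cj b (IntrinsicBasic.cj b⁻¹ (L.map C.subtype)) :=
                conj_mem_cj hl
              rwa [cj_cj_inv] at h6
            have h5C : b * l * b⁻¹ ∈ C := hLc.le h5
            have h6 : (b * (l⁻¹ * d) * b⁻¹) = (b * l * b⁻¹)⁻¹ * (b * d * b⁻¹) := by group
            rw [h6] at h4
            have h7C : (b * l * b⁻¹)⁻¹ * (b * d * b⁻¹) ∈ C :=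
              mul_mem (inv_mem h5C) (mul_mem (mul_mem hb hdC) (inv_mem hb))
            have h8 : QuotientGroup.mk' (pPrimeCore 2 ↥C)
                (⟨b * d * b⁻¹, mul_mem (mul_mem hb hdC) (inv_mem hb)⟩ : ↥C) =
                QuotientGroup.mk' (pPrimeCore 2 ↥C) ⟨b * l * b⁻¹, h5C⟩ *
                QuotientGroup.mk' (pPrimeCore 2 ↥C) ⟨(b * l * b⁻¹)⁻¹ * (b * d * b⁻¹), h7C⟩ := by
              rw [← map_mul]
              congr 1
              apply Subtype.ext
              change b * d * b⁻¹ = b * l * b⁻¹ * ((b * l * b⁻¹)⁻¹ * (b * d * b⁻¹))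
              group
            rw [h8]
            refine mul_mem (mem_sup_left ?_) (mem_sup_right (hfx _ h7C h4))
            obtain ⟨l', hl', hll⟩ := h5
            refine ⟨l', hl', ?_⟩
            congr 1
            exact Subtype.ext hll
  · intro y
    obtain ⟨⟨c, hc⟩, rfl⟩ := QuotientGroup.mk'_surjective _ y
    rw [← map_mul, ← map_mul]
    congr 1
    apply Subtype.ext
    change z * c = c * z
    rw [hC] at hc
    exact (comm_c hc).symm
  · have h1 : H.subgroupOf C ≤ ⁅H.subgroupOf C, zpowers (⟨d, hdC⟩ : ↥C)⁆ := by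
      have h2 : ⁅H.subgroupOf C, zpowers (⟨d, hdC⟩ : ↥C)⁆.map C.subtype = ⁅H, zpowers d⁆ := by
        rw [map_commutator, subgroupOf_map_subtype, inf_of_le_left hHz, MonoidHom.map_zpowers]
        rfl
      intro h hh
      have h3 : (h : G) ∈ ⁅H, zpowers d⁆ := hHd hh
      rw [← h2] at h3
      obtain ⟨h', h4, h5⟩ := h3
      have h6 : h' = h := Subtype.ext h5
      rw [← h6]
      exact h4
    have h2 := Subgroup.map_mono (f := QuotientGroup.mk' (pPrimeCore 2 ↥C)) h1
    rw [map_commutator, MonoidHom.map_zpowers, ← hδ] at h2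
    exact h2
  · exact ⟨⟨z, hzC⟩, hzH, rfl⟩

end tr

end Cfsg.Agent.UGT.N2W
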