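import Cfsg.Agent.UGT.Res.W1.PR

/-!
# N2, `W ≠ 1`: the abstract part of `PR1` in the world `L₂(q)`, `A₇`, `A₉`, `L₃(4)`

As `Res.W1.PR.abs`, but a component may have a nonabelian outer automorphism group if all conjugates of `δ` act
on it as inner automorphisms.
-/

set_option autoImplicit false

open Cfsg Subgroup
open Cfsg.Agent.SignalizersComponents Cfsg.Agent.Lib
open Cfsg.Agent.SignalizersComponents.IntrinsicBasic
open Cfsg.Agent.Intrinsic.Basic Cfsg.Agent.Intrinsic.Cen Cfsg.Agent.Intrinsic.Diag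
open Cfsg.Agent.McLLyComp.Act
open Cfsg.Agent.UGT.Triple Cfsg.Agent.UGT.Iface Cfsg.Agent.UGT.TriBase
open Cfsg.Agent.UGT.Res.W1.PR
open scoped commutatorElement

namespace Cfsg.Agent.UGT.N2W.PR

variable {X : Type*} [Group X]

/-- centreless, and the outer automorphism group is abelian or the conjugates of `δ` act as inner automorphisms -/
structure Good' (δ : X) (K : Subgroup X) : Prop where
  cb : ∀ k ∈ K, (∀ y ∈ K, k * y = y * k) → k = 1
  out : (∀ a ∈ normalizer (K : Set X), ∀ b ∈ normalizer (K : Set X), ⁅a, b⁆ ∈ K ⊔ centralizer (K : Set X)) ∨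
    ∀ g, g * δ * g⁻¹ ∈ K ⊔ centralizer (K : Set X)

theorem Good'.of_good {δ : X} {K : Subgroup X} (h : Good K) : Good' δ K := ⟨h.cb, Or.inl h.out⟩

variable [Finite X]

omit [Finite X] in
/-- the product of centreless components is centreless -/
theorem eq_one_of_sup' (F : Finset (Subgroup X)) (hF : ∀ K ∈ F, IsComponent K)
    (hG : ∀ K ∈ F, ∀ k ∈ K, (∀ y ∈ K, k * y = y * k) → k = 1) {ζ : X} (hζ : ζ ∈ F.sup id) (hc : ∀ y, ζ * y = y * ζ) : ζ = 1 := by
  classical
  induction F using Finset.induction_on with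
  | empty => exact mem_bot.mp hζ
  | insert K₀ F hn ih =>
    have h₀ := hF K₀ (Finset.mem_insert_self _ _)
    have hF' : ∀ K ∈ F, IsComponent K := fun K hK => hF K (Finset.mem_insert_of_mem hK)
    have hcen := sup_le_centralizer hF' h₀ hn
    rw [Finset.sup_insert, id, sup_comm, mem_sup_comm hcen] at hζ
    obtain ⟨e, he, k, hk, hek⟩ := hζ
    have hk1 : k = 1 := by
      refine hG K₀ (Finset.mem_insert_self _ _) k hk fun y hy => ?_
      have h1 := hc y
      rw [← hek] at h1
      have h2 : y * e = e * y := mem_centralizer_iff.mp (hcen he) y hy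
      apply mul_left_cancel (a := e)
      calc e * (k * y) = e * k * y := by group
        _ = y * (e * k) := h1
        _ = y * e * k := by group
        _ = e * (y * k) := by rw [h2]; group
    rw [hk1, mul_one] at hek
    exact ih hF' (fun K hK => hG K (Finset.mem_insert_of_mem hK)) (hek ▸ he)

/-- **the abstract statement** -/
theorem abs' (hO : pPrimeCore 2 X = ⊥) {δ ζ : X} {H : Subgroup X}
    (h1 : δ ∈ centralizer (pCore 2 X : Set X))
    (h2 : ∀ K : Subgroup X, IsComponent K → δ ∈ normalizer (K : Set X))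
    (h3 : ∀ K : Subgroup X, IsComponent K →
      (∀ g, g * δ * g⁻¹ ∈ centralizer (K : Set X)) ∨ Good' δ K)
    (hζ : ∀ y, ζ * y = y * ζ) (hH : H ≤ ⁅H, zpowers δ⁆) (hz : ζ ∈ H) : ζ = 1 := by
  classical
  have hfact : Fact (Nat.Prime 2) := ⟨Nat.prime_two⟩
  have hfit := BalanceAux.fitting_eq_pCore (X := X) 2 hO
  obtain ⟨P, hP⟩ : ∃ P : Subgroup X, P = normalClosure {δ} := ⟨_, rfl⟩
  have hPn : P.Normal := hP ▸ normalClosure_normal
  have hδP : δ ∈ P := hP ▸ subset_normalClosure rfl
  have hPle : ∀ N : Subgroup X, N.Normal → δ ∈ N → P ≤ N := by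
    intro N hN hd
    rw [hP]
    exact normalClosure_le_normal (by rintro _ rfl; exact hd)
  have hPO : P ≤ centralizer (fittingSubgroup X : Set X) := by
    rw [hfit]
    have : (pCore 2 X).Normal := Lib.Cores.pCore_normal 2
    exact hPle _ inferInstance h1
  -- `P` normalizes the components
  have hPN : ∀ K : Subgroup X, IsComponent K → P ≤ normalizer (K : Set X) := by
    obtain ⟨N, hN⟩ : ∃ N : Subgroup X, ∀ p, p ∈ N ↔ ∀ K : Subgroup X, IsComponent K →
        p ∈ normalizer (K : Set X) :=
      ⟨{ carrier := {p | ∀ K : Subgroup X, IsComponent K → p ∈ normalizer (K : Set X)}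
         mul_mem' := fun ha hb K hK => mul_mem (ha K hK) (hb K hK)
         one_mem' := fun K _ => one_mem _
         inv_mem' := fun ha K hK => inv_mem (ha K hK) }, fun _ => Iff.rfl⟩
    have hNn : N.Normal := by
      refine ⟨fun n hn g => ?_⟩
      rw [hN] at hn ⊢
      intro K hK
      have h4 : IsComponent (IntrinsicBasic.cj g⁻¹ K) := Components.isComponent_conj g⁻¹ hK
      have h5 := hn _ h4
      rw [mem_normalizer_iff_cj] at h5 ⊢
      have h6 := congrArg (IntrinsicBasic.cj g) h5
      rw [cj_cj_inv] at h6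
      rw [cj_mul, cj_mul]
      exact h6
    intro K hK p hp
    exact (hN p).mp (hPle N hNn ((hN δ).mpr h2) hp) K hK
  -- the components not centralized by `P`
  obtain ⟨S, hS⟩ : ∃ S : Finset (Subgroup X), ∀ K, K ∈ S ↔ IsComponent K ∧
      ¬ P ≤ centralizer (K : Set X) := by
    refine ⟨(Set.toFinite {K : Subgroup X | IsComponent K ∧ ¬ P ≤ centralizer (K : Set X)}).toFinset,
      fun K => ?_⟩
    rw [Set.Finite.mem_toFinset]
    rfl
  have hSc : ∀ K ∈ S, IsComponent K := fun K hK => ((hS K).mp hK).1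
  have hSg : ∀ K ∈ S, Good' δ K := by
    intro K hK
    obtain ⟨h4, h5⟩ := (hS K).mp hK
    rcases h3 K h4 with h6 | h6
    · exfalso
      apply h5
      rw [hP, normalClosure, closure_le]
      intro z hz
      obtain ⟨a, ha, hza⟩ := Group.mem_conjugatesOfSet_iff.mp hz
      obtain ⟨c, hc⟩ := isConj_iff.mp hza
      rw [Set.mem_singleton_iff] at ha
      rw [ha] at hc
      rw [← hc]
      exact h6 c
    · exact h6
  obtain ⟨E, hE⟩ : ∃ E : Subgroup X, E = S.sup id := ⟨_, rfl⟩
  have hEL : E ≤ layer X := by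
    rw [hE]
    exact Finset.sup_le fun K hK => Components.component_le_layer (hSc K hK)
  -- `[P, P] ≤ E O_2(X)`
  have hPP : ∀ p ∈ ⁅P, P⁆, ∃ t ∈ E, t⁻¹ * p ∈ fittingSubgroup X := by
    intro p hp
    have h4 : ∀ K ∈ S, p ∈ K ⊔ centralizer (K : Set X) := by
      intro K hK
      have h5 : ⁅P, P⁆ ≤ K ⊔ centralizer (K : Set X) := by
        rcases (hSg K hK).out with ho | ho
        · rw [commutator_le]
          intro a ha b hb
          exact ho a (hPN K (hSc K hK) ha) b (hPN K (hSc K hK) hb)
        · refine (commutator_le_left P P).trans ?_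
          rw [hP, normalClosure, closure_le]
          intro z hz
          obtain ⟨a, ha, hza⟩ := Group.mem_conjugatesOfSet_iff.mp hz
          obtain ⟨c, hc⟩ := isConj_iff.mp hza
          rw [Set.mem_singleton_iff] at ha
          rw [ha] at hc
          rw [← hc]
          exact ho c
      exact h5 hp
    obtain ⟨t, ht, htc⟩ := exists_mul p S hSc h4
    rw [← hE] at ht
    have hpP : p ∈ P := commutator_le_left P P hp
    refine ⟨t, ht, cent_le_fitting ?_⟩
    have hL : layer X ≤ centralizer ({t⁻¹ * p} : Set X) := by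
      rw [Components.layer_le_iff]
      intro K hK
      have h6 : t⁻¹ * p ∈ centralizer (K : Set X) := by
        by_cases hKS : K ∈ S
        · exact htc K hKS
        · have h7 : P ≤ centralizer (K : Set X) := by
            by_contra h8
            exact hKS ((hS K).mpr ⟨hK, h8⟩)
          have h8 : E ≤ centralizer (K : Set X) := hE ▸ sup_le_centralizer hSc hK hKS
          exact mul_mem (inv_mem (h8 ht)) (h7 hpP)
      intro k hk
      rw [mem_centralizer_singleton_iff]
      exact mem_centralizer_iff.mp h6 k hk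
    have hF : fittingSubgroup X ≤ centralizer ({t⁻¹ * p} : Set X) := by
      have h6 : t⁻¹ * p ∈ centralizer (fittingSubgroup X : Set X) :=
        mul_mem (inv_mem (Components.layer_le_centralizer_fitting (hEL ht))) (hPO hpP)
      intro k hk
      rw [mem_centralizer_singleton_iff]
      exact mem_centralizer_iff.mp h6 k hk
    rw [mem_centralizer_iff]
    intro k hk
    exact mem_centralizer_singleton_iff.mp ((sup_le hL hF) hk)
  have hzP : zpowers δ ≤ P := by
    rw [zpowers_le]
    exact hδP
  have hHP : H ≤ P := hH.trans ((commutator_mono le_rfl hzP).trans (commutator_le_right H P))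
  have hHPP : H ≤ ⁅P, P⁆ := hH.trans (commutator_mono hHP hzP)
  have hPE : P ≤ normalizer (E : Set X) := by
    intro p hp
    rw [mem_normalizer_iff_cj, hE]
    have h4 : ∀ K ∈ S, IntrinsicBasic.cj p K = K := fun K hK =>
      mem_normalizer_iff_cj.mp (hPN K (hSc K hK) hp)
    apply Subgroup.eq_of_le_of_card_ge
    · have h5 : IntrinsicBasic.cj p (S.sup id) = S.sup fun K => IntrinsicBasic.cj p K := by
        change (S.sup id).map _ = _
        rw [Finset.apply_sup_eq_sup_comp (fun K : Subgroup X => K.map (MulAut.conj p).toMonoidHom)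
          (fun A B => Subgroup.map_sup A B _) (Subgroup.map_bot _)]
        rfl
      rw [h5]
      exact Finset.sup_le fun K hK => by
        rw [h4 K hK]
        exact Finset.le_sup (f := id) hK
    · rw [card_cj]
  have hHE : H ≤ E := by
    refine hH.trans ?_
    rw [commutator_le]
    intro h hh g hg
    obtain ⟨t, ht, hc⟩ := hPP h (hHPP hh)
    obtain ⟨c, hc'⟩ : ∃ c, c = t⁻¹ * h := ⟨_, rfl⟩
    rw [← hc'] at hc
    have hgc : c * g = g * c := mem_centralizer_iff.mp (hPO (hzP hg)) c hc
    have h4 : ⁅h, g⁆ = t * (g * t⁻¹ * g⁻¹) := by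
      have h5 : h = t * c := by rw [hc']; group
      rw [commutatorElement_def, h5, mul_inv_rev]
      calc t * c * g * (c⁻¹ * t⁻¹) * g⁻¹ = t * (c * g) * c⁻¹ * t⁻¹ * g⁻¹ := by group
        _ = t * (g * c) * c⁻¹ * t⁻¹ * g⁻¹ := by rw [hgc]
        _ = t * (g * t⁻¹ * g⁻¹) := by group
    rw [h4]
    exact mul_mem ht ((mem_normalizer_iff.mp (hPE (hzP hg)) _).mp (inv_mem ht))
  exact eq_one_of_sup' S hSc (fun K hK => (hSg K hK).cb) (hE ▸ hHE hz) hζ

end Cfsg.Agent.UGT.N2W.PR
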