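import Cfsg.Agent.UGT.N2W.Entr
import Cfsg.Agent.UGT.Res.W1.Star

/-!
# The single case (N2, cores, bb #17697 (2), (8)): the configuration over a four-group

`(x, a, L)` a triple of type `L₃(4)`, `Fn W a L`, `NoDbl W`, `t ≠ a` a second involution fixing `L`; `R₀ = ⟨a, t⟩`,
`J = cen L t`.

* `RCfg x a t L W J Lr`: `(x, r, L_r)` is a triple, `Fn W r L_r`, `L_r = J O(L_r)` for `r ∈ R₀#`.
* `exists_rcfg`.
* `RCfg.exists_comp`: the 2-component `K` of `M` containing `L`.
-/

set_option autoImplicit false
set_option linter.unusedSectionVars false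

open Cfsg Subgroup
open Cfsg.Agent.SignalizersComponents Cfsg.Agent.Lib
open Cfsg.Agent.SignalizersComponents.IntrinsicBasic
open Cfsg.Agent.Intrinsic.Basic Cfsg.Agent.Intrinsic.Cen Cfsg.Agent.Intrinsic.Diag
open Cfsg.Agent.McLLyComp.Act
open Cfsg.Agent.UGT.Triple Cfsg.Agent.UGT.PumpGen Cfsg.Agent.UGT.TriBase
open Cfsg.Agent.UGT.A9.Marker
open Cfsg.Agent.UGT.Iface (Bar IsL34)
open Cfsg.Agent.UGT.Res.Base Cfsg.Agent.UGT.Res.Abel Cfsg.Agent.UGT.Res.CoreFree
open Cfsg.Agent.UGT.Res.WFun (el_of_sq el_mono el_sup el_cj el_zpowers mem_zpowers_of_sq mem_zpowers_sup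
  two_mul_card_le card_mul_le_sup exists_commuting isSyl_of_sup)
open Cfsg.Agent.UGT.N2S (TT Typ)
open scoped commutatorElement

namespace Cfsg.Agent.UGT.N2W.Entr

open Fun

universe u

variable {G : Type u} [Group G] [Finite G]

/-- two commuting involutions -/
theorem card_four {u v : G} (hu : orderOf u = 2) (hv : orderOf v = 2) (hne : u ≠ v)
    (hc : u * v = v * u) : Nat.card ↥(zpowers u ⊔ zpowers v : Subgroup G) = 4 := by
  have hu2 := sq_of_order hu
  have hv2 := sq_of_order hv
  have hcc : ∀ b ∈ zpowers v, u * b = b * u := by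
    intro b hb
    rcases (mem_zpowers_of_sq hv2).mp hb with rfl | rfl
    · rw [mul_one, one_mul]
    · exact hc
  have hcc' : ∀ e ∈ zpowers u, ∀ b ∈ zpowers v, e * b = b * e := by
    intro e he b hb
    rcases (mem_zpowers_of_sq hu2).mp he with rfl | rfl
    · rw [mul_one, one_mul]
    · exact hcc b hb
  have hcardu : Nat.card ↥(zpowers u) = 2 := by rw [Nat.card_zpowers, hu]
  have hcardv : Nat.card ↥(zpowers v) = 2 := by rw [Nat.card_zpowers, hv]
  have hinf : zpowers u ⊓ zpowers v = ⊥ := by
    rw [eq_bot_iff]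
    rintro z ⟨h4, h5⟩
    rw [mem_bot]
    rcases (mem_zpowers_of_sq hu2).mp h4 with rfl | rfl
    · rfl
    · rcases (mem_zpowers_of_sq hv2).mp h5 with h | h
      · exact h
      · exact absurd h hne
  have h4 := card_mul_le_sup hinf
  rw [hcardu, hcardv] at h4
  have h5 : Nat.card ↥(zpowers u ⊔ zpowers v : Subgroup G) ∣
      Nat.card ↥(zpowers u) * Nat.card ↥(zpowers v) := by
    refine CoprimeBasic.card_sup_dvd fun z hz => ?_
    have h6 : zpowers u ≤ centralizer ({z} : Set G) := fun e he => mem_c (hcc' e he z hz)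
    exact centralizer_le_normalizer _ (mem_centralizer_iff.mpr fun e he => comm_c (h6 he))
  rw [hcardu, hcardv] at h5
  have h6 := Nat.le_of_dvd (by norm_num) h5
  omega

omit [Finite G] in
theorem cen_mul_eq {a t : G} {L : Subgroup G} (hL : L ≤ centralizer ({a} : Set G)) :
    cen L (a * t) = cen L t := by
  rw [cen, cen]
  congr 1
  ext l
  rw [mem_inf, mem_inf]
  refine and_congr_right fun hl => ?_
  have h1 : l * a = a * l := comm_c (hL hl)
  constructor
  · intro h
    have h2 := comm_c h
    apply mem_c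
    have h3 : a * (l * t) = a * (t * l) := by
      calc a * (l * t) = (a * l) * t := by group
        _ = l * (a * t) := by rw [← h1]; group
        _ = a * (t * l) := by rw [h2]; group
    exact mul_left_cancel h3
  · intro h
    have h2 := comm_c h
    apply mem_c
    calc l * (a * t) = (l * a) * t := by group
      _ = a * (l * t) := by rw [h1]; group
      _ = a * t * l := by rw [h2]; group

/-- the configuration over `R₀ = ⟨a, t⟩` -/
structure RCfg (x a t : G) (L W J : Subgroup G) (Lr : G → Subgroup G) : Prop where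
  T : TT x a L
  ot : orderOf t = 2
  ne : t ≠ a
  ta : t * a = a * t
  tx : t * x = x * t
  fix : Fixes t L
  Jeq : J = cen L t
  card : Nat.card ↥(zpowers a ⊔ zpowers t : Subgroup G) = 4
  sq : ∀ r ∈ zpowers a ⊔ zpowers t, r * r = 1
  La : Lr a = L
  tri : ∀ r ∈ zpowers a ⊔ zpowers t, r ≠ 1 → TT x r (Lr r)
  fn : ∀ r ∈ zpowers a ⊔ zpowers t, r ≠ 1 → Fn W r (Lr r)
  sup : ∀ r ∈ zpowers a ⊔ zpowers t, r ≠ 1 → J ⊔ core (Lr r) = Lr r
  rx : ∀ r ∈ zpowers a ⊔ zpowers t, r * x = x * r
  rJ : ∀ r ∈ zpowers a ⊔ zpowers t, ∀ j ∈ J, r * j = j * r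
  comp : IsComp (centralizer ((zpowers a ⊔ zpowers t : Subgroup G) : Set G)) J

/-- **the configuration** -/
theorem exists_rcfg {W L : Subgroup G} {x a t : G} (Wt : Typ G) (T3 : ThreeBal G) (ND : NoDbl W)
    (T : TT x a L) (F : Fn W a L) (ot : orderOf t = 2) (hne : t ≠ a) (hta : t * a = a * t)
    (htx : t * x = x * t) (htL : Fixes t L) : ∃ Lr, RCfg x a t L W (cen L t) Lr := by
  classical
  have haa := sq_of_order T.inva
  have htt := sq_of_order ot
  obtain ⟨hJ, hs⟩ := isComp_cen T.comp (mem_c hta) htt htL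
  have hac : ∀ z ∈ zpowers t, a * z = z * a := by
    intro z hz
    rcases (mem_zpowers_of_sq htt).mp hz with rfl | rfl
    · rw [mul_one, one_mul]
    · exact hta.symm
  obtain ⟨N, S, F', hN⟩ := pump_fn Wt T3 ND T F ot hne hta htx htL
  have cta : Commute t a := hta
  have ctx : Commute t x := htx
  have cax : Commute a x := T.comm
  have oat : orderOf (a * t) = 2 := order_mul haa htt hta.symm hne.symm
  have hata : a * t ≠ a := by
    intro h
    exact ne_one_of_order ot (mul_eq_left.mp h)
  obtain ⟨N', S', F'', hN'⟩ := pump_fn Wt T3 ND T F oat hata ((Commute.refl a).mul_left cta).eq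
    (cax.mul_left ctx).eq (fixes_mul (fixes_self' T.comp.le) htL)
  rw [cen_mul_eq T.comp.le] at hN'
  have hta1 : t ≠ a := hne
  have hatt : a * t ≠ t := by
    intro h
    exact ne_one_of_order T.inva (mul_eq_right.mp h)
  obtain ⟨Lr, hLr⟩ : ∃ Lr : G → Subgroup G, Lr = fun r => if r = a then L else if r = t then N else N' :=
    ⟨_, rfl⟩
  have e1 : Lr a = L := by rw [hLr]; simp
  have e2 : Lr t = N := by rw [hLr]; simp [hne]
  have e3 : Lr (a * t) = N' := by rw [hLr]; simp [hata, ne_one_of_order T.inva]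
  have hel : IsElementaryAbelian 2 (zpowers a ⊔ zpowers t : Subgroup G) :=
    el_sup (el_zpowers haa) (el_zpowers htt) fun e he f hf => by
      rcases (mem_zpowers_of_sq haa).mp he with rfl | rfl
      · rw [one_mul, mul_one]
      · exact hac f hf
  have key : ∀ r ∈ zpowers a ⊔ zpowers t, r ≠ 1 → r = a ∨ r = t ∨ r = a * t := by
    intro r hr h1
    rcases (mem_zpowers_sup haa hac).mp hr with h2 | h2
    · rcases (mem_zpowers_of_sq htt).mp h2 with h3 | h3
      · exact absurd h3 h1
      · exact Or.inr (Or.inl h3)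
    · rcases (mem_zpowers_of_sq htt).mp h2 with h3 | h3
      · left
        rw [eq_inv_of_mul_eq_one_right h3]
        exact inv_eq_of_mul_eq_one_left haa
      · right; right
        rw [← h3, ← mul_assoc, haa, one_mul]
  have hcomm : ∀ r ∈ zpowers a ⊔ zpowers t, ∀ g : G, a * g = g * a → t * g = g * t → r * g = g * r := by
    intro r hr g h1 h2
    have h3 : zpowers a ⊔ zpowers t ≤ centralizer ({g} : Set G) :=
      sup_le (zpowers_le.mpr (mem_c h1)) (zpowers_le.mpr (mem_c h2))
    exact comm_c (h3 hr)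
  have hcen : centralizer ((zpowers a ⊔ zpowers t : Subgroup G) : Set G) =
      centralizer ({a} : Set G) ⊓ centralizer ({t} : Set G) := by
    ext g
    rw [mem_inf, mem_centralizer_iff]
    constructor
    · intro h
      exact ⟨mem_c (h a (mem_sup_left (mem_zpowers a))).symm,
        mem_c (h t (mem_sup_right (mem_zpowers t))).symm⟩
    · rintro ⟨h2, h3⟩ r hr
      exact hcomm r hr g (comm_c h2).symm (comm_c h3).symm
  refine ⟨Lr, { T := T
                ot := ot
                ne := hne
                ta := hta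
                tx := htx
                fix := htL
                Jeq := rfl
                card := card_four T.inva ot hne.symm hta.symm
                sq := fun r hr => sq_of_el hel hr
                La := e1
                tri := ?_
                fn := ?_
                sup := ?_
                rx := fun r hr => hcomm r hr x T.comm htx
                rJ := fun r hr j hj => hcomm r hr j (comm_c (T.comp.le (cen_le L t hj))).symm
                  (comm_of_mem_cen hj).symm
                comp := hcen ▸ hJ }⟩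
  · intro r hr h1
    rcases key r hr h1 with rfl | rfl | rfl
    · rw [e1]; exact T
    · rw [e2]; exact S
    · rw [e3]; exact S'
  · intro r hr h1
    rcases key r hr h1 with rfl | rfl | rfl
    · rw [e1]; exact F
    · rw [e2]; exact F'
    · rw [e3]; exact F''
  · intro r hr h1
    rcases key r hr h1 with rfl | rfl | rfl
    · rw [e1]; exact hs
    · rw [e2]; exact hN
    · rw [e3]; exact hN'

section cfg

variable {x a t : G} {L W J : Subgroup G} {Lr : G → Subgroup G}

theorem RCfg.haR (_C : RCfg x a t L W J Lr) : a ∈ zpowers a ⊔ zpowers t := mem_sup_left (mem_zpowers a)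

theorem RCfg.Fa (C : RCfg x a t L W J Lr) : Fn W a L := by
  have h1 := C.fn a C.haR (ne_one_of_order C.T.inva)
  rwa [C.La] at h1

/-- **(S0)**: the 2-component of `M = N(W)` containing `L` -/
theorem RCfg.exists_comp (C : RCfg x a t L W J Lr) : ∃ K, IsComp (normalizer (W : Set G)) K ∧ L ≤ K ∧
    a ∈ normalizer (K : Set G) := by
  have hJ : Mkr J := Mkr.of_comp C.comp
  have hle : ∀ r ∈ zpowers a ⊔ zpowers t, r ≠ 1 → J ≤ Lr r := by
    intro r hr h1
    rw [← C.sup r hr h1]
    exact le_sup_left
  obtain ⟨N, hN, hJN⟩ := Res.W1.exists_N C.card C.sq (M := normalizer (W : Set G))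
    (fun r hr h1 => (C.fn r hr h1).cent) hJ (fun r hr h1 => (C.fn r hr h1).comp) hle
  have haM : a ∈ normalizer (W : Set G) := C.Fa.cent (mem_c rfl)
  have haa := sq_of_order C.T.inva
  have hL : IsComp (normalizer (W : Set G) ⊓ centralizer ({a} : Set G)) L := by
    rw [inf_eq_right.mpr C.Fa.cent]
    exact C.T.comp
  have hJL : J ≤ L := by rw [C.Jeq]; exact cen_le L t
  obtain ⟨K, hK, -, h⟩ := McLLyComp.PumpT.exists_pump haM haa hL
  rcases h with ⟨h1, h2⟩ | ⟨h1, h2⟩
  · exact ⟨K, hK, h2, h1⟩
  · exfalso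
    have hd : J ≤ diag (normalizer (W : Set G)) K a := h2 ▸ hJL
    have e1 := eq_of_le hN hJN (mark_diag hJ hK haM haa h1 hd)
    have e2 := eq_of_le hN hJN (mark_diag_cj hJ hK haM haa h1 hd)
    exact h1 (e2.trans e1.symm)

end cfg

end Cfsg.Agent.UGT.N2W.Entr
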